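import Mathlib
import Cfsg.Prelude.Def_Solvable

/-!
Fitting subgroup basics for finite groups:
* `isNilpotent_of_sup_eq_top` : a finite group that is the join of two normal nilpotent subgroups
  is nilpotent (Fitting's theorem).
* `fitting_normal`, `fitting_isNilpotent`, `le_fitting`.
* `pow_index_mem_of_isNilpotent`, `pow_relIndex_mem_of_isNilpotent`.
-/

set_option autoImplicit false

namespace Cfsg.Agent.Lib.Helper71.Fitting

open Subgroup

/-- Iterated commutators `[C, H, H, ..., H]`. -/
def iterComm {G : Type*} [Group G] (C H : Subgroup G) : ℕ → Subgroup G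
  | 0 => C
  | n + 1 => ⁅iterComm C H n, H⁆

/-- In a nilpotent subgroup `H`, a nontrivial subgroup `C ≤ H` normalized by `H` meets the
centralizer of `H` nontrivially. -/
theorem inf_centralizer_ne_bot {G : Type*} [Group G] (H C : Subgroup G)
    (hH : Group.IsNilpotent H) (hCH : C ≤ H) (hC : C ≠ ⊥)
    (hnorm : H ≤ Subgroup.normalizer (C : Set G)) :
    C ⊓ Subgroup.centralizer (H : Set G) ≠ ⊥ := by
  obtain ⟨n, hn⟩ := (Subgroup.isNilpotent_iff_lowerCentralSeries H).1 hH
  obtain ⟨D, hD0, hDs⟩ : ∃ D : ℕ → Subgroup G, D 0 = C ∧ ∀ i, D (i + 1) = ⁅D i, H⁆ :=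
    ⟨iterComm C H, rfl, fun _ => rfl⟩
  have hDC : ∀ i, D i ≤ C := by
    intro i
    induction i with
    | zero => exact le_of_eq hD0
    | succ i ih =>
      rw [hDs]
      exact (Subgroup.commutator_mono ih le_rfl).trans
        (Subgroup.le_normalizer_iff_commutator_le_left.1 hnorm)
  have hDL : ∀ i, D i ≤ H.lowerCentralSeries i := by
    intro i
    induction i with
    | zero => rw [hD0]; exact hCH
    | succ i ih =>
      rw [hDs, Subgroup.lowerCentralSeries_succ]
      exact Subgroup.commutator_mono ih le_rfl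
  have hex : D n = ⊥ := le_bot_iff.1 ((hDL n).trans (le_of_eq hn))
  have hfind : ∀ m, D m = ⊥ → ∃ k, D k ≠ ⊥ ∧ D (k + 1) = ⊥ := by
    intro m
    induction m with
    | zero => intro h0; rw [hD0] at h0; exact absurd h0 hC
    | succ m ihm =>
      intro hm1
      by_cases hm0 : D m = ⊥
      · exact ihm hm0
      · exact ⟨m, hm0, hm1⟩
  obtain ⟨k, hk', hm⟩ := hfind n hex
  rw [hDs, Subgroup.commutator_eq_bot_iff_le_centralizer] at hm
  intro hbot
  apply hk'
  exact le_bot_iff.1 ((le_inf (hDC k) hm).trans (le_of_eq hbot))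

/-- Fitting's theorem for finite groups: the join of two normal nilpotent subgroups is nilpotent
(stated when the join is the whole group). -/
theorem isNilpotent_of_sup_eq_top {G : Type*} [Group G] [Finite G] (A B : Subgroup G)
    [hAn : A.Normal] [hBn : B.Normal]
    (hA : Group.IsNilpotent A) (hB : Group.IsNilpotent B) (h : A ⊔ B = ⊤) :
    Group.IsNilpotent G := by
  induction hc : Nat.card G using Nat.strong_induction_on generalizing G with
  | _ n ih =>
  by_cases hA0 : A = ⊥
  · rw [hA0, bot_sup_eq] at h
    subst h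
    exact Group.isNilpotent_top.1 hB
  -- the centre of `G` is nontrivial
  have hcen : Subgroup.centralizer (A : Set G) ⊓ Subgroup.centralizer (B : Set G) ≤
      Subgroup.center G := by
    intro z hz
    have h1 : A ≤ Subgroup.centralizer ({z} : Set G) := by
      intro a ha
      rw [Subgroup.mem_centralizer_singleton_iff]
      exact hz.1 a ha
    have h2 : B ≤ Subgroup.centralizer ({z} : Set G) := by
      intro b hb
      rw [Subgroup.mem_centralizer_singleton_iff]
      exact hz.2 b hb
    have h3 : (⊤ : Subgroup G) ≤ Subgroup.centralizer ({z} : Set G) := h ▸ sup_le h1 h2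
    rw [Subgroup.mem_center_iff]
    intro g
    have := h3 (Subgroup.mem_top g)
    rw [Subgroup.mem_centralizer_singleton_iff] at this
    exact this
  have hC1 : A ⊓ Subgroup.centralizer (A : Set G) ≠ ⊥ :=
    inf_centralizer_ne_bot A A hA le_rfl hA0 Subgroup.le_normalizer
  have hZ : Subgroup.center G ≠ ⊥ := by
    by_cases h2 : A ⊓ Subgroup.centralizer (A : Set G) ⊓ B = ⊥
    · have hle : A ⊓ Subgroup.centralizer (A : Set G) ≤ Subgroup.centralizer (B : Set G) := by
        intro x hx b hb
        exact (Subgroup.commute_of_normal_of_disjoint _ _ inferInstance inferInstance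
          (disjoint_iff.2 h2) x b hx hb).symm
      intro hbot
      apply hC1
      exact le_bot_iff.1 ((le_inf inf_le_right hle).trans (hcen.trans (le_of_eq hbot)))
    · have h3 := inf_centralizer_ne_bot B (A ⊓ Subgroup.centralizer (A : Set G) ⊓ B) hB
        inf_le_right h2 (by
          have : (A ⊓ Subgroup.centralizer (A : Set G) ⊓ B).Normal := inferInstance
          rw [Subgroup.normalizer_eq_top]
          exact le_top)
      intro hbot
      apply h3
      refine le_bot_iff.1 (le_trans ?_ (hcen.trans (le_of_eq hbot)))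
      exact le_inf (inf_le_left.trans (inf_le_left.trans inf_le_right)) inf_le_right
  -- pass to the quotient by the centre
  have hcard : Nat.card (G ⧸ Subgroup.center G) < n := by
    rw [← hc, Subgroup.card_eq_card_quotient_mul_card_subgroup (Subgroup.center G)]
    apply lt_mul_of_one_lt_right Nat.card_pos
    exact (Subgroup.one_lt_card_iff_ne_bot _).mpr hZ
  have hsurj : Function.Surjective (QuotientGroup.mk' (Subgroup.center G)) :=
    QuotientGroup.mk'_surjective _
  have hAn' : (A.map (QuotientGroup.mk' (Subgroup.center G))).Normal := hAn.map _ hsurj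
  have hBn' : (B.map (QuotientGroup.mk' (Subgroup.center G))).Normal := hBn.map _ hsurj
  have hA' : Group.IsNilpotent (A.map (QuotientGroup.mk' (Subgroup.center G))) :=
    Group.nilpotent_of_surjective ((QuotientGroup.mk' (Subgroup.center G)).subgroupMap A)
      (MonoidHom.subgroupMap_surjective _ _)
  have hB' : Group.IsNilpotent (B.map (QuotientGroup.mk' (Subgroup.center G))) :=
    Group.nilpotent_of_surjective ((QuotientGroup.mk' (Subgroup.center G)).subgroupMap B)
      (MonoidHom.subgroupMap_surjective _ _)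
  have hsup : A.map (QuotientGroup.mk' (Subgroup.center G)) ⊔
      B.map (QuotientGroup.mk' (Subgroup.center G)) = ⊤ := by
    rw [← Subgroup.map_sup, h, Subgroup.map_top_of_surjective _ hsurj]
  have := ih _ hcard (A.map (QuotientGroup.mk' (Subgroup.center G)))
    (B.map (QuotientGroup.mk' (Subgroup.center G))) hA' hB' hsup rfl
  exact Group.of_quotient_center_nilpotent this

/-- The join of two normal nilpotent subgroups of a finite group is nilpotent. -/
theorem isNilpotent_sup {G : Type*} [Group G] [Finite G] (A B : Subgroup G)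
    [hAn : A.Normal] [hBn : B.Normal]
    (hA : Group.IsNilpotent A) (hB : Group.IsNilpotent B) :
    Group.IsNilpotent (A ⊔ B : Subgroup G) := by
  have hA' : Group.IsNilpotent (A.subgroupOf (A ⊔ B)) :=
    (Group.isNilpotent_congr (Subgroup.subgroupOfEquivOfLe (le_sup_left : A ≤ A ⊔ B))).2 hA
  have hB' : Group.IsNilpotent (B.subgroupOf (A ⊔ B)) :=
    (Group.isNilpotent_congr (Subgroup.subgroupOfEquivOfLe (le_sup_right : B ≤ A ⊔ B))).2 hB
  refine isNilpotent_of_sup_eq_top (A.subgroupOf (A ⊔ B)) (B.subgroupOf (A ⊔ B)) hA' hB' ?_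
  rw [← Subgroup.subgroupOf_sup le_sup_left le_sup_right, Subgroup.subgroupOf_self]

/-- The Fitting subgroup is normal. -/
theorem fitting_normal (G : Type*) [Group G] : (Cfsg.fittingSubgroup G).Normal :=
  Subgroup.sSup_normal _ (fun _ h => h.1)

/-- Every normal nilpotent subgroup lies in the Fitting subgroup. -/
theorem le_fitting {G : Type*} [Group G] (N : Subgroup G) (hN : N.Normal)
    (hnil : Group.IsNilpotent N) : N ≤ Cfsg.fittingSubgroup G :=
  le_sSup ⟨hN, hnil⟩

/-- For a finite group, the Fitting subgroup is itself one of the normal nilpotent subgroups. -/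
theorem fitting_isNilpotent (G : Type*) [Group G] [Finite G] :
    Group.IsNilpotent (Cfsg.fittingSubgroup G) := by
  classical
  have hfin : ({N : Subgroup G | N.Normal ∧ Group.IsNilpotent N} : Set (Subgroup G)).Finite :=
    Set.toFinite _
  have hne : ({N : Subgroup G | N.Normal ∧ Group.IsNilpotent N} : Set (Subgroup G)).Nonempty :=
    ⟨⊥, inferInstance, inferInstance⟩
  obtain ⟨M, hM⟩ := hfin.exists_maximal hne
  have hMmem : M.Normal ∧ Group.IsNilpotent M := hM.prop
  have key : Cfsg.fittingSubgroup G = M := by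
    apply le_antisymm
    · apply sSup_le
      intro N hN
      have := hN.1
      have := hMmem.1
      have h1 : (M ⊔ N) ∈ {N : Subgroup G | N.Normal ∧ Group.IsNilpotent N} :=
        ⟨inferInstance, isNilpotent_sup M N hMmem.2 hN.2⟩
      exact le_sup_right.trans (hM.le_of_ge h1 le_sup_left)
    · exact le_sSup hMmem
  rw [key]
  exact hMmem.2

/-- In a finite nilpotent group, `x ^ [N : Q] ∈ Q` for every subgroup `Q`. -/
theorem pow_index_mem_of_isNilpotent {N : Type*} [Group N] [Finite N] [hN : Group.IsNilpotent N]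
    (Q : Subgroup N) (x : N) : x ^ Q.index ∈ Q := by
  induction hi : Q.index using Nat.strong_induction_on generalizing Q with
  | _ n ih =>
  by_cases hQ : Q = ⊤
  · rw [hQ]; exact Subgroup.mem_top _
  have hnc := Group.normalizerCondition_of_isNilpotent (G := N) Q (lt_top_iff_ne_top.2 hQ)
  have hle : Q ≤ Subgroup.normalizer (Q : Set N) := hnc.le
  have hidx : Q.relIndex (Subgroup.normalizer (Q : Set N)) * (Subgroup.normalizer (Q : Set N)).index
      = Q.index := Subgroup.relIndex_mul_index hle
  have hrel : Q.relIndex (Subgroup.normalizer (Q : Set N)) ≠ 1 := by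
    intro h1
    rw [Subgroup.relIndex_eq_one] at h1
    exact (not_le_of_gt hnc) h1
  have hpos : (Subgroup.normalizer (Q : Set N)).index ≠ 0 := Subgroup.index_ne_zero_of_finite
  have hrel0 : Q.relIndex (Subgroup.normalizer (Q : Set N)) ≠ 0 := by
    intro h0
    have : Q.index = 0 := by rw [← hidx, h0, zero_mul]
    exact Subgroup.index_ne_zero_of_finite this
  have hlt : (Subgroup.normalizer (Q : Set N)).index < n := by
    rw [← hi, ← hidx]
    have : 2 ≤ Q.relIndex (Subgroup.normalizer (Q : Set N)) := by omega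
    nlinarith [Nat.pos_of_ne_zero hpos]
  have h1 := ih _ hlt (Subgroup.normalizer (Q : Set N)) rfl
  have h2 := Subgroup.pow_index_mem (Q.subgroupOf (Subgroup.normalizer (Q : Set N)))
    ⟨_, h1⟩
  rw [Subgroup.mem_subgroupOf] at h2
  have h3 : (x ^ (Subgroup.normalizer (Q : Set N)).index) ^
      Q.relIndex (Subgroup.normalizer (Q : Set N)) ∈ Q := h2
  rw [← pow_mul, mul_comm, hidx, hi] at h3
  exact h3

/-- Relative form: if `N` is a nilpotent subgroup of a finite group and `x ∈ N` then
`x ^ Q.relIndex N ∈ Q` for every subgroup `Q`. -/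
theorem pow_relIndex_mem_of_isNilpotent {G : Type*} [Group G] [Finite G] (N : Subgroup G)
    (hN : Group.IsNilpotent N) (Q : Subgroup G) {x : G} (hx : x ∈ N) :
    x ^ Q.relIndex N ∈ Q := by
  have := pow_index_mem_of_isNilpotent (Q.subgroupOf N) ⟨x, hx⟩
  rw [Subgroup.mem_subgroupOf] at this
  exact this

/-- If `K` is normal then `[K : H ⊓ K]` divides `[G : H]`. -/
theorem relIndex_dvd_index_of_normal_right {G : Type*} [Group G] [Finite G] (H K : Subgroup G)
    [K.Normal] : H.relIndex K ∣ H.index := by
  have h1 : H.relIndex (H ⊔ K) ∣ H.index := Subgroup.relIndex_dvd_index_of_le le_sup_left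
  have h2 : H.relIndex K ∣ H.relIndex (H ⊔ K) := by
    have e1 := Subgroup.relIndex_mul_relIndex (H ⊓ K) K (H ⊔ K) inf_le_right le_sup_right
    have e2 := Subgroup.relIndex_mul_relIndex (H ⊓ K) H (H ⊔ K) inf_le_left le_sup_left
    rw [Subgroup.inf_relIndex_right] at e1
    rw [Subgroup.inf_relIndex_left] at e2
    have e3 : K.relIndex (H ⊔ K) = K.relIndex H := Subgroup.relIndex_sup_right H K
    rw [e3] at e1
    -- e1 : H.relIndex K * K.relIndex H = (H ⊓ K).relIndex (H ⊔ K)
    -- e2 : K.relIndex H * H.relIndex (H ⊔ K) = (H ⊓ K).relIndex (H ⊔ K)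
    have hne : K.relIndex H ≠ 0 := by
      intro h0
      have : (K.subgroupOf H).index = 0 := h0
      exact Subgroup.index_ne_zero_of_finite this
    have e4 : K.relIndex H * H.relIndex K = K.relIndex H * H.relIndex (H ⊔ K) := by
      rw [mul_comm, e1, e2]
    exact dvd_of_eq (Nat.eq_of_mul_eq_mul_left (Nat.pos_of_ne_zero hne) e4)
  exact h2.trans h1

/-- Elements of the Fitting subgroup of a finite group satisfy `x ^ [G : H] ∈ H` for all `H`. -/
theorem pow_index_mem_of_mem_fitting {G : Type*} [Group G] [Finite G] {x : G}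
    (hx : x ∈ Cfsg.fittingSubgroup G) (H : Subgroup G) : x ^ H.index ∈ H := by
  have := fitting_normal G
  have h1 := pow_relIndex_mem_of_isNilpotent (Cfsg.fittingSubgroup G) (fitting_isNilpotent G) H hx
  obtain ⟨k, hk⟩ := relIndex_dvd_index_of_normal_right H (Cfsg.fittingSubgroup G)
  rw [hk, pow_mul]
  exact H.pow_mem h1 k

end Cfsg.Agent.Lib.Helper71.Fitting
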