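import Mathlib
import Cfsg.Agent.Lib.Helper54.FpfNorm

set_option autoImplicit false

namespace Cfsg.Agent.Lib.Helper71.FpfPGroup

open Subgroup

/-- A normal subgroup `Γ₁` of a finite `p`-group not contained in the normal subgroup `K` contains
an element that is central of order `p` modulo `K`. -/
theorem exists_central_elt {Γ : Type*} [Group Γ] [Finite Γ] {p : ℕ} [hp : Fact p.Prime]
    (hΓ : IsPGroup p Γ) (Γ₁ K : Subgroup Γ) [Γ₁.Normal] [K.Normal] (h : ¬ Γ₁ ≤ K) :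
    ∃ z ∈ Γ₁, z ∉ K ∧ z ^ p ∈ K ∧ ∀ g : Γ, g * z * g⁻¹ * z⁻¹ ∈ K := by
  classical
  let π := QuotientGroup.mk' K
  let N : Subgroup (Γ ⧸ K) := Γ₁.map π
  have hNn : N.Normal := Subgroup.Normal.map inferInstance π (QuotientGroup.mk'_surjective K)
  have hΓq : IsPGroup p (Γ ⧸ K) := hΓ.to_quotient K
  have hNne : N ≠ ⊥ := by
    intro h0
    apply h
    intro x hx
    have : π x ∈ N := Subgroup.mem_map_of_mem π hx
    rw [h0, Subgroup.mem_bot] at this
    exact (QuotientGroup.eq_one_iff x).mp this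
  let _ : MulAction (Γ ⧸ K) ↥N :=
    MulAction.compHom ↥N (MulAut.conjNormal : (Γ ⧸ K) →* MulAut ↥N)
  have hsmul : ∀ (g : Γ ⧸ K) (n : ↥N), ((g • n : ↥N) : Γ ⧸ K) = g * n * g⁻¹ := fun g n => rfl
  have hNp : IsPGroup p N := hΓq.to_subgroup N
  have hNnt : Nontrivial ↥N := (Subgroup.nontrivial_iff_ne_bot N).mpr hNne
  have hdvd : p ∣ Nat.card ↥N := by
    obtain ⟨n, hn0, hn⟩ := hNp.nontrivial_iff_card.mp hNnt
    rw [hn]; exact dvd_pow_self _ (Nat.pos_iff_ne_zero.mp hn0)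
  obtain ⟨b, hb, hb1⟩ := hΓq.exists_fixed_point_of_prime_dvd_card_of_fixed_point ↥N hdvd
    (a := 1) (by
      intro g
      apply Subtype.ext
      rw [hsmul]; simp)
  have hb1' : b ≠ 1 := fun h => hb1 h.symm
  obtain ⟨m, hm1, hm2⟩ :=
    Cfsg.Agent.Lib.Helper54.UniqueSubgroup.exists_pow_prime hNp hb1'
  have hcent : ∀ g : Γ ⧸ K, g * ((b ^ m : ↥N) : Γ ⧸ K) * g⁻¹ = ((b ^ m : ↥N) : Γ ⧸ K) := by
    intro g
    have h1 : g • b = b := hb g
    have h2 : g * (b : Γ ⧸ K) * g⁻¹ = b := by rw [← hsmul, h1]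
    rw [Subgroup.coe_pow, ← conj_pow, h2]
  obtain ⟨z, hz, hzb⟩ := (b ^ m).2
  refine ⟨z, hz, ?_, ?_, ?_⟩
  · intro hzK
    apply hm1
    apply Subtype.ext
    rw [← hzb]
    exact (QuotientGroup.eq_one_iff z).mpr hzK
  · apply (QuotientGroup.eq_one_iff _).mp
    have : ((b ^ m : ↥N) : Γ ⧸ K) ^ p = 1 := by
      have := congrArg Subtype.val hm2
      simpa using this
    rw [← hzb] at this
    show π (z ^ p) = 1
    rw [map_pow]; exact this
  · intro g
    apply (QuotientGroup.eq_one_iff _).mp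
    have := hcent (π g)
    rw [← hzb] at this
    show π (g * z * g⁻¹ * z⁻¹) = 1
    rw [map_mul, map_mul, map_mul, map_inv, map_inv, this, mul_inv_cancel]

section action

variable {Γ W : Type*} [Group Γ] [CommGroup W]

/-- restriction of an action by automorphisms to an invariant subgroup -/
def resAut (φ : Γ →* MulAut W) (V : Subgroup W) (hV : ∀ g w, w ∈ V → φ g w ∈ V) :
    Γ →* MulAut ↥V where
  toFun g :=
    { toFun := fun v => ⟨φ g v, hV g v v.2⟩
      invFun := fun v => ⟨φ g⁻¹ v, hV g⁻¹ v v.2⟩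
      left_inv := fun v => Subtype.ext (by
        show φ g⁻¹ (φ g v) = v
        rw [← MulAut.mul_apply, ← map_mul, inv_mul_cancel, map_one]; rfl)
      right_inv := fun v => Subtype.ext (by
        show φ g (φ g⁻¹ v) = v
        rw [← MulAut.mul_apply, ← map_mul, mul_inv_cancel, map_one]; rfl)
      map_mul' := fun v w => Subtype.ext (by simp) }
  map_one' := by
    ext v
    simp
  map_mul' g h := by
    ext v
    simp

@[simp] theorem resAut_apply (φ : Γ →* MulAut W) (V : Subgroup W)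
    (hV : ∀ g w, w ∈ V → φ g w ∈ V) (g : Γ) (v : ↥V) :
    ((resAut φ V hV g v : ↥V) : W) = φ g v := rfl

/-- automorphisms as endomorphisms -/
def autToEnd (M : Type*) [Group M] : MulAut M →* Monoid.End M where
  toFun e := e.toMonoidHom
  map_one' := rfl
  map_mul' _ _ := rfl

@[simp] theorem autToEnd_apply (M : Type*) [Group M] (e : MulAut M) (m : M) :
    autToEnd M e m = e m := rfl

/-- **Irreducible case.** A `p`-group `Γ` acts on the abelian group `W`, `V` is an invariant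
subgroup without `p`-torsion all of whose proper invariant subgroups are trivial, `Γ₁` is a normal
subgroup not acting trivially on `V`, and for every `z ∈ Γ₁` there is `x` such that all
`x * z ^ k` (`k < p`) have `p`-th power `1` and no nontrivial fixed point on `V`: impossible. -/
theorem false_of_irred [Finite Γ] {p : ℕ} [hp : Fact p.Prime] (hΓ : IsPGroup p Γ)
    (φ : Γ →* MulAut W) (V : Subgroup W) (hV : ∀ g w, w ∈ V → φ g w ∈ V)
    (hVp : ∀ v ∈ V, v ^ p = 1 → v = 1) (Γ₁ : Subgroup Γ) [Γ₁.Normal]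
    (h1 : ∃ u ∈ Γ₁, ∃ v ∈ V, φ u v ≠ v)
    (h2 : ∀ C : Subgroup W, C ≤ V → (∀ g w, w ∈ C → φ g w ∈ C) → C ≠ V → C = ⊥)
    (h3 : ∀ z ∈ Γ₁, ∃ x : Γ, ∀ k < p,
      (x * z ^ k) ^ p = 1 ∧ ∀ v ∈ V, φ (x * z ^ k) v = v → v = 1) : False := by
  classical
  set ψ : Γ →* MulAut ↥V := resAut φ V hV with hψ
  have hK : ¬ Γ₁ ≤ ψ.ker := by
    intro hle
    obtain ⟨u, hu, v, hv, huv⟩ := h1
    apply huv
    have h4 : ψ u = 1 := MonoidHom.mem_ker.mp (hle hu)
    have h5 : ψ u ⟨v, hv⟩ = ⟨v, hv⟩ := by rw [h4]; rfl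
    exact congrArg Subtype.val h5
  obtain ⟨z, hz, hzK, hzp, hzc⟩ := exists_central_elt hΓ Γ₁ ψ.ker hK
  have hz1 : ψ z ≠ 1 := fun h => hzK (MonoidHom.mem_ker.mpr h)
  have hzp' : ψ z ^ p = 1 := by rw [← map_pow]; exact MonoidHom.mem_ker.mp hzp
  have hcomm : ∀ g : Γ, ψ g * ψ z = ψ z * ψ g := by
    intro g
    have h4 : ψ (g * z * g⁻¹ * z⁻¹) = 1 := MonoidHom.mem_ker.mp (hzc g)
    rw [map_mul, map_mul, map_mul, map_inv, map_inv] at h4
    calc ψ g * ψ z = (ψ g * ψ z * (ψ g)⁻¹ * (ψ z)⁻¹) * (ψ z * ψ g) := by group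
      _ = ψ z * ψ g := by rw [h4, one_mul]
  have hord : orderOf (ψ z) = p := orderOf_eq_prime hzp' hz1
  -- powers of z act fixed-point-freely
  have hfix : ∀ i, 0 < i → i < p → ∀ v : ↥V, (ψ z ^ i) v = v → v = 1 := by
    intro i hi0 hip v hv
    have hne : ψ z ^ i ≠ 1 := by
      intro h
      have := orderOf_dvd_of_pow_eq_one h
      rw [hord] at this
      exact absurd (Nat.le_of_dvd hi0 this) (not_le.mpr hip)
    let C : Subgroup W :=
      { carrier := {w | ∃ hw : w ∈ V, (ψ z ^ i) ⟨w, hw⟩ = ⟨w, hw⟩}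
        one_mem' := ⟨V.one_mem, by
          have : (⟨1, V.one_mem⟩ : ↥V) = 1 := rfl
          rw [this, map_one]⟩
        mul_mem' := by
          rintro a b ⟨ha, ha'⟩ ⟨hb, hb'⟩
          refine ⟨V.mul_mem ha hb, ?_⟩
          have : (⟨a * b, V.mul_mem ha hb⟩ : ↥V) = ⟨a, ha⟩ * ⟨b, hb⟩ := rfl
          rw [this, map_mul, ha', hb']
        inv_mem' := by
          rintro a ⟨ha, ha'⟩
          refine ⟨V.inv_mem ha, ?_⟩
          have : (⟨a⁻¹, V.inv_mem ha⟩ : ↥V) = (⟨a, ha⟩ : ↥V)⁻¹ := rfl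
          rw [this, map_inv, ha'] }
    have hCV : C ≤ V := fun w hw => hw.1
    have hCinv : ∀ g w, w ∈ C → φ g w ∈ C := by
      rintro g w ⟨hw, hw'⟩
      refine ⟨hV g w hw, ?_⟩
      have h4 : (⟨φ g w, hV g w hw⟩ : ↥V) = ψ g ⟨w, hw⟩ := rfl
      have h5 : ψ g * ψ z ^ i = ψ z ^ i * ψ g := by
        have : Commute (ψ g) (ψ z) := hcomm g
        exact (this.pow_right i).eq
      rw [h4, ← MulAut.mul_apply, ← h5, MulAut.mul_apply, hw']
    have hCne : C ≠ V := by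
      intro hCV'
      apply hne
      ext w
      have hw : (w : W) ∈ C := by rw [hCV']; exact w.2
      obtain ⟨hw1, hw2⟩ := hw
      have := congrArg Subtype.val hw2
      simpa using this
    have hCbot := h2 C hCV hCinv hCne
    have hvC : (v : W) ∈ C := ⟨v.2, hv⟩
    rw [hCbot, Subgroup.mem_bot] at hvC
    exact Subtype.ext hvC
  obtain ⟨x, hx⟩ := h3 z hz
  have hxp : x ^ p = 1 := by
    have := (hx 0 hp.out.pos).1
    simpa using this
  have hmain := Cfsg.Agent.Lib.Helper54.FpfNorm.pow_eq_one_of_fpf_end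
    (M := ↥V) (fun a b => mul_comm a b)
    (autToEnd ↥V (ψ x)) (autToEnd ↥V (ψ z)) ((show Commute (ψ x) (ψ z) from hcomm x).map (autToEnd ↥V)) p
    (by rw [← map_pow, ← map_pow, hxp, map_one, map_one])
    (by rw [← map_pow, hzp', map_one])
    (by
      intro k hk v hv
      rw [← map_pow, ← map_mul, ← map_pow, ← map_mul] at hv
      have h4 := (hx k hk).2 v v.2 (congrArg Subtype.val hv)
      exact Subtype.ext h4)
    (by
      intro i hi0 hip v hv
      rw [← map_pow] at hv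
      exact hfix i hi0 hip v hv)
  obtain ⟨u, hu, v, hv, huv⟩ := h1
  apply huv
  have h6 : v = 1 := hVp v hv (by
    have := congrArg Subtype.val (hmain ⟨v, hv⟩)
    simpa using this)
  rw [h6, map_one]

theorem eq_one_of_pow_prime_pow {p : ℕ} (hW : ∀ w : W, w ^ p = 1 → w = 1) (j : ℕ) (w : W)
    (h : w ^ p ^ j = 1) : w = 1 := by
  induction j with
  | zero => simpa using h
  | succ j ih =>
    apply ih
    apply hW
    rw [← pow_mul, ← pow_succ]; exact h

/-- A `p`-group `Γ` acting on a nontrivial abelian group without `p`-torsion such that every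
element outside `Γ₀` has `p`-th power `1` and no nontrivial fixed point: `Γ₀` has index at most
`p`. -/
theorem index_le_of_fpf [Finite Γ] [Finite W] [Nontrivial W] {p : ℕ} [hp : Fact p.Prime]
    (hΓ : IsPGroup p Γ) (φ : Γ →* MulAut W) (hW : ∀ w : W, w ^ p = 1 → w = 1) (Γ₀ : Subgroup Γ)
    (h : ∀ g, g ∉ Γ₀ → g ^ p = 1 ∧ ∀ w, φ g w = w → w = 1) : Γ₀.index ≤ p := by
  classical
  by_contra hlt
  push Not at hlt
  let 𝒮 : Set (Subgroup W) := {V | V ≠ ⊥ ∧ ∀ g w, w ∈ V → φ g w ∈ V}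
  have h𝒮 : 𝒮.Nonempty := ⟨⊤, top_ne_bot, fun _ _ _ => Subgroup.mem_top _⟩
  obtain ⟨V, hVm⟩ := (Set.toFinite 𝒮).exists_minimal h𝒮
  obtain ⟨hVne, hVinv⟩ := hVm.prop
  have hΓ₀ : Γ₀ ≠ ⊤ := by
    intro h0
    rw [h0, Subgroup.index_top] at hlt
    exact absurd hlt (not_lt.mpr hp.out.one_lt.le)
  obtain ⟨g₀, hg₀⟩ : ∃ g, g ∉ Γ₀ := by
    by_contra hall
    push Not at hall
    exact hΓ₀ (eq_top_iff.mpr fun x _ => hall x)
  obtain ⟨v₀, hv₀, hv₀1⟩ : ∃ v ∈ V, v ≠ 1 := by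
    by_contra hall
    push Not at hall
    exact hVne (eq_bot_iff.mpr fun x hx => Subgroup.mem_bot.mpr (hall x hx))
  apply false_of_irred hΓ φ V hVinv (fun v _ => hW v) ⊤
  · exact ⟨g₀, Subgroup.mem_top _, v₀, hv₀, fun h0 => hv₀1 ((h g₀ hg₀).2 v₀ h0)⟩
  · intro C hCV hCinv hCne
    by_contra hCbot
    exact hCne (le_antisymm hCV (hVm.le_of_le ⟨hCbot, hCinv⟩ hCV))
  · intro z _
    have hex : ∃ x : Γ, ∀ k < p, x * z ^ k ∉ Γ₀ := by
      by_contra hno
      push Not at hno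
      have hin : ∀ x : Γ, ∃ k : Fin p, x * z ^ (k : ℕ) ∈ Γ₀ := by
        intro x
        obtain ⟨k, hk, hk'⟩ := hno x
        exact ⟨⟨k, hk⟩, hk'⟩
      choose k hk using hin
      let f : Γ → Fin p × Γ₀ := fun x => (k x, ⟨x * z ^ (k x : ℕ), hk x⟩)
      have hf : Function.Injective f := by
        intro x y hxy
        have h5 : k x = k y := congrArg Prod.fst hxy
        have h6 : x * z ^ (k x : ℕ) = y * z ^ (k y : ℕ) := congrArg (fun t => (t.2 : Γ)) hxy
        rw [h5] at h6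
        exact mul_right_cancel h6
      have hcard := Nat.card_le_card_of_injective f hf
      rw [Nat.card_prod, Nat.card_fin, ← Subgroup.card_mul_index Γ₀] at hcard
      have hpos : 0 < Nat.card Γ₀ := Nat.card_pos
      nlinarith
    obtain ⟨x, hx⟩ := hex
    exact ⟨x, fun k hk => ⟨(h _ (hx k hk)).1, fun v _ hv => (h _ (hx k hk)).2 v hv⟩⟩

/-- A `p`-group `Γ` acting on an abelian group without `p`-torsion, `Γ₀` a normal subgroup and
`y` an element such that every element of the coset `y Γ₀` has `p`-th power `1` and no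
nontrivial fixed point: then `Γ₀` acts trivially. -/
theorem trivial_of_fpf [Finite Γ] [Finite W] {p : ℕ} [hp : Fact p.Prime] (hΓ : IsPGroup p Γ)
    (φ : Γ →* MulAut W) (hW : ∀ w : W, w ^ p = 1 → w = 1) (Γ₀ : Subgroup Γ) [hn : Γ₀.Normal]
    (y : Γ) (h : ∀ u ∈ Γ₀, (y * u) ^ p = 1 ∧ ∀ w, φ (y * u) w = w → w = 1) :
    ∀ u ∈ Γ₀, ∀ w, φ u w = w := by
  classical
  by_contra hcon
  push Not at hcon
  let 𝒮 : Set (Subgroup W) :=
    {V | (∀ g w, w ∈ V → φ g w ∈ V) ∧ ∃ u ∈ Γ₀, ∃ v ∈ V, φ u v ≠ v}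
  have h𝒮 : 𝒮.Nonempty := by
    obtain ⟨u, hu, w, hw⟩ := hcon
    exact ⟨⊤, fun _ _ _ => Subgroup.mem_top _, u, hu, w, Subgroup.mem_top _, hw⟩
  obtain ⟨V, hVm⟩ := (Set.toFinite 𝒮).exists_minimal h𝒮
  obtain ⟨hVinv, hVact⟩ := hVm.prop
  have : Fintype Γ₀ := Fintype.ofFinite _
  let ν : W → W := fun w => ∏ u : Γ₀, φ (u : Γ) w
  have hν_mul : ∀ a b, ν (a * b) = ν a * ν b := by
    intro a b
    simp only [ν, map_mul]
    exact Finset.prod_mul_distrib
  have hν_one : ν 1 = 1 := by simp [ν]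
  have hν_inv : ∀ a, ν a⁻¹ = (ν a)⁻¹ := by
    intro a
    apply eq_inv_of_mul_eq_one_left
    rw [← hν_mul, inv_mul_cancel, hν_one]
  have hν_pow : ∀ a (n : ℕ), ν (a ^ n) = ν a ^ n := by
    intro a n
    induction n with
    | zero => simpa using hν_one
    | succ n ih => rw [pow_succ, hν_mul, ih, pow_succ]
  have hν_fix : ∀ u₀ ∈ Γ₀, ∀ w, φ u₀ (ν w) = ν w := by
    intro u₀ hu₀ w
    simp only [ν, map_prod]
    exact Fintype.prod_equiv (Equiv.mulLeft (⟨u₀, hu₀⟩ : Γ₀)) _ _ (fun u => by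
      show φ u₀ (φ (u : Γ) w) = φ (((⟨u₀, hu₀⟩ : Γ₀) * u : Γ₀) : Γ) w
      rw [Subgroup.coe_mul, map_mul, MulAut.mul_apply])
  have hν_comm : ∀ (g : Γ) w, φ g (ν w) = ν (φ g w) := by
    intro g w
    simp only [ν, map_prod]
    let e : Γ₀ ≃ Γ₀ :=
      { toFun := fun u => ⟨g * u * g⁻¹, hn.conj_mem u u.2 g⟩
        invFun := fun u => ⟨g⁻¹ * u * g, by simpa using hn.conj_mem u u.2 g⁻¹⟩
        left_inv := fun u => Subtype.ext (by simp [mul_assoc])
        right_inv := fun u => Subtype.ext (by simp [mul_assoc]) }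
    exact Fintype.prod_equiv e _ _ (fun u => by
      show φ g (φ (u : Γ) w) = φ (g * u * g⁻¹) (φ g w)
      rw [← MulAut.mul_apply, ← MulAut.mul_apply, ← map_mul, ← map_mul]
      congr 2
      group)
  have hν_mem : ∀ v ∈ V, ν v ∈ V := fun v hv => Subgroup.prod_mem V (fun u _ => hVinv u v hv)
  have hν_of_fix : ∀ w, (∀ u ∈ Γ₀, φ u w = w) → ν w = w ^ Nat.card Γ₀ := by
    intro w hw
    simp only [ν]
    rw [Finset.prod_congr rfl (fun (u : Γ₀) _ => hw (u : Γ) u.2)]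
    simp [Finset.prod_const, Nat.card_eq_fintype_card]
  obtain ⟨j, hj⟩ : ∃ j, Nat.card Γ₀ = p ^ j := IsPGroup.iff_card.mp (hΓ.to_subgroup Γ₀)
  have htors : ∀ w : W, w ^ Nat.card Γ₀ = 1 → w = 1 := by
    rw [hj]
    exact fun w hw => eq_one_of_pow_prime_pow hW j w hw
  have hν1 : ∀ v ∈ V, ν v = 1 := by
    let V₁ : Subgroup W :=
      { carrier := {v | v ∈ V ∧ ν v = 1}
        one_mem' := ⟨V.one_mem, hν_one⟩
        mul_mem' := by
          rintro a b ⟨ha, ha'⟩ ⟨hb, hb'⟩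
          exact ⟨V.mul_mem ha hb, by rw [hν_mul, ha', hb', mul_one]⟩
        inv_mem' := by
          rintro a ⟨ha, ha'⟩
          exact ⟨V.inv_mem ha, by rw [hν_inv, ha', inv_one]⟩ }
    have hV₁V : V₁ ≤ V := fun v hv => hv.1
    have hV₁inv : ∀ g w, w ∈ V₁ → φ g w ∈ V₁ := fun g w hw =>
      ⟨hVinv g w hw.1, by rw [← hν_comm, hw.2, map_one]⟩
    by_cases hV₁ : V₁ ∈ 𝒮
    · intro v hv
      exact (hVm.le_of_le hV₁ hV₁V hv).2
    · exfalso
      have htriv : ∀ u ∈ Γ₀, ∀ v ∈ V₁, φ u v = v := by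
        intro u hu v hv
        by_contra hne
        exact hV₁ ⟨hV₁inv, u, hu, v, hv, hne⟩
      obtain ⟨u₀, hu₀, v, hv, huv⟩ := hVact
      apply huv
      have hνν : ν (ν v) = ν v ^ Nat.card Γ₀ := hν_of_fix (ν v) (fun u hu => hν_fix u hu v)
      have ht : v ^ Nat.card Γ₀ * (ν v)⁻¹ ∈ V₁ := by
        refine ⟨V.mul_mem (V.pow_mem hv _) (V.inv_mem (hν_mem v hv)), ?_⟩
        rw [hν_mul, hν_pow, hν_inv, hνν, mul_inv_cancel]
      have h5 := htriv u₀ hu₀ _ ht
      rw [map_mul, map_inv, hν_fix u₀ hu₀ v, map_pow] at h5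
      have h6 : φ u₀ v ^ Nat.card Γ₀ = v ^ Nat.card Γ₀ := mul_right_cancel h5
      have h7 : (φ u₀ v * v⁻¹) ^ Nat.card Γ₀ = 1 := by
        rw [mul_pow, inv_pow, h6, mul_inv_cancel]
      exact mul_inv_eq_one.mp (htors _ h7)
  have hfixV : ∀ v ∈ V, (∀ u ∈ Γ₀, φ u v = v) → v = 1 := by
    intro v hv hfix
    apply htors
    rw [← hν_of_fix v hfix]
    exact hν1 v hv
  apply false_of_irred hΓ φ V hVinv (fun v _ => hW v) Γ₀ hVact
  · intro C hCV hCinv hCne
    by_contra hCbot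
    have hC𝒮 : C ∉ 𝒮 := fun hC => hCne (le_antisymm hCV (hVm.le_of_le hC hCV))
    apply hCbot
    rw [eq_bot_iff]
    intro c hc
    rw [Subgroup.mem_bot]
    apply hfixV c (hCV hc)
    intro u hu
    by_contra hne
    exact hC𝒮 ⟨hCinv, u, hu, c, hc, hne⟩
  · intro z hz
    exact ⟨y, fun k _ => ⟨(h _ (Γ₀.pow_mem hz k)).1,
      fun v _ hv => (h _ (Γ₀.pow_mem hz k)).2 v hv⟩⟩

end action

section frob

variable {F W : Type*} [Group F] [CommGroup W]

/-- **Norm argument.** `N` is a finite subgroup normalized by `y`, the powers `y ^ i`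
(`0 < i < p`) centralize no nontrivial element of `N`, the order of `W` is prime to that of `N`,
and the norm `∏ i < p, y ^ i` is trivial on `W`. Then `N` acts trivially on `W`. -/
theorem frob_trivial (φ : F →* MulAut W) (N : Subgroup F) [Finite N] (y : F) (p : ℕ) (hp : 0 < p)
    (hnorm : ∀ n ∈ N, y * n * y⁻¹ ∈ N)
    (hfrob : ∀ i, 0 < i → i < p → ∀ n ∈ N, n * y ^ i = y ^ i * n → n = 1)
    (hcop : (Nat.card W).Coprime (Nat.card N))
    (hH : ∀ w : W, ∏ i ∈ Finset.range p, φ (y ^ i) w = 1) : ∀ n ∈ N, ∀ w : W, φ n w = w := by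
  classical
  have : Fintype N := Fintype.ofFinite N
  let ν : W → W := fun w => ∏ n : N, φ (n : F) w
  have hν_fix : ∀ m ∈ N, ∀ w, φ m (ν w) = ν w := by
    intro m hm w
    simp only [ν, map_prod]
    exact Fintype.prod_equiv (Equiv.mulLeft (⟨m, hm⟩ : N)) _ _ (fun u => by
      show φ m (φ (u : F) w) = φ (((⟨m, hm⟩ : N) * u : N) : F) w
      rw [Subgroup.coe_mul, map_mul, MulAut.mul_apply])
  have hnormi : ∀ i : ℕ, ∀ n ∈ N, y ^ i * n * (y ^ i)⁻¹ ∈ N := by
    intro i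
    induction i with
    | zero => intro n hn; simpa using hn
    | succ i ih =>
      intro n hn
      have := hnorm _ (ih n hn)
      have e : y ^ (i + 1) * n * (y ^ (i + 1))⁻¹ = y * (y ^ i * n * (y ^ i)⁻¹) * y⁻¹ := by
        rw [pow_succ']; group
      rw [e]; exact this
  have h1 : ∀ w, ∏ n : N, ∏ i ∈ Finset.range p, φ ((n : F) * y ^ i * (n : F)⁻¹) w = 1 := by
    intro w
    apply Finset.prod_eq_one
    intro n _
    have h2 : ∀ i, φ ((n : F) * y ^ i * (n : F)⁻¹) w =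
        φ (n : F) (φ (y ^ i) (φ (n : F)⁻¹ w)) := by
      intro i
      rw [map_mul, map_mul, MulAut.mul_apply, MulAut.mul_apply]
    simp_rw [h2]
    rw [← map_prod, hH, map_one]
  have h3 : ∀ w, ∀ i, 0 < i → i < p →
      ∏ n : N, φ ((n : F) * y ^ i * (n : F)⁻¹) w = ν (φ (y ^ i) w) := by
    intro w i hi0 hip
    have hmem : ∀ n : N, (n : F) * y ^ i * (n : F)⁻¹ * (y ^ i)⁻¹ ∈ N := by
      intro n
      have : y ^ i * (n : F)⁻¹ * (y ^ i)⁻¹ ∈ N := hnormi i _ (N.inv_mem n.2)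
      have e : (n : F) * y ^ i * (n : F)⁻¹ * (y ^ i)⁻¹ =
          n * (y ^ i * (n : F)⁻¹ * (y ^ i)⁻¹) := by group
      rw [e]
      exact N.mul_mem n.2 this
    have hinj : Function.Injective (fun n : N => (⟨_, hmem n⟩ : N)) := by
      intro n n' hnn
      have h4 : (n : F) * y ^ i * (n : F)⁻¹ * (y ^ i)⁻¹ =
          (n' : F) * y ^ i * (n' : F)⁻¹ * (y ^ i)⁻¹ := congrArg Subtype.val hnn
      have h6 : (n : F) * y ^ i * (n : F)⁻¹ = (n' : F) * y ^ i * (n' : F)⁻¹ :=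
        mul_right_cancel h4
      have h5 : ((n' : F)⁻¹ * n) * y ^ i = y ^ i * ((n' : F)⁻¹ * n) := by
        calc ((n' : F)⁻¹ * n) * y ^ i = (n' : F)⁻¹ * ((n : F) * y ^ i * (n : F)⁻¹) * n := by
              group
          _ = (n' : F)⁻¹ * ((n' : F) * y ^ i * (n' : F)⁻¹) * n := by rw [h6]
          _ = y ^ i * ((n' : F)⁻¹ * n) := by group
      have h7 := hfrob i hi0 hip _ (N.mul_mem (N.inv_mem n'.2) n.2) h5
      apply Subtype.ext
      have : (n : F) = (n' : F) * ((n' : F)⁻¹ * n) := by group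
      rw [this, h7, mul_one]
    have hbij : Function.Bijective (fun n : N => (⟨_, hmem n⟩ : N)) :=
      hinj.bijective_of_finite
    have h8 : ∀ n : N, φ ((n : F) * y ^ i * (n : F)⁻¹) w =
        φ (((⟨_, hmem n⟩ : N) : F)) (φ (y ^ i) w) := by
      intro n
      rw [← MulAut.mul_apply, ← map_mul]
      congr 2
      group
    simp_rw [h8]
    exact Fintype.prod_bijective (fun n : N => (⟨_, hmem n⟩ : N)) hbij
      (fun n => φ (((⟨_, hmem n⟩ : N) : F)) (φ (y ^ i) w)) (fun m => φ (m : F) (φ (y ^ i) w))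
      (fun n => rfl)
  intro m hm w
  have h9 := h1 w
  rw [Finset.prod_comm] at h9
  obtain ⟨p', rfl⟩ : ∃ p', p = p' + 1 := Nat.exists_eq_succ_of_ne_zero hp.ne'
  rw [Finset.prod_range_succ'] at h9
  have h10 : ∏ n : N, φ ((n : F) * y ^ 0 * (n : F)⁻¹) w = w ^ Nat.card N := by
    simp [Finset.prod_const, Nat.card_eq_fintype_card]
  have h11 : ∏ i ∈ Finset.range p', ∏ n : N, φ ((n : F) * y ^ (i + 1) * (n : F)⁻¹) w =
      ∏ i ∈ Finset.range p', ν (φ (y ^ (i + 1)) w) :=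
    Finset.prod_congr rfl (fun i hi => h3 w (i + 1) (Nat.succ_pos i)
      (by have := Finset.mem_range.mp hi; omega))
  rw [h10, h11] at h9
  have h12 : φ m (w ^ Nat.card N) = w ^ Nat.card N := by
    have h13 : w ^ Nat.card N = (∏ i ∈ Finset.range p', ν (φ (y ^ (i + 1)) w))⁻¹ :=
      eq_inv_of_mul_eq_one_right h9
    rw [h13, map_inv, map_prod]
    congr 1
    exact Finset.prod_congr rfl (fun i _ => hν_fix m hm _)
  have h14 : (φ m w * w⁻¹) ^ Nat.card N = 1 := by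
    rw [mul_pow, inv_pow, ← map_pow, h12, mul_inv_cancel]
  have h15 : orderOf (φ m w * w⁻¹) ∣ Nat.card N := orderOf_dvd_of_pow_eq_one h14
  have h16 : orderOf (φ m w * w⁻¹) ∣ Nat.card W := orderOf_dvd_natCard _
  have h17 : orderOf (φ m w * w⁻¹) = 1 := Nat.eq_one_of_dvd_coprimes hcop h16 h15
  exact mul_inv_eq_one.mp (orderOf_eq_one_iff.mp h17)

end frob

end Cfsg.Agent.Lib.Helper71.FpfPGroup
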