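import Mathlib
import Cfsg.Agent.Lib.Helper71.FpfPGroup
import Cfsg.Agent.Lib.Helper47.Cent
import Cfsg.Agent.Lib.Helper70.PNilp
import Cfsg.Agent.Lib.Helper2.Nilp

set_option autoImplicit false

namespace Cfsg.Agent.Lib.Helper71.Hughes

open Subgroup Cfsg.Agent.Lib.Helper71.FpfPGroup

universe u

variable {G : Type*} [Group G]

/-- conjugation action of the normalizer of `V` on `V` -/
def conjN (V : Subgroup G) : ↥(normalizer (V : Set G)) →* MulAut ↥V where
  toFun g :=
    { toFun := fun v => ⟨(g : G) * v * (g : G)⁻¹, (mem_normalizer_iff.1 g.2 v).1 v.2⟩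
      invFun := fun v => ⟨(g : G)⁻¹ * v * (g : G), by
        have := (mem_normalizer_iff.1 (inv_mem g.2) (v : G)).1 v.2
        simpa using this⟩
      left_inv := fun v => Subtype.ext (by simp [mul_assoc])
      right_inv := fun v => Subtype.ext (by simp [mul_assoc])
      map_mul' := fun v w => Subtype.ext (by simp [mul_assoc]) }
  map_one' := by
    ext v
    simp
  map_mul' g h := by
    ext v
    simp [mul_assoc]

@[simp] theorem conjN_apply (V : Subgroup G) (g : ↥(normalizer (V : Set G))) (v : ↥V) :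
    ((conjN V g v : ↥V) : G) = (g : G) * v * (g : G)⁻¹ := rfl

/-- if every element outside `H` has `p`-th power `1`, an element of `H` commuting with an
element outside `H` has `p`-th power `1` -/
theorem pow_eq_one_of_commute_out {p : ℕ} (H : Subgroup G) (hout : ∀ g, g ∉ H → g ^ p = 1)
    {g w : G} (hg : g ∉ H) (hw : w ∈ H) (hc : g * w = w * g) : w ^ p = 1 := by
  have h1 : g * w ∉ H := fun h => hg (by
    have := H.mul_mem h (H.inv_mem hw)
    simpa using this)
  have h2 := hout _ h1
  have h3 : (g * w) ^ p = g ^ p * w ^ p := (show Commute g w from hc).mul_pow p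
  rw [h3, hout g hg, one_mul] at h2
  exact h2

theorem eq_one_of_pow_of_pow {p q : ℕ} (hp : p.Prime) (hq : q.Prime) (hpq : q ≠ p) {x : G}
    (h1 : x ^ p = 1) {j : ℕ} (h2 : x ^ q ^ j = 1) : x = 1 := by
  have h3 : orderOf x ∣ p := orderOf_dvd_of_pow_eq_one h1
  have h4 : orderOf x ∣ q ^ j := orderOf_dvd_of_pow_eq_one h2
  have h5 : Nat.Coprime p (q ^ j) := ((Nat.coprime_primes hp hq).mpr hpq.symm).pow_right j
  exact orderOf_eq_one_iff.mp (Nat.eq_one_of_dvd_coprimes h5 h3 h4)

/-- **Hughes–Thompson.** If `G` is not a `p`-group and every element outside the proper normal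
subgroup `H` has `p`-th power `1`, then `H` has index `p`. -/
theorem index_eq_prime [Finite G] {p : ℕ} [hp : Fact p.Prime] (H : Subgroup G) [hHn : H.Normal]
    (hH : H ≠ ⊤) (hG : ¬ IsPGroup p G) (hout : ∀ g, g ∉ H → g ^ p = 1) : H.index = p := by
  classical
  have hq : IsPGroup p (G ⧸ H) := by
    intro x
    induction x using QuotientGroup.induction_on with
    | H g =>
      refine ⟨1, ?_⟩
      by_cases hg : g ∈ H
      · rw [(QuotientGroup.eq_one_iff g).mpr hg, one_pow]
      · rw [pow_one, ← QuotientGroup.mk_pow, hout g hg]; rfl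
  obtain ⟨k, hk⟩ := IsPGroup.iff_card.mp hq
  rw [← Subgroup.index_eq_card] at hk
  have hk0 : k ≠ 0 := by
    rintro rfl
    rw [pow_zero] at hk
    exact hH (Subgroup.index_eq_one.mp hk)
  obtain ⟨q, hq', hqG, hqp⟩ : ∃ q : ℕ, q.Prime ∧ q ∣ Nat.card G ∧ q ≠ p := by
    by_contra hno
    push Not at hno
    apply hG
    have := Nat.eq_prime_pow_of_unique_prime_dvd (n := Nat.card G) (p := p) Nat.card_pos.ne'
      (fun {d} hd hdvd => hno d hd hdvd)
    exact IsPGroup.of_card this
  have hqH : q ∣ Nat.card H := by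
    have h1 : Nat.card H * H.index = Nat.card G := Subgroup.card_mul_index H
    rw [hk] at h1
    rw [← h1] at hqG
    exact (Nat.Coprime.dvd_mul_right
      (((Nat.coprime_primes hq' hp.out).mpr hqp).pow_right k)).mp hqG
  have : Fact q.Prime := ⟨hq'⟩
  obtain Q : Sylow q ↥H := default
  set QG : Subgroup G := (Q : Subgroup ↥H).map H.subtype with hQG
  have hQGle : QG ≤ H := by rintro _ ⟨x, _, rfl⟩; exact x.2
  have hQGq : IsPGroup q QG := Q.2.map H.subtype
  have hQGne : QG ≠ ⊥ := by
    intro h0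
    have h1 : Nat.card QG = 1 := by rw [h0]; exact Subgroup.card_bot
    rw [hQG, Subgroup.card_map_of_injective H.subtype_injective] at h1
    have h2 : q ∣ Nat.card (Q : Subgroup ↥H) := Q.dvd_card_of_dvd_card hqH
    rw [h1] at h2
    exact hq'.one_lt.ne' (Nat.dvd_one.mp h2)
  set N : Subgroup G := normalizer (QG : Set G) with hN
  have hfrat : N ⊔ H = ⊤ := Sylow.normalizer_sup_eq_top Q
  set Z : Subgroup G := QG ⊓ centralizer (QG : Set G) with hZ
  have hZne : Z ≠ ⊥ := Cfsg.Agent.Lib.Helper47.Cent.center_ne_bot hQGq hQGne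
  have hZN : N ≤ normalizer (Z : Set G) :=
    Cfsg.Agent.Lib.Helper47.Cent.normalizer_le_normalizer_center QG
  have hZle : Z ≤ QG := inf_le_left
  let _ : CommGroup ↥Z :=
    { (inferInstance : Group ↥Z) with
      mul_comm := fun a b => Subtype.ext (by
        have ha : (a : G) ∈ QG ⊓ centralizer (QG : Set G) := a.2
        have hb : (b : G) ∈ QG ⊓ centralizer (QG : Set G) := b.2
        exact (Subgroup.mem_centralizer_iff.mp (Subgroup.mem_inf.mp hb).2 a
          (Subgroup.mem_inf.mp ha).1)) }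
  have hZnt : Nontrivial ↥Z := (Subgroup.nontrivial_iff_ne_bot Z).mpr hZne
  obtain P : Sylow p ↥N := default
  set PG : Subgroup G := (P : Subgroup ↥N).map N.subtype with hPG
  have hPGN : PG ≤ N := by rintro _ ⟨x, _, rfl⟩; exact x.2
  have hPGp : IsPGroup p PG := P.2.map N.subtype
  have hcover : PG ⊔ H = ⊤ := by
    let f : ↥N →* G ⧸ H := (QuotientGroup.mk' H).comp N.subtype
    have hf : Function.Surjective f := by
      intro x
      induction x using QuotientGroup.induction_on with
      | H g =>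
        have hg : g ∈ (↑(N ⊔ H) : Set G) := by rw [hfrat]; exact Subgroup.mem_top g
        rw [Subgroup.mul_normal N H] at hg
        obtain ⟨n, hn, h, hh, rfl⟩ := hg
        refine ⟨⟨n, hn⟩, ?_⟩
        show (QuotientGroup.mk' H) n = (QuotientGroup.mk' H) (n * h)
        have h1 : QuotientGroup.mk' H h = 1 := (QuotientGroup.eq_one_iff h).mpr hh
        rw [map_mul, h1, mul_one]
    have htop : ((P.mapSurjective hf : Sylow p (G ⧸ H)) : Subgroup (G ⧸ H)) = ⊤ :=
      ((P.mapSurjective hf).is_maximal' (Q := ⊤) (hq.to_subgroup ⊤) le_top).symm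
    rw [eq_top_iff]
    intro g _
    have hg : (QuotientGroup.mk' H g) ∈
        ((P.mapSurjective hf : Sylow p (G ⧸ H)) : Subgroup (G ⧸ H)) := by
      rw [htop]; exact Subgroup.mem_top _
    rw [Sylow.coe_mapSurjective] at hg
    obtain ⟨x, hx, hxg⟩ := hg
    have h1 : (x : G)⁻¹ * g ∈ H := by
      apply (QuotientGroup.eq_one_iff _).mp
      have h2 : QuotientGroup.mk' H (x : G) = QuotientGroup.mk' H g := hxg
      show QuotientGroup.mk' H ((x : G)⁻¹ * g) = 1
      rw [map_mul, map_inv, h2, inv_mul_cancel]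
    have h2 : g = (x : G) * ((x : G)⁻¹ * g) := by group
    rw [h2]
    exact Subgroup.mul_mem_sup (Subgroup.mem_map_of_mem N.subtype hx) h1
  let φ : ↥PG →* MulAut ↥Z := (conjN Z).comp (Subgroup.inclusion (hPGN.trans hZN))
  have hW : ∀ w : ↥Z, w ^ p = 1 → w = 1 := by
    intro w hw
    obtain ⟨j, hj⟩ := hQGq ⟨w, hZle w.2⟩
    have h1 : (w : G) ^ p = 1 := by
      have := congrArg Subtype.val hw
      simpa using this
    have h2 : (w : G) ^ q ^ j = 1 := by
      have := congrArg Subtype.val hj
      simpa using this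
    exact Subtype.ext (eq_one_of_pow_of_pow hp.out hq' hqp h1 h2)
  have key := index_le_of_fpf (Γ := ↥PG) (W := ↥Z) hPGp φ hW (H.subgroupOf PG) (by
    intro g hg
    have hgH : (g : G) ∉ H := fun h => hg (Subgroup.mem_subgroupOf.mpr h)
    refine ⟨Subtype.ext (by simpa using hout _ hgH), ?_⟩
    intro w hw
    apply hW
    have h1 : (g : G) * w * (g : G)⁻¹ = w := congrArg Subtype.val hw
    have h2 : (g : G) * w = w * g := by
      calc (g : G) * w = (g : G) * w * (g : G)⁻¹ * g := by group
        _ = w * g := by rw [h1]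
    have := pow_eq_one_of_commute_out H hout hgH (hQGle (hZle w.2)) h2
    exact Subtype.ext (by simpa using this))
  have hrel : (H.subgroupOf PG).index = H.index := by
    show H.relIndex PG = H.index
    rw [← Subgroup.relIndex_sup_right PG H, hcover, Subgroup.relIndex_top_right]
  rw [hrel, hk] at key
  have hk1 : k = 1 := by
    by_contra hne
    have h2 : 2 ≤ k := by omega
    have h3 : p ^ 2 ≤ p ^ k := Nat.pow_le_pow_right hp.out.pos h2
    have h4 := hp.out.one_lt
    nlinarith
  rw [hk, hk1, pow_one]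

/-- the power of a product `w * y` with `w` in an abelian group acted on by `y` -/
theorem mul_pow_eq_prod {W : Type*} [CommGroup W] (φ : G →* MulAut W) (ι : W →* G)
    (hι : ∀ g w, ι (φ g w) = g * ι w * g⁻¹) (w : W) (y : G) (n : ℕ) :
    (ι w * y) ^ n = ι (∏ i ∈ Finset.range n, φ (y ^ i) w) * y ^ n := by
  induction n with
  | zero => simp
  | succ n ih =>
    rw [pow_succ, ih, Finset.prod_range_succ, map_mul, hι, pow_succ]
    group

theorem mem_of_pow_mem {p : ℕ} (hp : p.Prime) (H : Subgroup G) {y : G} (hy : y ^ p = 1) {i : ℕ}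
    (hi0 : 0 < i) (hip : i < p) (h : y ^ i ∈ H) : y ∈ H := by
  have hcop : Nat.Coprime i p :=
    Nat.Coprime.symm ((Nat.Prime.coprime_iff_not_dvd hp).mpr (Nat.not_dvd_of_pos_of_lt hi0 hip))
  have h1 : (y ^ i) ^ (Nat.gcdA i p) * (y ^ p) ^ (Nat.gcdB i p) = y := by
    rw [← zpow_natCast, ← zpow_natCast, ← zpow_mul, ← zpow_mul, ← zpow_add,
      ← Nat.gcd_eq_gcd_ab, hcop.gcd_eq_one]
    simp
  rw [← h1, hy, one_zpow, mul_one]
  exact H.zpow_mem h _

/-- A subgroup `R ≤ H` without `p`-torsion, of order prime to the abelian normal subgroup `M ≤ H`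
and normalized by an element outside `H`, centralizes `M`. -/
theorem centralizes_of_frob [Finite G] {p : ℕ} [hp : Fact p.Prime] (H : Subgroup G)
    (hout : ∀ g, g ∉ H → g ^ p = 1) (M : Subgroup G) [M.Normal] (hMH : M ≤ H)
    (hMab : ∀ a ∈ M, ∀ b ∈ M, a * b = b * a) (R : Subgroup G) (hRH : R ≤ H)
    (hRp : ∀ n ∈ R, n ^ p = 1 → n = 1) (hcop : (Nat.card M).Coprime (Nat.card R))
    (y : G) (hy : y ∈ normalizer (R : Set G)) (hyH : y ∉ H) :
    ∀ n ∈ R, ∀ m ∈ M, n * m = m * n := by
  classical
  let _ : CommGroup ↥M :=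
    { (inferInstance : Group ↥M) with
      mul_comm := fun a b => Subtype.ext (hMab a a.2 b b.2) }
  have hyp : y ^ p = 1 := hout y hyH
  have hyi : ∀ i, 0 < i → i < p → y ^ i ∉ H := fun i hi0 hip hmem =>
    hyH (mem_of_pow_mem hp.out H hyp hi0 hip hmem)
  have key := frob_trivial (F := G) (W := ↥M) (MulAut.conjNormal) R y p hp.out.pos
    (fun n hn => (mem_normalizer_iff.mp hy n).mp hn)
    (fun i hi0 hip n hn hc => hRp n hn
      (pow_eq_one_of_commute_out H hout (hyi i hi0 hip) (hRH hn) hc.symm))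
    hcop
    (by
      intro w
      have h1 := mul_pow_eq_prod (MulAut.conjNormal : G →* MulAut ↥M) M.subtype
        (fun g w => MulAut.conjNormal_apply g w) w y p
      have h2 : (w : G) * y ∉ H := fun h => hyH (by
        have := H.mul_mem (H.inv_mem (hMH w.2)) h
        simpa using this)
      have h3 : M.subtype w = (w : G) := rfl
      rw [h3, hout _ h2, hyp, mul_one] at h1
      exact Subtype.ext h1.symm)
  intro n hn m hm
  have h3 := key n hn ⟨m, hm⟩
  have h4 : n * m * n⁻¹ = m := by
    have := congrArg Subtype.val h3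
    rwa [MulAut.conjNormal_apply] at this
  calc n * m = n * m * n⁻¹ * n := by group
    _ = m * n := by rw [h4]

/-- A `p`-subgroup `R ≤ H` centralizes every abelian normal subgroup `M ≤ H` without
`p`-torsion. -/
theorem centralizes_of_sylow [Finite G] {p : ℕ} [hp : Fact p.Prime] (H : Subgroup G) [H.Normal]
    (hidx : p ∣ H.index) (hout : ∀ g, g ∉ H → g ^ p = 1) (M : Subgroup G) [M.Normal]
    (hMH : M ≤ H) (hMab : ∀ a ∈ M, ∀ b ∈ M, a * b = b * a) (hMp : ∀ m ∈ M, m ^ p = 1 → m = 1)
    (R : Subgroup G) (hRH : R ≤ H) (hR : IsPGroup p R) :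
    ∀ n ∈ R, ∀ m ∈ M, n * m = m * n := by
  classical
  let _ : CommGroup ↥M :=
    { (inferInstance : Group ↥M) with
      mul_comm := fun a b => Subtype.ext (hMab a a.2 b b.2) }
  obtain ⟨S, hRS⟩ := hR.exists_le_sylow
  have hSH : ¬ (S : Subgroup G) ≤ H := by
    intro hle
    have h1 : H.index ∣ (S : Subgroup G).index := Subgroup.index_dvd_of_le hle
    exact S.not_dvd_index (hidx.trans h1)
  obtain ⟨y, hyS, hyH⟩ : ∃ y ∈ (S : Subgroup G), y ∉ H := by
    by_contra hno
    push Not at hno
    exact hSH hno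
  let φ : ↥(S : Subgroup G) →* MulAut ↥M :=
    (MulAut.conjNormal : G →* MulAut ↥M).comp (S : Subgroup G).subtype
  have hφ : ∀ (g : ↥(S : Subgroup G)) (w : ↥M), ((φ g w : ↥M) : G) = (g : G) * w * (g : G)⁻¹ :=
    fun g w => MulAut.conjNormal_apply (g : G) w
  have hW : ∀ w : ↥M, w ^ p = 1 → w = 1 := fun w hw => Subtype.ext (hMp w w.2 (by
    have := congrArg Subtype.val hw
    simpa using this))
  have key := trivial_of_fpf (Γ := ↥(S : Subgroup G)) (W := ↥M) S.2 φ hW
    (H.subgroupOf (S : Subgroup G)) ⟨y, hyS⟩ (by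
      intro u hu
      have huH : (u : G) ∈ H := Subgroup.mem_subgroupOf.mp hu
      have hyu : y * (u : G) ∉ H := fun h => hyH (by
        have := H.mul_mem h (H.inv_mem huH)
        simpa using this)
      refine ⟨Subtype.ext (by simpa using hout _ hyu), ?_⟩
      intro w hw
      have h1 : (y * (u : G)) * w * (y * (u : G))⁻¹ = w := by
        have := congrArg Subtype.val hw
        rwa [hφ] at this
      have h2 : (y * (u : G)) * w = w * (y * (u : G)) := by
        calc (y * (u : G)) * w = (y * (u : G)) * w * (y * (u : G))⁻¹ * (y * (u : G)) := by group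
          _ = w * (y * (u : G)) := by rw [h1]
      exact hW w (Subtype.ext (by
        simpa using pow_eq_one_of_commute_out H hout hyu (hMH w.2) h2)))
  intro n hn m hm
  have h3 := key ⟨n, hRS hn⟩ (Subgroup.mem_subgroupOf.mpr (hRH hn)) ⟨m, hm⟩
  have h4 : n * m * n⁻¹ = m := by
    have := congrArg Subtype.val h3
    rwa [hφ] at this
  calc n * m = n * m * n⁻¹ * n := by group
    _ = m * n := by rw [h4]

/-- If `f : H' → N'` is onto a nilpotent group and the kernel normalizes the Sylow subgroup `R`,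
then `R` is normal. -/
theorem sylow_normal_of_ker_le {H' N' : Type*} [Group H'] [Finite H'] [Group N'] [Finite N']
    [Group.IsNilpotent N'] (f : H' →* N') (hf : Function.Surjective f) {r : ℕ} [Fact r.Prime]
    (R : Sylow r H') (hn : f.ker ≤ normalizer ((R : Subgroup H') : Set H')) :
    (R : Subgroup H').Normal := by
  have h1 : ((R.mapSurjective hf : Sylow r N') : Subgroup N').Normal := inferInstance
  have h2 : (((R : Subgroup H').map f).comap f).Normal := by
    rw [← Sylow.coe_mapSurjective hf R]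
    exact h1.comap f
  rw [Subgroup.comap_map_eq] at h2
  have h3 : (R : Subgroup H') ⊔ f.ker ≤ normalizer ((R : Subgroup H') : Set H') :=
    sup_le Subgroup.le_normalizer hn
  constructor
  intro x hx h
  let Rh : Subgroup H' := (R : Subgroup H').map (MulAut.conj h).toMonoidHom
  have hRh : IsPGroup r Rh := R.2.map _
  have hRhle : Rh ≤ normalizer ((R : Subgroup H') : Set H') := by
    rintro _ ⟨t, ht, rfl⟩
    exact h3 (h2.conj_mem t (Subgroup.mem_sup_left ht) h)
  have h5 := hRh.inf_normalizer_sylow R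
  have h6 : Rh ≤ R := by
    intro t ht
    have h7 : t ∈ Rh ⊓ (R : Subgroup H') := by
      rw [← h5]
      exact ⟨ht, hRhle ht⟩
    exact h7.2
  exact h6 ⟨x, hx, rfl⟩

/-- **Tail of the argument.** `H` is normal with `p ∣ |G : H|`, every element outside `H` has
`p`-th power `1`, `M ≤ H` is an abelian normal `q`-subgroup of `G` and `H / M` is nilpotent:
then `H` is nilpotent. -/
theorem nilpotent_of_abelian_normal [Finite G] {p : ℕ} [hp : Fact p.Prime] (H : Subgroup G)
    [hHn : H.Normal] (hidx : p ∣ H.index) (hout : ∀ g, g ∉ H → g ^ p = 1) (M : Subgroup G)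
    [hMn : M.Normal] (hMH : M ≤ H) (hMab : ∀ a ∈ M, ∀ b ∈ M, a * b = b * a) {q : ℕ}
    [hq : Fact q.Prime] (hMq : IsPGroup q M)
    (hquot : Group.IsNilpotent ↥(H.map (QuotientGroup.mk' M))) : Group.IsNilpotent ↥H := by
  classical
  let f : ↥H →* ↥(H.map (QuotientGroup.mk' M)) := (QuotientGroup.mk' M).subgroupMap H
  have hf : Function.Surjective f := (QuotientGroup.mk' M).subgroupMap_surjective H
  have hker : ∀ x : ↥H, x ∈ f.ker → (x : G) ∈ M := by
    intro x hx
    have h1 : f x = 1 := MonoidHom.mem_ker.mp hx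
    have h2 : QuotientGroup.mk' M (x : G) = 1 := congrArg Subtype.val h1
    exact (QuotientGroup.eq_one_iff _).mp h2
  have hHtop : H ≠ ⊤ := by
    rintro rfl
    rw [Subgroup.index_top] at hidx
    exact hp.out.one_lt.ne' (Nat.dvd_one.mp hidx)
  apply (Group.isNilpotent_of_finite_tfae.out 0 3).mpr
  intro r hr R
  apply sylow_normal_of_ker_le f hf R
  intro m hm
  have hmM : (m : G) ∈ M := hker m hm
  by_cases hrq : r = q
  · have hM' : IsPGroup r (M.subgroupOf H) := by
      rw [hrq]; exact hMq.comap_subtype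
    have h1 : IsPGroup r ↥(M.subgroupOf H ⊔ (R : Subgroup ↥H)) := hM'.to_sup_of_normal_left R.2
    have h2 := R.is_maximal' h1 le_sup_right
    have h3 : m ∈ (R : Subgroup ↥H) := by
      rw [← h2]
      exact Subgroup.mem_sup_left (Subgroup.mem_subgroupOf.mpr hmM)
    exact Subgroup.le_normalizer h3
  · set RG : Subgroup G := (R : Subgroup ↥H).map H.subtype with hRG
    have hRGle : RG ≤ H := by rintro _ ⟨x, _, rfl⟩; exact x.2
    have hRGr : IsPGroup r RG := R.2.map H.subtype
    have hcent : ∀ n ∈ RG, ∀ m ∈ M, n * m = m * n := by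
      by_cases hrp : r = p
      · have hRGp : IsPGroup p RG := hrp ▸ hRGr
        refine centralizes_of_sylow H hidx hout M hMH hMab ?_ RG hRGle hRGp
        intro m hm hmp
        obtain ⟨j, hj⟩ := hMq ⟨m, hm⟩
        have h2 : m ^ q ^ j = 1 := by simpa using congrArg Subtype.val hj
        exact eq_one_of_pow_of_pow hp.out hq.out (fun h => hrq (hrp.trans h.symm)) hmp h2
      · have hfrat : normalizer (RG : Set G) ⊔ H = ⊤ := Sylow.normalizer_sup_eq_top R
        obtain ⟨y, hy, hyH⟩ : ∃ y ∈ normalizer (RG : Set G), y ∉ H := by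
          by_contra hno
          push Not at hno
          apply hHtop
          rw [← hfrat]
          exact (sup_eq_right.mpr hno).symm
        refine centralizes_of_frob H hout M hMH hMab RG hRGle ?_ ?_ y hy hyH
        · intro n hn hnp
          obtain ⟨j, hj⟩ := hRGr ⟨n, hn⟩
          have h2 : n ^ r ^ j = 1 := by simpa using congrArg Subtype.val hj
          exact eq_one_of_pow_of_pow hp.out hr.out hrp hnp h2
        · obtain ⟨a, ha⟩ := IsPGroup.iff_card.mp hMq
          obtain ⟨b, hb⟩ := IsPGroup.iff_card.mp hRGr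
          rw [ha, hb]
          exact Nat.Coprime.pow _ _ ((Nat.coprime_primes hq.out hr.out).mpr (Ne.symm hrq))
    rw [mem_normalizer_iff]
    intro h
    have hcomm : ∀ x : ↥H, x ∈ (R : Subgroup ↥H) → m * x * m⁻¹ = x := by
      intro x hx
      apply Subtype.ext
      have h1 := hcent (x : G) ⟨x, hx, rfl⟩ (m : G) hmM
      show (m : G) * x * (m : G)⁻¹ = x
      rw [← h1]; group
    constructor
    · intro hh
      rw [hcomm h hh]; exact hh
    · intro hh
      have h7 := hcomm _ hh
      have h8 : m * h * m⁻¹ = h := by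
        have h9 : m * h * m⁻¹ = m⁻¹ * (m * (m * h * m⁻¹) * m⁻¹) * m := by group
        rw [h9, h7]; group
      rw [← h8]; exact hh

/-- a group with a nilpotent normal subgroup of `p`-power index has a normal `p`-complement -/
theorem pnil_of_nilpotent_normal {K : Type*} [Group K] [Finite K] {p : ℕ} [hp : Fact p.Prime]
    (K₀ : Subgroup K) [K₀.Normal] (hnil : Group.IsNilpotent ↥K₀) {k : ℕ}
    (hidx : K₀.index = p ^ k) : Cfsg.HasNormalPComplement p K := by
  classical
  obtain P₀ : Sylow p ↥K₀ := default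
  have hPn : (P₀ : Subgroup ↥K₀).Normal := inferInstance
  obtain ⟨T₀, hT₀⟩ := Subgroup.exists_right_complement'_of_coprime
    (N := (P₀ : Subgroup ↥K₀)) P₀.card_coprime_index
  have hTcard : Nat.card T₀ = (P₀ : Subgroup ↥K₀).index := (hT₀.symm.index_eq_card).symm
  have hTcop : (Nat.card T₀).Coprime p := by
    rw [hTcard]
    exact ((Nat.Prime.coprime_iff_not_dvd hp.out).mpr P₀.not_dvd_index).symm
  obtain ⟨n, hn⟩ := IsPGroup.iff_card.mp P₀.2
  have hTidx : T₀.index = p ^ n := by rw [hT₀.index_eq_card, hn]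
  have hTn : T₀.Normal := by
    constructor
    intro t ht g
    obtain ⟨⟨a, b⟩, hab⟩ := (Subgroup.isComplement_iff_existsUnique.mp hT₀ g).exists
    have ht' : (b : ↥K₀) * t * (b : ↥K₀)⁻¹ ∈ T₀ := T₀.mul_mem (T₀.mul_mem b.2 ht) (T₀.inv_mem b.2)
    have hcop : Nat.Coprime (orderOf (a : ↥K₀)) (orderOf ((b : ↥K₀) * t * (b : ↥K₀)⁻¹)) := by
      have h1 : orderOf (a : ↥K₀) ∣ p ^ n := by
        rw [← hn]; exact Subgroup.orderOf_dvd_natCard _ a.2
      have h2 : orderOf ((b : ↥K₀) * t * (b : ↥K₀)⁻¹) ∣ Nat.card T₀ :=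
        Subgroup.orderOf_dvd_natCard _ ht'
      exact Nat.Coprime.coprime_dvd_left h1
        (Nat.Coprime.coprime_dvd_right h2 (Nat.Coprime.pow_left n hTcop.symm))
    have hc := Cfsg.Agent.Lib.Helper2.Nilp.commute_of_coprime ↥K₀ inferInstance
      (a : ↥K₀) ((b : ↥K₀) * t * (b : ↥K₀)⁻¹) hcop
    have e : g * t * g⁻¹ = (b : ↥K₀) * t * (b : ↥K₀)⁻¹ := by
      have hab' : (a : ↥K₀) * (b : ↥K₀) = g := hab
      rw [← hab']
      calc (a : ↥K₀) * (b : ↥K₀) * t * ((a : ↥K₀) * (b : ↥K₀))⁻¹
          = ((a : ↥K₀) * ((b : ↥K₀) * t * (b : ↥K₀)⁻¹)) * (a : ↥K₀)⁻¹ := by group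
        _ = (((b : ↥K₀) * t * (b : ↥K₀)⁻¹) * (a : ↥K₀)) * (a : ↥K₀)⁻¹ := by rw [hc]
        _ = (b : ↥K₀) * t * (b : ↥K₀)⁻¹ := by group
    rw [e]; exact ht'
  have hTGn : (T₀.map K₀.subtype).Normal :=
    Cfsg.Agent.Lib.Helper70.PNilp.normal_map_of_npc K₀ T₀ hTcop hTidx
  apply Cfsg.Agent.Lib.Helper70.PNilp.npc_iff.mpr
  refine ⟨T₀.map K₀.subtype, hTGn, ?_, n + k, ?_⟩
  · rw [Subgroup.card_map_of_injective K₀.subtype_injective]; exact hTcop
  · rw [Subgroup.index_map_subtype, hTidx, hidx, pow_add]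

/-- a nontrivial nilpotent normal subgroup contains a nontrivial abelian normal `q`-subgroup -/
theorem exists_abelian_normal [Finite G] (M : Subgroup G) [hMn : M.Normal] (hM : M ≠ ⊥)
    (hnil : Group.IsNilpotent ↥M) :
    ∃ (q : ℕ) (_ : Fact q.Prime) (Z : Subgroup G), Z.Normal ∧ Z ≤ M ∧ Z ≠ ⊥ ∧
      (∀ a ∈ Z, ∀ b ∈ Z, a * b = b * a) ∧ IsPGroup q Z := by
  classical
  have hcard : Nat.card M ≠ 1 := fun h => hM (Subgroup.eq_bot_of_card_eq M h)
  obtain ⟨q, hq, hqdvd⟩ := Nat.exists_prime_and_dvd hcard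
  have hqf : Fact q.Prime := ⟨hq⟩
  obtain Q : Sylow q ↥M := default
  have hQn : (Q : Subgroup ↥M).Normal := inferInstance
  have hQc : (Q : Subgroup ↥M).Characteristic := Q.characteristic_of_normal hQn
  set QG : Subgroup G := (Q : Subgroup ↥M).map M.subtype with hQG
  have hQGn : QG.Normal := ConjAct.normal_of_characteristic_of_normal
  have hQGle : QG ≤ M := by rintro _ ⟨x, _, rfl⟩; exact x.2
  have hQGq : IsPGroup q QG := Q.2.map M.subtype
  have hQGne : QG ≠ ⊥ := by
    intro h0
    have h1 : Nat.card QG = 1 := by rw [h0]; exact Subgroup.card_bot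
    rw [hQG, Subgroup.card_map_of_injective M.subtype_injective] at h1
    have h2 : q ∣ Nat.card (Q : Subgroup ↥M) := Q.dvd_card_of_dvd_card hqdvd
    rw [h1] at h2
    exact hq.one_lt.ne' (Nat.dvd_one.mp h2)
  have hnt : Nontrivial ↥QG := (Subgroup.nontrivial_iff_ne_bot QG).mpr hQGne
  have hZn : ((Subgroup.center ↥QG).map QG.subtype).Normal :=
    ConjAct.normal_of_characteristic_of_normal
  refine ⟨q, hqf, (Subgroup.center ↥QG).map QG.subtype, hZn, ?_, ?_, ?_, ?_⟩
  · rintro _ ⟨x, _, rfl⟩; exact hQGle x.2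
  · intro h0
    rw [Subgroup.map_eq_bot_iff_of_injective _ QG.subtype_injective] at h0
    exact (hQGq.bot_lt_center).ne' h0
  · rintro _ ⟨a, ha, rfl⟩ _ ⟨b, hb, rfl⟩
    have := Subgroup.mem_center_iff.mp ha b
    exact (congrArg Subtype.val this).symm
  · apply hQGq.to_le
    rintro _ ⟨x, _, rfl⟩; exact x.2

theorem hughes_normal (p : ℕ) : (Subgroup.closure {g : G | g ^ p ≠ 1}).Normal := by
  constructor
  intro n hn g
  have h1 : (Subgroup.closure {g : G | g ^ p ≠ 1}).map (MulAut.conj g).toMonoidHom ≤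
      Subgroup.closure {g : G | g ^ p ≠ 1} := by
    rw [MonoidHom.map_closure, Subgroup.closure_le]
    rintro _ ⟨s, hs, rfl⟩
    apply Subgroup.subset_closure
    show (g * s * g⁻¹) ^ p ≠ 1
    rw [conj_pow]
    intro h
    apply hs
    have : s ^ p = g⁻¹ * (g * s ^ p * g⁻¹) * g := by group
    rw [this, h]; group
  exact h1 ⟨n, hn, rfl⟩

theorem card_lt_of_ne_top [Finite G] (L : Subgroup G) (hL : L ≠ ⊤) : Nat.card ↥L < Nat.card G := by
  by_contra h
  push Not at h
  exact hL (Subgroup.eq_top_of_card_eq L (le_antisymm (Subgroup.card_le_card_group L) h))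

theorem card_quot_lt [Finite G] (M : Subgroup G) [M.Normal] (hM : M ≠ ⊥) :
    Nat.card (G ⧸ M) < Nat.card G := by
  have h1 : Nat.card M * M.index = Nat.card G := Subgroup.card_mul_index M
  rw [← Subgroup.index_eq_card, ← h1]
  have h2 : 1 < Nat.card M := (Subgroup.one_lt_card_iff_ne_bot M).mpr hM
  have h3 : 0 < M.index := Nat.pos_of_ne_zero Subgroup.index_ne_zero_of_finite
  nlinarith

theorem iterate_conjNormal (M : Subgroup G) [M.Normal] (x : G) (k : ℕ) (m : ↥M) :
    ((((MulAut.conjNormal x : MulAut ↥M) : ↥M → ↥M)^[k] m : ↥M) : G) =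
      x ^ k * m * (x ^ k)⁻¹ := by
  induction k with
  | zero => simp
  | succ k ih =>
    rw [Function.iterate_succ_apply', MulAut.conjNormal_apply, ih, pow_succ']
    group

/-- **Kegel's theorem**, modulo Thompson's theorem on fixed-point-free automorphisms of order
`p` (`hT`) and a Thompson-type normal `p`-complement criterion (`hC`): if every element outside
the proper subgroup `H` has `p`-th power `1`, then `H` is nilpotent. -/
theorem kegel {p : ℕ} [hp : Fact p.Prime]
    (hT : ∀ (K : Type u) [Group K] [Finite K] (φ : K ≃* K), (∀ g, φ g = g → g = 1) →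
      (⇑φ)^[p] = id → Group.IsNilpotent K)
    (hC : ∀ (K : Type u) [Group K] [Finite K] (S : Sylow p K),
      (∀ Y : Subgroup K, Y ≠ ⊥ → Y ≤ (S : Subgroup K) →
        (S : Subgroup K) ≤ normalizer (Y : Set K) →
        Cfsg.HasNormalPComplement p ↥(normalizer (Y : Set K))) →
      Cfsg.HasNormalPComplement p K) :
    ∀ (n : ℕ) (G : Type u) [Group G] [Finite G], Nat.card G = n → ∀ H : Subgroup G, H ≠ ⊤ →
      (∀ g, g ∉ H → g ^ p = 1) → Group.IsNilpotent ↥H := by
  intro n
  induction n using Nat.strong_induction_on with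
  | _ n ih =>
  intro G _ _ hn H hHtop hout
  classical
  subst hn
  by_cases hGp : IsPGroup p G
  · exact (hGp.to_subgroup H).isNilpotent
  -- `H` is the Hughes subgroup, normal of index `p`
  have hHpH : Subgroup.closure {g : G | g ^ p ≠ 1} ≤ H := by
    rw [Subgroup.closure_le]
    intro g hg
    by_contra hgH
    exact hg (hout g hgH)
  have hHpn : (Subgroup.closure {g : G | g ^ p ≠ 1}).Normal := hughes_normal p
  have hHptop : Subgroup.closure {g : G | g ^ p ≠ 1} ≠ ⊤ := fun h =>
    hHtop (top_le_iff.mp (h ▸ hHpH))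
  have hidxp : (Subgroup.closure {g : G | g ^ p ≠ 1}).index = p :=
    index_eq_prime _ hHptop hGp (by
      intro g hg
      by_contra h
      exact hg (Subgroup.subset_closure h))
  have hHeq : H = Subgroup.closure {g : G | g ^ p ≠ 1} := by
    have h1 : H.index ∣ (Subgroup.closure {g : G | g ^ p ≠ 1}).index :=
      Subgroup.index_dvd_of_le hHpH
    rw [hidxp] at h1
    have h2 : H.index ≠ 1 := fun h => hHtop (Subgroup.index_eq_one.mp h)
    have h3 : H.index = p := ((Nat.dvd_prime hp.out).mp h1).resolve_left h2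
    have h4 := Subgroup.relIndex_mul_index hHpH
    rw [h3, hidxp] at h4
    have h5 : (Subgroup.closure {g : G | g ^ p ≠ 1}).relIndex H = 1 := by
      have := hp.out.pos
      nlinarith
    exact le_antisymm (Subgroup.relIndex_eq_one.mp h5) hHpH
  have hHn : H.Normal := hHeq ▸ hHpn
  have hidx : H.index = p := hHeq ▸ hidxp
  have hpidx : p ∣ H.index := by rw [hidx]
  obtain ⟨x, hx⟩ : ∃ x, x ∉ H := by
    by_contra hno
    push Not at hno
    exact hHtop (eq_top_iff.mpr fun g _ => hno g)
  have C1 : ∀ L : Subgroup G, L ≠ ⊤ → ¬ L ≤ H → Group.IsNilpotent ↥(H.subgroupOf L) := by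
    intro L hL hLH
    refine ih (Nat.card ↥L) (card_lt_of_ne_top L hL) ↥L rfl (H.subgroupOf L) ?_ ?_
    · intro h
      exact hLH (Subgroup.subgroupOf_eq_top.mp h)
    · intro g hg
      have : (g : G) ∉ H := fun h => hg (Subgroup.mem_subgroupOf.mpr h)
      exact Subtype.ext (by simpa using hout _ this)
  have C2 : ∀ (M : Subgroup G) [M.Normal], M ≤ H → M ≠ ⊥ →
      Group.IsNilpotent ↥(H.map (QuotientGroup.mk' M)) := by
    intro M _ hMH hM
    refine ih (Nat.card (G ⧸ M)) (card_quot_lt M hM) (G ⧸ M) rfl (H.map (QuotientGroup.mk' M))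
      ?_ ?_
    · intro h
      apply hHtop
      rw [eq_top_iff]
      intro g _
      have hg : QuotientGroup.mk' M g ∈ H.map (QuotientGroup.mk' M) := by
        rw [h]; exact Subgroup.mem_top _
      obtain ⟨h', hh', hh'g⟩ := hg
      have h6 : h'⁻¹ * g ∈ M := QuotientGroup.eq.mp hh'g
      have h7 : g = h' * (h'⁻¹ * g) := by group
      rw [h7]
      exact H.mul_mem hh' (hMH h6)
    · intro g hg
      induction g using QuotientGroup.induction_on with
      | H g =>
        have : g ∉ H := fun h => hg (Subgroup.mem_map_of_mem _ h)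
        rw [← QuotientGroup.mk_pow, hout g this]; rfl
  by_cases hex : ∃ M : Subgroup G, M.Normal ∧ M ≤ H ∧ M ≠ ⊥ ∧
      (IsPGroup p M ∨ (Nat.card M).Coprime p)
  · obtain ⟨M, hMn, hMH, hMne, hM⟩ := hex
    have hMnil : Group.IsNilpotent ↥M := by
      rcases hM with hM | hM
      · exact hM.isNilpotent
      · apply hT ↥M (MulAut.conjNormal x : ↥M ≃* ↥M)
        · intro m hm
          have h1 : x * (m : G) * x⁻¹ = m := by
            have := congrArg Subtype.val hm
            rwa [MulAut.conjNormal_apply] at this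
          have h2 : x * (m : G) = m * x := by
            calc x * (m : G) = x * (m : G) * x⁻¹ * x := by group
              _ = m * x := by rw [h1]
          have h3 := pow_eq_one_of_commute_out H hout hx (hMH m.2) h2
          have h4 : orderOf (m : G) ∣ p := orderOf_dvd_of_pow_eq_one h3
          have h5 : orderOf (m : G) ∣ Nat.card M := Subgroup.orderOf_dvd_natCard M m.2
          have h6 : orderOf (m : G) = 1 := Nat.eq_one_of_dvd_coprimes hM h5 h4
          exact Subtype.ext (orderOf_eq_one_iff.mp h6)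
        · funext m
          apply Subtype.ext
          rw [iterate_conjNormal, hout x hx]
          simp
    obtain ⟨q, hq, Z, hZn, hZM, hZne, hZab, hZq⟩ := exists_abelian_normal M hMne hMnil
    exact nilpotent_of_abelian_normal H hpidx hout Z (hZM.trans hMH) hZab hZq
      (C2 Z (hZM.trans hMH) hZne)
  · exfalso
    push Not at hex
    have hHbot : H ≠ ⊥ := by
      rintro rfl
      apply hGp
      intro g
      refine ⟨1, ?_⟩
      rw [pow_one]
      by_cases hg : g = 1
      · rw [hg, one_pow]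
      · exact hout g (fun h => hg (Subgroup.mem_bot.mp h))
    obtain S : Sylow p G := default
    have hSH : ¬ (S : Subgroup G) ≤ H := by
      intro hle
      have h1 : H.index ∣ (S : Subgroup G).index := Subgroup.index_dvd_of_le hle
      exact S.not_dvd_index (hpidx.trans h1)
    have hpn : Cfsg.HasNormalPComplement p G := by
      apply hC G S
      intro Y hYne hYS hSY
      by_cases hN : normalizer (Y : Set G) = ⊤
      · exfalso
        have hYn : Y.Normal := Subgroup.normalizer_eq_top_iff.mp hN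
        have hYp : IsPGroup p Y := S.2.to_le hYS
        have hYH : Y ⊓ H = ⊥ := by
          by_contra hne
          exact (hex (Y ⊓ H) inferInstance inf_le_right hne).1 (hYp.to_le inf_le_left)
        obtain ⟨y₀, hy₀, hy₀1⟩ : ∃ y ∈ Y, y ≠ 1 := by
          by_contra hall
          push Not at hall
          exact hYne (eq_bot_iff.mpr fun t ht => Subgroup.mem_bot.mpr (hall t ht))
        have hy₀H : y₀ ∉ H := fun h => hy₀1 (by
          have : y₀ ∈ Y ⊓ H := ⟨hy₀, h⟩
          rwa [hYH, Subgroup.mem_bot] at this)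
        have hHp' : IsPGroup p H := by
          intro h
          refine ⟨1, ?_⟩
          have hc : y₀ * (h : G) * y₀⁻¹ * (h : G)⁻¹ ∈ Y ⊓ H := by
            refine ⟨?_, ?_⟩
            · have h1 : (h : G) * y₀⁻¹ * (h : G)⁻¹ ∈ Y := hYn.conj_mem _ (Y.inv_mem hy₀) _
              have e : y₀ * (h : G) * y₀⁻¹ * (h : G)⁻¹ = y₀ * ((h : G) * y₀⁻¹ * (h : G)⁻¹) := by
                group
              rw [e]; exact Y.mul_mem hy₀ h1
            · exact H.mul_mem (hHn.conj_mem _ h.2 _) (H.inv_mem h.2)
          rw [hYH, Subgroup.mem_bot] at hc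
          have hc' : y₀ * (h : G) = h * y₀ := by
            calc y₀ * (h : G) = (y₀ * (h : G) * y₀⁻¹ * (h : G)⁻¹) * (h * y₀) := by group
              _ = h * y₀ := by rw [hc, one_mul]
          have := pow_eq_one_of_commute_out H hout hy₀H h.2 hc'
          exact Subtype.ext (by simpa using this)
        exact (hex H hHn le_rfl hHbot).1 hHp'
      · have hLH : ¬ normalizer (Y : Set G) ≤ H := fun h => hSH (hSY.trans h)
        have hnil := C1 _ hN hLH
        have h1 : (H.subgroupOf (normalizer (Y : Set G))).index ∣ p ^ 1 := by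
          show H.relIndex _ ∣ p ^ 1
          rw [pow_one, ← hidx]
          exact Subgroup.relIndex_dvd_index_of_normal H _
        obtain ⟨k, -, hk⟩ := (Nat.dvd_prime_pow hp.out).mp h1
        exact pnil_of_nilpotent_normal (H.subgroupOf (normalizer (Y : Set G))) hnil hk
    obtain ⟨T, hTn, hTcop, k, hTk⟩ := Cfsg.Agent.Lib.Helper70.PNilp.npc_iff.mp hpn
    have hTH : T ≤ H := by
      intro t ht
      by_contra htH
      have h1 := hout t htH
      have h4 : orderOf t ∣ p := orderOf_dvd_of_pow_eq_one h1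
      have h5 : orderOf t ∣ Nat.card T := Subgroup.orderOf_dvd_natCard T ht
      have h6 : orderOf t = 1 := Nat.eq_one_of_dvd_coprimes hTcop h5 h4
      exact htH (by rw [orderOf_eq_one_iff.mp h6]; exact H.one_mem)
    have hTne : T ≠ ⊥ := by
      rintro rfl
      rw [Subgroup.index_bot] at hTk
      exact hGp (IsPGroup.of_card hTk)
    exact (hex T hTn hTH hTne).2 hTcop

end Cfsg.Agent.Lib.Helper71.Hughes
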