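import Mathlib
import Cfsg.Agent.Lib.Helper68.M11UStmt
import Cfsg.Agent.Lib.Helper17.FixedPoints

/-!
# S0420 piece TWOTRANS (helper71): the action of a simple group of order 7920 on the 11 cosets
of a subgroup of index 11 is 2-transitive.
-/

set_option autoImplicit false

namespace Cfsg.Agent.Lib.Helper71.MUTWOTRANS

open Cfsg Cfsg.Agent.Lib.Helper68.M11UStmt Cfsg.Agent.Lib.Helper92.M11Stmt

universe u

/-- A set of ordered pairs with distinct entries which is closed under swapping has an even
number of elements. -/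
theorem even_ncard_of_swap {α : Type*} [Finite α] (O : Set (α × α)) (h1 : ∀ p ∈ O, p.1 ≠ p.2)
    (h2 : ∀ p ∈ O, p.swap ∈ O) : Even O.ncard := by
  classical
  haveI : Fintype α := Fintype.ofFinite α
  have hO : O = ((Finset.univ.filter (fun p => p ∈ O) : Finset (α × α)) : Set (α × α)) := by
    ext p; simp
  rw [hO, Set.ncard_coe_finset, ← ZMod.natCast_eq_zero_iff_even]
  have hs : ∑ x ∈ (Finset.univ.filter (fun p => p ∈ O) : Finset (α × α)), (1 : ZMod 2) = 0 := by
    refine Finset.sum_involution (fun p _ => p.swap) ?_ ?_ ?_ ?_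
    · intro p _
      decide
    · intro p hp _ h
      have hp' : p ∈ O := by simpa using hp
      apply h1 p hp'
      have := congrArg Prod.fst h
      simpa using this.symm
    · intro p hp
      have hp' : p ∈ O := by simpa using hp
      simpa using h2 p hp'
    · intro p _
      simp
  simpa using hs

variable {G : Type u} [Group G] [Finite G]

/-- The stabilizer of a pair of points. -/
theorem stab_prod {X : Type*} [MulAction G X] (a b : X) :
    MulAction.stabilizer G ((a, b) : X × X) = MulAction.stabilizer G a ⊓ MulAction.stabilizer G b := by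
  ext g
  simp [MulAction.mem_stabilizer_iff, Prod.ext_iff]

/-- The number of ordered pairs of distinct points among 11. -/
theorem ncard_offDiag (X : Type*) [Finite X] (hX : Nat.card X = 11) :
    Set.ncard {p : X × X | p.1 ≠ p.2} = 110 := by
  classical
  haveI : Fintype X := Fintype.ofFinite X
  have h : {p : X × X | p.1 ≠ p.2} = ((Finset.univ : Finset X).offDiag : Set (X × X)) := by
    ext p; simp
  rw [h, Set.ncard_coe_finset, Finset.offDiag_card, Finset.card_univ, ← Nat.card_eq_fintype_card, hX]

/-- The orbit of a pair of distinct points consists of pairs of distinct points. -/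
theorem orbit_subset {X : Type*} [MulAction G X] (a b : X) (hab : a ≠ b) :
    MulAction.orbit G ((a, b) : X × X) ⊆ {p : X × X | p.1 ≠ p.2} := by
  rintro p ⟨g, rfl⟩
  simp only [Set.mem_setOf_eq, Prod.smul_mk]
  intro h
  exact hab (MulAction.injective g h)

/-- orbit–stabilizer for a pair of points -/
theorem card_mul_orbit {X : Type*} [MulAction G X] (a b : X) :
    Nat.card (MulAction.stabilizer G a ⊓ MulAction.stabilizer G b : Subgroup G) *
      (MulAction.orbit G ((a, b) : X × X)).ncard = Nat.card G := by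
  rw [← stab_prod, ← MulAction.index_stabilizer, Subgroup.card_mul_index]

variable [IsSimpleGroup G]

/-- A point stabilizer has order 720. -/
theorem card_stab (hG : Nat.card G = 7920) (M : Subgroup G) (hM : M.index = 11) (a : G ⧸ M) :
    Nat.card (MulAction.stabilizer G a) = 720 := by
  have h1 : (MulAction.stabilizer G a).index = Nat.card (G ⧸ M) :=
    MulAction.index_stabilizer_of_transitive G a
  have h2 : Nat.card (G ⧸ M) = 11 := hM
  have h3 := Subgroup.card_mul_index (MulAction.stabilizer G a)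
  rw [h1, h2, hG] at h3
  omega

/-- The order of a two-point stabilizer divides 144. -/
theorem card_stab2_dvd (hF5 : Fix5.{u}) (hG : Nat.card G = 7920) (M : Subgroup G)
    (hM : M.index = 11) (a b : G ⧸ M) (hab : a ≠ b) :
    Nat.card (MulAction.stabilizer G a ⊓ MulAction.stabilizer G b : Subgroup G) ∣ 144 := by
  have h1 : Nat.card (MulAction.stabilizer G a ⊓ MulAction.stabilizer G b : Subgroup G) ∣ 720 := by
    rw [← card_stab hG M hM a]
    exact Subgroup.card_dvd_of_le inf_le_left
  have h2 : ¬ 5 ∣ Nat.card (MulAction.stabilizer G a ⊓ MulAction.stabilizer G b : Subgroup G) := by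
    intro h5
    haveI : Fact (Nat.Prime 5) := ⟨by norm_num⟩
    obtain ⟨z, hz⟩ := exists_prime_orderOf_dvd_card' (G := (MulAction.stabilizer G a ⊓
      MulAction.stabilizer G b : Subgroup G)) 5 h5
    have hz' : orderOf (z : G) = 5 := by rw [Subgroup.orderOf_coe]; exact hz
    have hfix := hF5 G hG M hM (z : G) hz'
    have hza : (z : G) • a = a := MulAction.mem_stabilizer_iff.mp (z.2.1)
    have hzb : (z : G) • b = b := MulAction.mem_stabilizer_iff.mp (z.2.2)
    have hsub : ({a, b} : Set (G ⧸ M)) ⊆ MulAction.fixedBy (G ⧸ M) (z : G) := by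
      intro x hx
      rcases hx with rfl | rfl
      · exact hza
      · exact hzb
    have hle := Set.ncard_le_ncard hsub (Set.toFinite _)
    rw [Set.ncard_pair hab, ← Nat.card_coe_set_eq, hfix] at hle
    omega
  have h3 : Nat.Coprime (Nat.card (MulAction.stabilizer G a ⊓ MulAction.stabilizer G b :
      Subgroup G)) 5 := by
    rw [Nat.coprime_comm]
    exact (Nat.Prime.coprime_iff_not_dvd (by norm_num)).mpr h2
  exact h3.dvd_of_dvd_mul_left (by simpa using h1)

/-- Given 2-transitivity, a two-point stabilizer has order 72. -/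
theorem card_stab2 (hTT : TwoTrans.{u}) (hG : Nat.card G = 7920) (M : Subgroup G)
    (hM : M.index = 11) (a b : G ⧸ M) (hab : a ≠ b) :
    Nat.card (MulAction.stabilizer G a ⊓ MulAction.stabilizer G b : Subgroup G) = 72 := by
  have h1 : MulAction.orbit G ((a, b) : (G ⧸ M) × (G ⧸ M)) = {p | p.1 ≠ p.2} := by
    apply Set.Subset.antisymm (orbit_subset a b hab)
    rintro ⟨a', b'⟩ hp
    obtain ⟨g, hg1, hg2⟩ := hTT G hG M hM a b a' b' hab hp
    exact ⟨g, by simp [hg1, hg2]⟩
  have h2 := card_mul_orbit (G := G) a b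
  rw [h1, ncard_offDiag (G ⧸ M) hM, hG] at h2
  omega

/-- An element fixing every coset is trivial. -/
theorem eq_one_of_fix_all (M : Subgroup G) (hM : M ≠ ⊤) (t : G) (h : ∀ x : G ⧸ M, t • x = x) :
    t = 1 := by
  have hmem : t ∈ M.normalCore := by
    intro b
    have := (Cfsg.Agent.Lib.Helper17.FixedPoints.coset_fixed_iff M t b⁻¹).mp (h _)
    simpa using this
  rcases (Subgroup.normalCore_normal M).eq_bot_or_eq_top with h0 | h0
  · rw [h0] at hmem
    exact Subgroup.mem_bot.mp hmem
  · exact absurd (top_le_iff.mp (h0 ▸ Subgroup.normalCore_le M)) hM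

/-- [TWOTRANS] -/
theorem main : Fix5.{u} → TwoTrans.{u} := by
  intro hF5 G _ _ _ hG M hM a b a' b' hab hab'
  have hMtop : M ≠ ⊤ := by
    rintro rfl
    simp at hM
  -- an involution moving a point
  haveI : Fact (Nat.Prime 2) := ⟨Nat.prime_two⟩
  obtain ⟨t, ht⟩ := exists_prime_orderOf_dvd_card' (G := G) 2 (by rw [hG]; norm_num)
  have ht1 : t ≠ 1 := by
    rintro rfl
    simp at ht
  have htt : t * t = 1 := by
    rw [← pow_two, ← ht, pow_orderOf_eq_one]
  obtain ⟨a0, ha0⟩ : ∃ x : G ⧸ M, t • x ≠ x := by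
    by_contra hcon
    push_neg at hcon
    exact ht1 (eq_one_of_fix_all M hMtop t hcon)
  set b0 := t • a0 with hb0
  have htb0 : t • b0 = a0 := by
    rw [hb0, smul_smul, htt, one_smul]
  have hab0 : a0 ≠ b0 := fun h => ha0 h.symm
  -- the orbit of (a0, b0)
  set O := MulAction.orbit G ((a0, b0) : (G ⧸ M) × (G ⧸ M)) with hO
  have hsub : O ⊆ {p | p.1 ≠ p.2} := orbit_subset a0 b0 hab0
  have hev : Even O.ncard := by
    apply even_ncard_of_swap O hsub
    rintro p ⟨g, rfl⟩
    refine ⟨g * t, ?_⟩
    simp only [Prod.smul_mk, Prod.swap_prod_mk, mul_smul]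
    rw [htb0, ← hb0]
  have hcard := card_mul_orbit (G := G) a0 b0
  rw [← hO, hG] at hcard
  have hdvd := card_stab2_dvd hF5 hG M hM a0 b0 hab0
  have hle : O.ncard ≤ 110 := by
    rw [← ncard_offDiag (G ⧸ M) hM]
    exact Set.ncard_le_ncard hsub (Set.toFinite _)
  have hOn : O.ncard = 110 := by
    obtain ⟨k, hk⟩ := hev
    obtain ⟨d, hd⟩ := hdvd
    set s := Nat.card (MulAction.stabilizer G a0 ⊓ MulAction.stabilizer G b0 : Subgroup G) with hs
    have hs144 : s ≤ 144 := Nat.le_of_dvd (by norm_num) ⟨d, hd⟩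
    have hspos : 0 < s := Nat.card_pos
    rw [hk] at hcard hle
    have hk55 : k ≤ 55 := by omega
    have hk1 : 0 < k := by
      rcases Nat.eq_zero_or_pos k with h | h
      · rw [h] at hcard; omega
      · exact h
    -- s * (2k) = 7920, s ∣ 144, k ≤ 55: so s * 2k ≥ ... s ≥ 72
    have h72 : 72 ≤ s := by
      by_contra hlt
      push_neg at hlt
      have : s * (k + k) ≤ 71 * 110 := Nat.mul_le_mul (by omega) (by omega)
      omega
    have hd2 : d ≤ 2 := by
      by_contra hlt
      push_neg at hlt
      have : 72 * 3 ≤ s * d := Nat.mul_le_mul h72 hlt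
      omega
    have hd0 : d ≠ 0 := by
      rintro rfl
      omega
    have hd12 : d = 1 ∨ d = 2 := by omega
    rcases hd12 with rfl | rfl
    · have hs' : s = 144 := by omega
      rw [hs'] at hcard
      omega
    · have hs' : s = 72 := by omega
      rw [hs'] at hcard
      omega
  have hOeq : O = {p | p.1 ≠ p.2} := by
    apply Set.eq_of_subset_of_ncard_le hsub _ (Set.toFinite _)
    rw [ncard_offDiag (G ⧸ M) hM, hOn]
  have h1 : ((a, b) : (G ⧸ M) × (G ⧸ M)) ∈ O := by rw [hOeq]; exact hab
  have h2 : ((a', b') : (G ⧸ M) × (G ⧸ M)) ∈ O := by rw [hOeq]; exact hab'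
  obtain ⟨g1, hg1⟩ := h1
  obtain ⟨g2, hg2⟩ := h2
  simp only [Prod.smul_mk, Prod.mk.injEq] at hg1 hg2
  refine ⟨g2 * g1⁻¹, ?_, ?_⟩
  · rw [← hg1.1, mul_smul, inv_smul_smul, hg2.1]
  · rw [← hg1.2, mul_smul, inv_smul_smul, hg2.2]

end Cfsg.Agent.Lib.Helper71.MUTWOTRANS
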