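import Mathlib
import Cfsg.Agent.Lib.Helper68.M11UStmt
import Cfsg.Agent.Lib.Helper68.M11Facts
import Cfsg.Agent.Lib.Helper17.Commuting
import Cfsg.Agent.Lib.Helper71.MUTWOTRANS

/-!
# S0420 piece FIX3 (helper71): in the action of a simple group of order 7920 on the 11 cosets
of a subgroup of index 11, an element of order 3 fixes exactly two cosets.
-/

set_option autoImplicit false

namespace Cfsg.Agent.Lib.Helper71.MUFIX3

open Cfsg Cfsg.Agent.Lib.Helper68.M11UStmt Cfsg.Agent.Lib.Helper92.M11Stmt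
open Cfsg.Agent.Lib.Helper71.MUTWOTRANS

universe u

variable {G : Type u} [Group G] [Finite G] [IsSimpleGroup G]

omit [IsSimpleGroup G] in
/-- A non-trivial element of a group of order 9 has a power of order 3. -/
theorem exists_order3 (P : Subgroup G) (hP : Nat.card P = 9) (p : G) (hp : p ∈ P)
    (hp1 : p ≠ 1) : ∃ z ∈ Subgroup.zpowers p, orderOf z = 3 := by
  haveI : Fact (Nat.Prime 3) := ⟨Nat.prime_three⟩
  have hdvd : orderOf p ∣ 9 := by
    rw [← hP]
    exact Subgroup.orderOf_dvd_natCard _ hp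
  have hne1 : orderOf p ≠ 1 := by
    rw [Ne, orderOf_eq_one_iff]
    exact hp1
  have h3 : 3 ∣ Nat.card (Subgroup.zpowers p) := by
    rw [Nat.card_zpowers]
    have h9 : ∀ d ∈ Nat.divisors 9, d ≠ 1 → 3 ∣ d := by decide
    exact h9 _ (Nat.mem_divisors.mpr ⟨hdvd, by norm_num⟩) hne1
  obtain ⟨z, hz⟩ := exists_prime_orderOf_dvd_card' (G := Subgroup.zpowers p) 3 h3
  exact ⟨(z : G), z.2, by rw [Subgroup.orderOf_coe]; exact hz⟩

/-- An element of order 3 fixing two distinct points: every Sylow 3-subgroup containing it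
fixes both. -/
theorem sylow_le_stab2 (hTT : TwoTrans.{u}) (hG : Nat.card G = 7920) (M : Subgroup G)
    (hM : M.index = 11) (y : G) (hy : orderOf y = 3) (c c' : G ⧸ M) (hcc : c ≠ c')
    (hc : y • c = c) (hc' : y • c' = c') (P : Sylow 3 G) (hyP : y ∈ (P : Subgroup G)) :
    (P : Subgroup G) ≤ MulAction.stabilizer G c ⊓ MulAction.stabilizer G c' := by
  haveI : Fact (Nat.Prime 3) := ⟨Nat.prime_three⟩
  set S := (MulAction.stabilizer G c ⊓ MulAction.stabilizer G c' : Subgroup G) with hS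
  have hScard : Nat.card S = 72 := card_stab2 hTT hG M hM c c' hcc
  have hyS : y ∈ S := ⟨hc, hc'⟩
  -- a subgroup of order 9 of S containing y
  obtain ⟨K, hK9, hK⟩ := Sylow.exists_subgroup_card_pow_prime_le 3 (m := 2) (n := 1) (G := S)
    (by rw [hScard]; norm_num) (Subgroup.zpowers (⟨y, hyS⟩ : S))
    (by rw [Nat.card_zpowers, Subgroup.orderOf_mk, hy]; norm_num) (by norm_num)
  set K' := K.map S.subtype with hK'
  have hK'card : Nat.card K' = 9 := by
    rw [hK', Subgroup.card_map_of_injective (Subgroup.subtype_injective S), hK9]; norm_num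
  have hK'S : K' ≤ S := Subgroup.map_subtype_le K
  have hyK' : y ∈ K' := ⟨⟨y, hyS⟩, hK (Subgroup.mem_zpowers _), rfl⟩
  have hK'p : IsPGroup 3 K' := IsPGroup.of_card (n := 2) (by rw [hK'card]; norm_num)
  obtain ⟨Q, hQ⟩ := hK'p.exists_le_sylow
  have hQeq : K' = (Q : Subgroup G) :=
    Subgroup.eq_of_le_of_card_ge hQ
      (by rw [hK'card, Cfsg.Agent.Lib.Helper68.M11Facts.card_syl3 hG Q])
  have hPQ : P = Q := by
    by_contra hne
    have hbot := Cfsg.Agent.Lib.Helper68.M11Facts.syl_ti hG P Q hne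
    have hy1 : y ∈ (P : Subgroup G) ⊓ (Q : Subgroup G) := ⟨hyP, hQeq ▸ hyK'⟩
    rw [hbot] at hy1
    have h1 : y = 1 := Subgroup.mem_bot.mp hy1
    rw [h1] at hy
    simp at hy
  rw [hPQ, ← hQeq]
  exact hK'S

/-- The number of fixed points of an element of order 3 is congruent to 2 modulo 3. -/
theorem card_fix_mod (M : Subgroup G) (hM : M.index = 11) (y : G) (hy : orderOf y = 3) :
    Nat.card (MulAction.fixedBy (G ⧸ M) y) % 3 = 2 := by
  haveI : Fact (Nat.Prime 3) := ⟨Nat.prime_three⟩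
  have h := Cfsg.Agent.Lib.Helper17.Commuting.card_modEq_card_fixedBy (X := G ⧸ M) (p := 3)
    (n := 1) y (by rw [pow_one, ← hy, pow_orderOf_eq_one])
  have h11 : Nat.card (G ⧸ M) = 11 := hM
  rw [h11] at h
  unfold Nat.ModEq at h
  omega

/-- A non-trivial element of a Sylow 3-subgroup `P` fixing a point: all of `P` fixes it. -/
theorem sylow_fix (hTT : TwoTrans.{u}) (hG : Nat.card G = 7920) (M : Subgroup G)
    (hM : M.index = 11) (P : Sylow 3 G) (p : G) (hp : p ∈ (P : Subgroup G)) (hp1 : p ≠ 1)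
    (x : G ⧸ M) (hx : p • x = x) : ∀ q ∈ (P : Subgroup G), q • x = x := by
  haveI : Fact (Nat.Prime 3) := ⟨Nat.prime_three⟩
  obtain ⟨z, hzp, hz'⟩ := exists_order3 (P : Subgroup G)
    (Cfsg.Agent.Lib.Helper68.M11Facts.card_syl3 hG P) p hp hp1
  have hzP : z ∈ (P : Subgroup G) := (Subgroup.zpowers_le.mpr hp) hzp
  have hzx : z • x = x := by
    have hle : Subgroup.zpowers p ≤ MulAction.stabilizer G x :=
      Subgroup.zpowers_le.mpr (MulAction.mem_stabilizer_iff.mpr hx)
    exact MulAction.mem_stabilizer_iff.mp (hle hzp)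
  -- a second fixed point of z
  have hmod := card_fix_mod M hM z hz'
  have h2 : 1 < (MulAction.fixedBy (G ⧸ M) z).ncard := by
    rw [← Nat.card_coe_set_eq]
    omega
  obtain ⟨x', hx', hne⟩ := Set.exists_ne_of_one_lt_ncard h2 x
  have hle := sylow_le_stab2 hTT hG M hM z hz' x x' hne.symm hzx hx' P hzP
  intro q hq
  exact MulAction.mem_stabilizer_iff.mp (hle hq).1

/-- [FIX3] -/
theorem main : TwoTrans.{u} → Fix3.{u} := by
  intro hTT G _ _ _ hG M hM y hy
  haveI : Fact (Nat.Prime 3) := ⟨Nat.prime_three⟩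
  have hMtop : M ≠ ⊤ := by
    rintro rfl
    simp at hM
  have hy1 : y ≠ 1 := by
    rintro rfl
    simp at hy
  have hmod := card_fix_mod M hM y hy
  -- a Sylow 3-subgroup containing y
  have hyp : IsPGroup 3 (Subgroup.zpowers y) :=
    IsPGroup.of_card (n := 1) (by rw [Nat.card_zpowers, hy]; norm_num)
  obtain ⟨P, hP⟩ := hyp.exists_le_sylow
  have hyP : y ∈ (P : Subgroup G) := hP (Subgroup.mem_zpowers y)
  -- a point moved by y
  obtain ⟨x, hx⟩ : ∃ x : G ⧸ M, y • x ≠ x := by
    by_contra hcon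
    push_neg at hcon
    exact hy1 (eq_one_of_fix_all M hMtop y hcon)
  -- the orbit map of P at x
  have hxP : ∀ p ∈ (P : Subgroup G), p • x = x → p = 1 := by
    intro p hp hpx
    by_contra hp1
    exact hx (sylow_fix hTT hG M hM P p hp hp1 x hpx y hyP)
  set φ : ↥(P : Subgroup G) → G ⧸ M := fun p => (p : G) • x with hφ
  have hinj : Function.Injective φ := by
    intro p q hpq
    have h1 : ((q : G)⁻¹ * (p : G)) • x = x := by
      have h2 : (p : G) • x = (q : G) • x := hpq
      rw [mul_smul, h2, inv_smul_smul]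
    have h3 := hxP _ ((P : Subgroup G).mul_mem ((P : Subgroup G).inv_mem q.2) p.2) h1
    apply Subtype.ext
    have h4 : (q : G) * ((q : G)⁻¹ * (p : G)) = (q : G) * 1 := by rw [h3]
    rw [mul_inv_cancel_left, mul_one] at h4
    exact h4
  have hdisj : Disjoint (MulAction.fixedBy (G ⧸ M) y) (Set.range φ) := by
    rw [Set.disjoint_left]
    rintro _ hfix ⟨p, rfl⟩
    have hfix' : y • ((p : G) • x) = (p : G) • x := hfix
    have h1 : ((p : G)⁻¹ * y * (p : G)) • x = x := by
      rw [mul_smul, mul_smul, hfix', inv_smul_smul]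
    have h3 := hxP _ ((P : Subgroup G).mul_mem
      ((P : Subgroup G).mul_mem ((P : Subgroup G).inv_mem p.2) hyP) p.2) h1
    apply hy1
    have h4 : (p : G) * ((p : G)⁻¹ * y * (p : G)) * (p : G)⁻¹ = (p : G) * 1 * (p : G)⁻¹ := by
      rw [h3]
    simpa [mul_assoc] using h4
  have hcard := Set.ncard_union_eq hdisj (Set.toFinite _) (Set.toFinite _)
  rw [Set.ncard_range_of_injective hinj, Cfsg.Agent.Lib.Helper68.M11Facts.card_syl3 hG P] at hcard
  have hle := Set.ncard_le_card (MulAction.fixedBy (G ⧸ M) y ∪ Set.range φ)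
  have h11 : Nat.card (G ⧸ M) = 11 := hM
  rw [h11, hcard] at hle
  rw [Nat.card_coe_set_eq] at hmod ⊢
  omega

end Cfsg.Agent.Lib.Helper71.MUFIX3
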