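import Mathlib
import Cfsg.Agent.Lib.Helper68.M11UStmt
import Cfsg.Agent.Lib.Helper17.CentFix
import Cfsg.Agent.Lib.Helper71.MUTWOTRANS
import Cfsg.Agent.Lib.Helper71.MUFIX3

/-!
# S0420 piece STAB3 (helper71): in the action of a simple group of order 7920 on the 11 cosets
of a subgroup of index 11, the stabilizer of three distinct cosets has order 8.
-/

set_option autoImplicit false

namespace Cfsg.Agent.Lib.Helper71.MUSTAB3

open Cfsg Cfsg.Agent.Lib.Helper68.M11UStmt Cfsg.Agent.Lib.Helper92.M11Stmt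
open Cfsg.Agent.Lib.Helper71.MUTWOTRANS

universe u

/-- [STAB3] -/
theorem main : TwoTrans.{u} → Fix3.{u} → Stab3.{u} := by
  intro hTT hF3 G _ _ _ hG M hM a b c hab hac hbc
  haveI : Fact (Nat.Prime 3) := ⟨Nat.prime_three⟩
  set S := (MulAction.stabilizer G a ⊓ MulAction.stabilizer G b : Subgroup G) with hS
  have hScard : Nat.card S = 72 := card_stab2 hTT hG M hM a b hab
  have h11 : Nat.card (G ⧸ M) = 11 := hM
  -- a subgroup P of order 9 of S
  obtain ⟨P, hPS, hP9⟩ := Cfsg.Agent.Lib.Helper17.CentFix.exists_subgroup_le_card_pow_prime S 3 2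
    (by rw [hScard]; norm_num)
  have hP9' : Nat.card P = 9 := by rw [hP9]; norm_num
  -- P acts freely at c
  have hfree : ∀ p ∈ P, p • c = c → p = 1 := by
    intro p hp hpc
    by_contra hp1
    obtain ⟨z, hzp, hz3⟩ := Cfsg.Agent.Lib.Helper71.MUFIX3.exists_order3 P hP9' p hp hp1
    have hzP : z ∈ P := (Subgroup.zpowers_le.mpr hp) hzp
    have hzS : z ∈ S := hPS hzP
    have hzc : z • c = c := by
      have hle : Subgroup.zpowers p ≤ MulAction.stabilizer G c :=
        Subgroup.zpowers_le.mpr (MulAction.mem_stabilizer_iff.mpr hpc)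
      exact MulAction.mem_stabilizer_iff.mp (hle hzp)
    have hfix := hF3 G hG M hM z hz3
    have hsub : ({a, b, c} : Set (G ⧸ M)) ⊆ MulAction.fixedBy (G ⧸ M) z := by
      intro x hx
      rcases hx with rfl | rfl | rfl
      · exact hzS.1
      · exact hzS.2
      · exact hzc
    have hle := Set.ncard_le_ncard hsub (Set.toFinite _)
    have h3 : ({a, b, c} : Set (G ⧸ M)).ncard = 3 := by
      rw [Set.ncard_insert_of_notMem (by simp [hab, hac]) (Set.toFinite _), Set.ncard_pair hbc]
    rw [h3, ← Nat.card_coe_set_eq, hfix] at hle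
    omega
  -- the stabilizer of c in S
  have hT : (MulAction.stabilizer S c).map S.subtype = S ⊓ MulAction.stabilizer G c := by
    ext g
    constructor
    · rintro ⟨⟨g', hg'⟩, hs, rfl⟩
      exact ⟨hg', hs⟩
    · rintro ⟨hgS, hgc⟩
      exact ⟨⟨g, hgS⟩, hgc, rfl⟩
  have hTcard : Nat.card (S ⊓ MulAction.stabilizer G c : Subgroup G) =
      Nat.card (MulAction.stabilizer S c) := by
    rw [← hT, Subgroup.card_map_of_injective (Subgroup.subtype_injective S)]
  -- the orbit of c under S
  have horb1 : MulAction.orbit S c ⊆ ({a, b} : Set (G ⧸ M))ᶜ := by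
    rintro _ ⟨⟨s, hs⟩, rfl⟩
    have hsa : s • a = a := hs.1
    have hsb : s • b = b := hs.2
    show s • c ∉ ({a, b} : Set (G ⧸ M))
    rintro (h | h)
    · rw [← hsa] at h
      exact hac (MulAction.injective s h).symm
    · rw [← hsb] at h
      exact hbc (MulAction.injective s h).symm
  have hcompl : (({a, b} : Set (G ⧸ M))ᶜ).ncard = 9 := by
    rw [Set.ncard_compl _ (Set.toFinite _) (Set.toFinite _), Set.ncard_pair hab, h11]
  set φ : P → G ⧸ M := fun p => (p : G) • c with hφ
  have hinj : Function.Injective φ := by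
    intro p q hpq
    have h1 : ((q : G)⁻¹ * (p : G)) • c = c := by
      have h2 : (p : G) • c = (q : G) • c := hpq
      rw [mul_smul, h2, inv_smul_smul]
    have h3 := hfree _ (P.mul_mem (P.inv_mem q.2) p.2) h1
    apply Subtype.ext
    have h4 : (q : G) * ((q : G)⁻¹ * (p : G)) = (q : G) * 1 := by rw [h3]
    rw [mul_inv_cancel_left, mul_one] at h4
    exact h4
  have horb2 : Set.range φ ⊆ MulAction.orbit S c := by
    rintro _ ⟨p, rfl⟩
    exact ⟨⟨(p : G), hPS p.2⟩, rfl⟩
  have hle1 := Set.ncard_le_ncard horb1 (Set.toFinite _)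
  have hle2 := Set.ncard_le_ncard horb2 (Set.toFinite _)
  rw [Set.ncard_range_of_injective hinj, hP9'] at hle2
  rw [hcompl] at hle1
  have horb : (MulAction.orbit S c).ncard = 9 := le_antisymm hle1 hle2
  have hidx := MulAction.index_stabilizer S c
  have hmul := Subgroup.card_mul_index (MulAction.stabilizer S c)
  rw [hidx, horb, hScard] at hmul
  show Nat.card (S ⊓ MulAction.stabilizer G c : Subgroup G) = 8
  rw [hTcard]
  omega

end Cfsg.Agent.Lib.Helper71.MUSTAB3
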