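import Mathlib
import Cfsg.Agent.Lib.Helper17.Sylow
import Cfsg.Agent.Lib.Helper17.Sylow2
import Cfsg.Agent.Lib.Helper17.Orbits
import Cfsg.Agent.Lib.Helper17.CentFix
import Cfsg.Agent.Lib.Helper17.Commuting
import Cfsg.Agent.Lib.Helper17.FixedPoints
import Cfsg.Agent.Lib.Helper17.FixCount

set_option autoImplicit false
set_option linter.unusedSectionVars false
set_option linter.unusedVariables false

/-!
Tools for the prime graph of a group with a proper nontrivial normal subgroup: elements of
order `r * s` obtained from normalizers of Sylow subgroups (Frattini argument), Burnside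
complements inside normal subgroups, and the non-existence of simple groups of order 3960.
-/

namespace Cfsg.Agent.Lib.Helper71.Graph7920

open Subgroup MulAction
open Cfsg.Agent.Lib.Helper17

variable {G : Type*} [Group G] [Finite G]

/-- A free action: the group order divides the size of the set. -/
theorem free_dvd {Y X : Type*} [Group Y] [Finite Y] [MulAction Y X] [Finite X]
    (h : ∀ y : Y, y ≠ 1 → ∀ x : X, y • x ≠ x) : Nat.card Y ∣ Nat.card X := by
  apply Cfsg.Agent.Lib.Helper17.Orbits.dvd_card_of_forall_dvd_card_orbit (H := Y)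
  intro x
  have hstab : stabilizer Y x = ⊥ := by
    rw [eq_bot_iff]
    intro y hy
    rw [mem_stabilizer_iff] at hy
    rw [Subgroup.mem_bot]
    by_contra hy1
    exact h y hy1 x hy
  have h1 := index_stabilizer Y x
  rw [hstab, Subgroup.index_bot] at h1
  rw [Nat.card_coe_set_eq, ← h1]

/-- Commuting nonidentity elements from a normalizing subgroup whose order does not divide
`|S| - 1`. -/
theorem exists_commuting (S Y : Subgroup G) (hY : Y ≤ normalizer (S : Set G))
    (hnd : ¬ Nat.card Y ∣ Nat.card S - 1) :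
    ∃ x ∈ S, x ≠ 1 ∧ ∃ y ∈ Y, y ≠ 1 ∧ Commute x y := by
  by_contra hcon
  push Not at hcon
  let X := {x : G // x ∈ S ∧ x ≠ 1}
  let inst : MulAction Y X :=
    { smul := fun y x => ⟨y.1 * x.1 * y.1⁻¹, (mem_normalizer_iff.mp (hY y.2) x.1).mp x.2.1, by
          intro h
          apply x.2.2
          have h2 := congrArg (fun z => y.1⁻¹ * z * y.1) h
          simpa [mul_assoc] using h2⟩
      one_smul := fun x => by
        apply Subtype.ext
        show ((1 : Y) : G) * x.1 * ((1 : Y) : G)⁻¹ = x.1
        simp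
      mul_smul := fun a b x => by
        apply Subtype.ext
        show ((a * b : Y) : G) * x.1 * ((a * b : Y) : G)⁻¹ = a.1 * (b.1 * x.1 * b.1⁻¹) * a.1⁻¹
        simp [mul_assoc] }
  have hfree : ∀ y : Y, y ≠ 1 → ∀ x : X, y • x ≠ x := by
    intro y hy x hx
    have hx' : y.1 * x.1 * y.1⁻¹ = x.1 := congrArg Subtype.val hx
    have hy1 : (y : G) ≠ 1 := fun h => hy (Subtype.ext h)
    apply hcon x.1 x.2.1 x.2.2 y.1 y.2 hy1
    have h3 := congrArg (fun z => z * y.1) hx'
    simp only [inv_mul_cancel_right] at h3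
    exact h3.symm
  have hdvd := free_dvd hfree
  apply hnd
  have hX : Nat.card X = Nat.card S - 1 := by
    have h1 : Nat.card X = ((S : Set G) \ {1}).ncard := by
      rw [← Nat.card_coe_set_eq]
      rfl
    rw [h1, Set.ncard_sdiff_singleton_of_mem S.one_mem, ← Nat.card_coe_set_eq]
    rfl
  rwa [hX] at hdvd

/-- An element of order `r * s` from commuting nonidentity elements of an `r`-group and an
`s`-group. -/
theorem edge_of_commute {r s : ℕ} [hr : Fact r.Prime] [hs : Fact s.Prime] (hrs : r ≠ s)
    (S Y : Subgroup G) (hS : IsPGroup r S) (hY : IsPGroup s Y) (x y : G) (hx : x ∈ S)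
    (hx1 : x ≠ 1) (hy : y ∈ Y) (hy1 : y ≠ 1) (hc : Commute x y) :
    ∃ g : G, orderOf g = r * s := by
  have key : ∀ (p : ℕ) [Fact p.Prime] (H : Subgroup G), IsPGroup p H → ∀ z ∈ H, z ≠ 1 →
      orderOf (z ^ (orderOf z / p)) = p := by
    intro p hp H hH z hz hz1
    obtain ⟨k, hk⟩ := hH ⟨z, hz⟩
    have hk' : z ^ (p ^ k) = 1 := by
      have := congrArg Subtype.val hk
      simpa using this
    have hdvd : orderOf z ∣ p ^ k := orderOf_dvd_of_pow_eq_one hk'
    obtain ⟨i, -, hi⟩ := (Nat.dvd_prime_pow hp.out).mp hdvd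
    have hi0 : i ≠ 0 := by
      rintro rfl
      rw [pow_zero, orderOf_eq_one_iff] at hi
      exact hz1 hi
    have hp_dvd : p ∣ orderOf z := by
      rw [hi]
      exact dvd_pow_self p hi0
    exact orderOf_pow_orderOf_div (orderOf_pos z).ne' hp_dvd
  have h1 := key r S hS x hx hx1
  have h2 := key s Y hY y hy hy1
  have hc' : Commute (x ^ (orderOf x / r)) (y ^ (orderOf y / s)) := hc.pow_pow _ _
  refine ⟨x ^ (orderOf x / r) * y ^ (orderOf y / s), ?_⟩
  rw [hc'.orderOf_mul_eq_mul_orderOf_of_coprime, h1, h2]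
  rw [h1, h2]
  exact (Nat.coprime_primes hr.out hs.out).mpr hrs

/-- Edge from the normalizer of an `r`-subgroup. -/
theorem edge_of_normalizer {r s : ℕ} [hr : Fact r.Prime] [hs : Fact s.Prime] (hrs : r ≠ s)
    (S : Subgroup G) (hS : IsPGroup r S) (c : ℕ)
    (hdiv : s ^ c ∣ Nat.card (normalizer (S : Set G)))
    (hnd : ¬ s ^ c ∣ Nat.card S - 1) : ∃ g : G, orderOf g = r * s := by
  obtain ⟨Y, hYle, hYc⟩ :=
    Cfsg.Agent.Lib.Helper17.CentFix.exists_subgroup_le_card_pow_prime (normalizer (S : Set G)) s c hdiv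
  have hYp : IsPGroup s Y := IsPGroup.of_card hYc
  obtain ⟨x, hx, hx1, y, hy, hy1, hc⟩ := exists_commuting S Y hYle (by rwa [hYc])
  exact edge_of_commute hrs S Y hS hYp x y hx hx1 hy hy1 hc

/-- Frattini: the normalizer in `G` of a Sylow subgroup of a normal subgroup `N` has order
`|G| / n_r(N)`. -/
theorem frat_card {r : ℕ} [Fact r.Prime] (N : Subgroup G) [N.Normal] (S : Sylow r N) :
    Nat.card (normalizer ((((S : Subgroup N).map N.subtype : Subgroup G)) : Set G))
      * Nat.card (Sylow r N) = Nat.card G := by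
  set S' : Subgroup G := (S : Subgroup N).map N.subtype with hS'
  set M := normalizer (S' : Set G) with hM
  have hfr : M ⊔ N = ⊤ := Sylow.normalizer_sup_eq_top S
  have hS'N : S' ≤ N := Subgroup.map_subtype_le _
  have h1 : N.relIndex M = N.index := by
    rw [← relIndex_sup_right (H := M) (K := N), hfr, relIndex_top_right]
  have h2 : Nat.card (N ⊓ M : Subgroup G) * N.relIndex M = Nat.card M := by
    rw [← inf_relIndex_right]
    exact Cfsg.Agent.Lib.Helper17.Sylow.card_mul_relIndex inf_le_right
  have h3 : Nat.card (N ⊓ M : Subgroup G) = Nat.card (normalizer ((S : Subgroup N) : Set N)) := by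
    have e1 : M.subgroupOf N = normalizer ((S : Subgroup N) : Set N) := by
      rw [hM, subgroupOf_normalizer_eq hS'N]
      have e2 : S'.subgroupOf N = (S : Subgroup N) :=
        Subgroup.comap_map_eq_self_of_injective N.subtype_injective _
      rw [e2]
    rw [← e1, ← inf_subgroupOf_left M N]
    exact (Nat.card_congr (Subgroup.subgroupOfEquivOfLe (inf_le_left : N ⊓ M ≤ N)).toEquiv).symm
  have h4 := Cfsg.Agent.Lib.Helper17.Sylow.card_normalizer_mul_card_sylow S
  have h5 := N.card_mul_index
  rw [← h2, h3, h1, ← h5, ← h4]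
  ring

theorem frat_index_dvd {r : ℕ} [Fact r.Prime] (N : Subgroup G) [N.Normal] (S : Sylow r N) :
    N.index ∣ Nat.card (normalizer ((((S : Subgroup N).map N.subtype : Subgroup G)) : Set G)) := by
  have hfr : normalizer ((((S : Subgroup N).map N.subtype : Subgroup G)) : Set G) ⊔ N = ⊤ :=
    Sylow.normalizer_sup_eq_top S
  have h1 : N.relIndex (normalizer ((((S : Subgroup N).map N.subtype : Subgroup G)) : Set G))
      = N.index := by
    rw [← relIndex_sup_right (H := normalizer ((((S : Subgroup N).map N.subtype : Subgroup G)) : Set G))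
      (K := N), hfr, relIndex_top_right]
  rw [← h1]
  exact relIndex_dvd_card _ _

theorem isPGroup_map_sylow {r : ℕ} [Fact r.Prime] (N : Subgroup G) (S : Sylow r N) :
    IsPGroup r ((S : Subgroup N).map N.subtype : Subgroup G) :=
  S.isPGroup'.map N.subtype

theorem card_map_sylow {r : ℕ} [Fact r.Prime] (N : Subgroup G) (S : Sylow r N) :
    Nat.card ((S : Subgroup N).map N.subtype : Subgroup G) = Nat.card (S : Subgroup N) :=
  Subgroup.card_map_of_injective N.subtype_injective

/-- Edge from a Sylow subgroup of a normal subgroup, with known Sylow number. -/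
theorem edge_frat_n {r s : ℕ} [Fact r.Prime] [Fact s.Prime] (hrs : r ≠ s) (N : Subgroup G)
    [N.Normal] (g0 a d' c n : ℕ) (hG : Nat.card G = g0) (hN : Nat.card N = r ^ a * d')
    (hd' : ¬ r ∣ d') (hn : Nat.card (Sylow r N) = n)
    (hdiv : s ^ c ∣ g0 / n) (hnd : ¬ s ^ c ∣ r ^ a - 1) :
    ∃ g : G, orderOf g = r * s := by
  obtain ⟨S⟩ : Nonempty (Sylow r N) := inferInstance
  have hSc := Cfsg.Agent.Lib.Helper17.Sylow.card_sylow_subgroup hN hd' S
  have h3 := frat_card N S
  rw [hn, hG] at h3
  have hn0 : 0 < n := by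
    rw [← hn]
    exact Nat.card_pos
  apply edge_of_normalizer hrs _ (isPGroup_map_sylow N S) c
  · have : Nat.card (normalizer ((((S : Subgroup N).map N.subtype : Subgroup G)) : Set G))
        = g0 / n := by
      rw [← h3]
      exact (Nat.mul_div_cancel _ hn0).symm
    rwa [this]
  · rwa [card_map_sylow, hSc]

/-- Uniform version: the edge holds for every admissible Sylow number. -/
theorem edge_frat {r s : ℕ} [Fact r.Prime] [Fact s.Prime] (hrs : r ≠ s) (N : Subgroup G)
    [N.Normal] (g0 a d' c : ℕ) (hG : Nat.card G = g0) (hN : Nat.card N = r ^ a * d')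
    (hd' : ¬ r ∣ d') (hall : ∀ n, n ∣ d' → n % r = 1 → s ^ c ∣ g0 / n)
    (hnd : ¬ s ^ c ∣ r ^ a - 1) :
    ∃ g : G, orderOf g = r * s :=
  edge_frat_n hrs N g0 a d' c _ hG hN hd' rfl
    (hall _ (Cfsg.Agent.Lib.Helper17.Sylow.card_sylow_dvd hN hd')
      (Cfsg.Agent.Lib.Helper17.Sylow.card_sylow_mod r)) hnd

/-- The same for a Sylow subgroup of the whole group (any finite group). -/
theorem edge_sylow {X : Type*} [Group X] [Finite X] {r s : ℕ} [Fact r.Prime] [Fact s.Prime]
    (hrs : r ≠ s) (a d' c : ℕ) (hX : Nat.card X = r ^ a * d') (hd' : ¬ r ∣ d')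
    (hall : ∀ n, n ∣ d' → n % r = 1 → s ^ c ∣ (r ^ a * d') / n) (hnd : ¬ s ^ c ∣ r ^ a - 1) :
    ∃ g : X, orderOf g = r * s := by
  obtain ⟨P⟩ : Nonempty (Sylow r X) := inferInstance
  have hPc := Cfsg.Agent.Lib.Helper17.Sylow.card_sylow_subgroup hX hd' P
  have hn1 := Cfsg.Agent.Lib.Helper17.Sylow.card_sylow_dvd (p := r) hX hd'
  have hn2 := Cfsg.Agent.Lib.Helper17.Sylow.card_sylow_mod (G := X) r
  have h3 := Cfsg.Agent.Lib.Helper17.Sylow.card_normalizer_mul_card_sylow P
  have h4 := hall _ hn1 hn2
  apply edge_of_normalizer hrs (P : Subgroup X) P.isPGroup' c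
  · have : Nat.card (normalizer ((P : Subgroup X) : Set X))
        = (r ^ a * d') / Nat.card (Sylow r X) := by
      rw [← hX, ← h3]
      exact (Nat.mul_div_cancel _ Nat.card_pos).symm
    rwa [this]
  · rwa [hPc]

/-- Lifting an element order from a quotient. -/
theorem lift_edge (N : Subgroup G) [N.Normal] (k : ℕ)
    (h : ∃ g : G ⧸ N, orderOf g = k) : ∃ g : G, orderOf g = k := by
  obtain ⟨gb, hgb⟩ := h
  obtain ⟨g, rfl⟩ := QuotientGroup.mk_surjective gb
  have hdvd : k ∣ orderOf g := by
    rw [← hgb]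
    exact orderOf_map_dvd (QuotientGroup.mk' N) g
  exact ⟨g ^ (orderOf g / k), orderOf_pow_orderOf_div (orderOf_pos g).ne' hdvd⟩

/-- Burnside's transfer theorem inside a normal subgroup: the normal complement is normal in
the whole group. -/
theorem burnside_normal {p : ℕ} [Fact p.Prime] (N : Subgroup G) [N.Normal] (P : Sylow p N)
    (hP : normalizer ((P : Subgroup N) : Set N) ≤ centralizer ((P : Subgroup N) : Set N)) :
    ∃ K : Subgroup G, K.Normal ∧ K ≤ N ∧
      Nat.card K * Nat.card (P : Subgroup N) = Nat.card N := by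
  have hc := MonoidHom.ker_transferSylow_isComplement' P hP
  have hcard : Nat.card (MonoidHom.transferSylow P hP).ker * Nat.card (P : Subgroup N)
      = Nat.card N := hc.card_mul_card
  have hcop : (Nat.card (MonoidHom.transferSylow P hP).ker).Coprime
      (Nat.card (P : Subgroup N)) := by
    have h1 := P.card_coprime_index
    have h2 := (P : Subgroup N).card_mul_index
    have h3 : (P : Subgroup N).index = Nat.card (MonoidHom.transferSylow P hP).ker := by
      have hpos : 0 < Nat.card (P : Subgroup N) := Nat.card_pos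
      have : Nat.card (P : Subgroup N) * (P : Subgroup N).index
          = Nat.card (P : Subgroup N) * Nat.card (MonoidHom.transferSylow P hP).ker := by
        rw [h2, ← hcard, mul_comm]
      exact Nat.eq_of_mul_eq_mul_left hpos this
    rw [h3] at h1
    exact h1.symm
  refine ⟨(MonoidHom.transferSylow P hP).ker.map N.subtype, ?_, Subgroup.map_subtype_le _, ?_⟩
  · constructor
    intro x hx g
    obtain ⟨y, hy, rfl⟩ := hx
    have hmem : g * (y : G) * g⁻¹ ∈ N := ‹N.Normal›.conj_mem _ y.2 g
    refine ⟨⟨g * (y : G) * g⁻¹, hmem⟩, ?_, rfl⟩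
    show (⟨g * (y : G) * g⁻¹, hmem⟩ : N) ∈ (MonoidHom.transferSylow P hP).ker
    rw [MonoidHom.mem_ker]
    have hyk : y ^ Nat.card (MonoidHom.transferSylow P hP).ker = 1 := by
      have := pow_card_eq_one' (G := (MonoidHom.transferSylow P hP).ker) (x := ⟨y, hy⟩)
      have h2 := congrArg Subtype.val this
      simpa using h2
    have hy'k : (⟨g * (y : G) * g⁻¹, hmem⟩ : N) ^ Nat.card (MonoidHom.transferSylow P hP).ker
        = 1 := by
      apply Subtype.ext
      rw [Subgroup.coe_pow, Subgroup.coe_mk, conj_pow, ← Subgroup.coe_pow, hyk]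
      simp
    have h1 : orderOf ((MonoidHom.transferSylow P hP) ⟨g * (y : G) * g⁻¹, hmem⟩)
        ∣ Nat.card (MonoidHom.transferSylow P hP).ker := by
      apply orderOf_dvd_of_pow_eq_one
      rw [← map_pow, hy'k, map_one]
    have h2 : orderOf ((MonoidHom.transferSylow P hP) ⟨g * (y : G) * g⁻¹, hmem⟩)
        ∣ Nat.card (P : Subgroup N) := orderOf_dvd_natCard _
    have h3 := Nat.dvd_gcd h1 h2
    rw [hcop.gcd_eq_one, Nat.dvd_one, orderOf_eq_one_iff] at h3
    exact h3
  · rw [Subgroup.card_map_of_injective N.subtype_injective]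
    exact hcard

theorem comm_of_card_le_sq {H : Type*} [Group H] [Finite H] (p a : ℕ) [Fact p.Prime]
    (ha : a ≤ 2) (h : Nat.card H = p ^ a) : ∀ x y : H, x * y = y * x := by
  have hp : p.Prime := Fact.out
  interval_cases a
  · rw [pow_zero] at h
    have := (Nat.card_eq_one_iff_unique.mp h).1
    intro x y
    rw [Subsingleton.elim x 1, Subsingleton.elim y 1]
  · rw [pow_one] at h
    have hcyc : IsCyclic H := isCyclic_of_prime_card h
    intro x y
    obtain ⟨g, hg⟩ := hcyc.exists_generator
    obtain ⟨i, rfl⟩ := Subgroup.mem_zpowers_iff.mp (hg x)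
    obtain ⟨j, rfl⟩ := Subgroup.mem_zpowers_iff.mp (hg y)
    rw [← zpow_add, ← zpow_add, add_comm]
  · exact isMulCommutative_iff.mp (IsPGroup.isMulCommutative_of_card_eq_prime_sq h)

/-- Burnside with a self-normalizing abelian Sylow subgroup of a normal subgroup. -/
theorem burnside_of_card {p : ℕ} [Fact p.Prime] (N : Subgroup G) [N.Normal] (a d' : ℕ)
    (hN : Nat.card N = p ^ a * d') (hd' : ¬ p ∣ d') (ha : a ≤ 2)
    (hn : Nat.card (Sylow p N) = d') :
    ∃ K : Subgroup G, K.Normal ∧ K ≤ N ∧ Nat.card K = d' := by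
  have hp : p.Prime := Fact.out
  obtain ⟨P⟩ : Nonempty (Sylow p N) := inferInstance
  have hPc := Cfsg.Agent.Lib.Helper17.Sylow.card_sylow_subgroup hN hd' P
  have h4 := Cfsg.Agent.Lib.Helper17.Sylow.card_normalizer_mul_card_sylow P
  have hd0 : 0 < d' := by
    rcases Nat.eq_zero_or_pos d' with h | h
    · exact absurd (h ▸ dvd_zero p) hd'
    · exact h
  rw [hn, hN] at h4
  have hnc : Nat.card (normalizer ((P : Subgroup N) : Set N)) = p ^ a :=
    Nat.eq_of_mul_eq_mul_right hd0 h4
  have hnorm : normalizer ((P : Subgroup N) : Set N) = (P : Subgroup N) := by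
    symm
    apply Subgroup.eq_of_le_of_card_ge le_normalizer
    rw [hnc, hPc]
  have hcomm := comm_of_card_le_sq (H := (P : Subgroup N)) p a ha hPc
  have hle : normalizer ((P : Subgroup N) : Set N) ≤ centralizer ((P : Subgroup N) : Set N) := by
    rw [hnorm]
    intro x hx
    rw [mem_centralizer_iff]
    intro y hy
    have := hcomm ⟨y, hy⟩ ⟨x, hx⟩
    exact congrArg Subtype.val this
  obtain ⟨K, hK1, hK2, hK3⟩ := burnside_normal N P hle
  refine ⟨K, hK1, hK2, ?_⟩
  rw [hPc, hN, mul_comm] at hK3
  exact Nat.eq_of_mul_eq_mul_left (pow_pos hp.pos a) hK3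

/-- Reduction of a divisor-quantified hypothesis to a bounded one. -/
theorem hall_of_dec (d' r m g0 : ℕ) (hd' : 0 < d')
    (h : ∀ n < d' + 1, n ∣ d' → n % r = 1 → m ∣ g0 / n) :
    ∀ n, n ∣ d' → n % r = 1 → m ∣ g0 / n :=
  fun n hn hr => h n (Nat.lt_succ_of_le (Nat.le_of_dvd hd' hn)) hn hr

theorem dvd10 : ∀ r < 11, r ∣ 10 → r ≠ 1 → r = 2 ∨ r = 5 ∨ r = 10 := by decide

theorem dvd360 : ∀ n < 361, n ∣ 360 → n % 11 = 1 → n = 1 ∨ n = 12 ∨ n = 45 := by decide +kernel

/-- There is no simple group of order 3960 (given the Z*-theorem as a hypothesis). -/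
theorem no_simple_3960 {X : Type*} [Group X] [Finite X] [IsSimpleGroup X]
    (zstar : ∀ (P : Sylow 2 X) (u : X), orderOf u = 2 → u ∈ P →
      (∀ g : X, g * u * g⁻¹ ∈ P → g * u * g⁻¹ = u) →
      ∃ N : Subgroup X, N.Normal ∧ Odd (Nat.card N) ∧ ∀ g : X, (u * g * u⁻¹ * g⁻¹) ∈ N)
    (h : Nat.card X = 3960) : False := by
  have hG : ¬ IsMulCommutative X := Sylow.not_comm_of_not_prime (by rw [h]; norm_num)
  have : Fact (Nat.Prime 11) := ⟨by norm_num⟩
  have : Fact (Nat.Prime 2) := ⟨Nat.prime_two⟩
  have : Fact (Nat.Prime 3) := ⟨Nat.prime_three⟩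
  obtain ⟨P⟩ : Nonempty (_root_.Sylow 11 X) := inferInstance
  have hN : Nat.card X = 11 ^ 1 * 360 := h.trans (by norm_num)
  have hPc : Nat.card (P : Subgroup X) = 11 := by
    have := Sylow.card_sylow_subgroup hN (by norm_num) P
    simpa using this
  have hn1 : Nat.card (_root_.Sylow 11 X) ∣ 360 := Sylow.card_sylow_dvd hN (by norm_num)
  have hn2 := Sylow.card_sylow_mod (G := X) 11
  have h11 : 11 ∣ Nat.card X := by rw [h]; norm_num
  have hn3 := Sylow.card_sylow_ne_one hG (p := 11) h11
  have h3 := Sylow.card_normalizer_mul_card_sylow P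
  have hidx := P.card_eq_index_normalizer
  obtain ⟨r, hr1, hr2, hr3, hr4⟩ := Sylow2.sylow_prime_centralizer hG P hPc
  have hNtop := Sylow.normalizer_sylow_ne_top hG h11 P
  have hn : Nat.card (_root_.Sylow 11 X) = 12 ∨ Nat.card (_root_.Sylow 11 X) = 45 := by
    have hlt : Nat.card (_root_.Sylow 11 X) < 361 :=
      Nat.lt_succ_of_le (Nat.le_of_dvd (by norm_num) hn1)
    rcases dvd360 _ hlt hn1 hn2 with h' | h' | h'
    · exact absurd h' hn3
    · exact Or.inl h'
    · exact Or.inr h'
  have hr : r = 2 ∨ r = 5 ∨ r = 10 := by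
    have h10 : r ∣ 10 := hr2
    exact dvd10 r (Nat.lt_succ_of_le (Nat.le_of_dvd (by norm_num) h10)) h10 hr1
  rcases hn with hn | hn
  · -- twelve Sylow 11-subgroups
    rw [hn, h] at h3
    have hNc : Nat.card (normalizer ((P : Subgroup X) : Set X)) = 330 := by omega
    have h3C : 3 ∣ Nat.card (centralizer ((P : Subgroup X) : Set X)) := by
      rw [hNc] at hr3
      rcases hr with rfl | rfl | rfl <;> omega
    obtain ⟨y, hyC, hy3⟩ := Sylow2.exists_mem_orderOf_eq_prime
      (centralizer ((P : Subgroup X) : Set X)) 3 h3C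
    have hf1 := CentFix.card_fixedBy_mod_of_mem_centralizer P hPc y hyC
    have hy1 : y ≠ 1 := by
      rintro rfl
      rw [orderOf_one] at hy3
      omega
    have hf2 := Commuting.card_fixedBy_lt_index (normalizer ((P : Subgroup X) : Set X)) hNtop y hy1
    have hf3 := Commuting.card_modEq_card_fixedBy
      (X := X ⧸ normalizer ((P : Subgroup X) : Set X)) (p := 3) (n := 1) y
      (by rw [pow_one, ← hy3]; exact pow_orderOf_eq_one y)
    have hidx' : (normalizer ((P : Subgroup X) : Set X)).index = 12 := hidx.symm.trans hn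
    have hcq : Nat.card (X ⧸ normalizer ((P : Subgroup X) : Set X)) = 12 := hidx'
    rw [hidx'] at hf2
    rw [hcq] at hf3
    unfold Nat.ModEq at hf3
    omega
  · -- forty-five Sylow 11-subgroups
    rw [hn, h] at h3
    have hNc : Nat.card (normalizer ((P : Subgroup X) : Set X)) = 88 := by omega
    have hCc : Nat.card (centralizer ((P : Subgroup X) : Set X)) = 44 := by
      rw [hNc] at hr3
      rcases hr with rfl | rfl | rfl <;> omega
    have hidx' : (normalizer ((P : Subgroup X) : Set X)).index = 45 := hidx.symm.trans hn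
    have hCle : centralizer ((P : Subgroup X) : Set X) ≤ normalizer ((P : Subgroup X) : Set X) :=
      Subgroup.centralizer_le_normalizer _
    obtain ⟨T0, hT0le, hT0c⟩ := CentFix.exists_subgroup_le_card_pow_prime
      (normalizer ((P : Subgroup X) : Set X)) 2 3 (by rw [hNc]; norm_num)
    have hT0p : IsPGroup 2 T0 := IsPGroup.of_card hT0c
    -- the intersection with the centralizer is nontrivial
    have hQne : T0 ⊓ centralizer ((P : Subgroup X) : Set X) ≠ ⊥ := by
      intro hbot
      have hdis : Disjoint T0 (centralizer ((P : Subgroup X) : Set X)) := disjoint_iff.mpr hbot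
      have hinj := Subgroup.mul_injective_of_disjoint hdis
      let f : T0 × centralizer ((P : Subgroup X) : Set X) → normalizer ((P : Subgroup X) : Set X) :=
        fun g => ⟨g.1.1 * g.2.1, mul_mem (hT0le g.1.2) (hCle g.2.2)⟩
      have hfinj : Function.Injective f := by
        intro a b hab
        apply hinj
        exact congrArg Subtype.val hab
      have hle := Nat.card_le_card_of_injective f hfinj
      rw [Nat.card_prod, hT0c, hCc, hNc] at hle
      omega
    have hQeven : Even (Nat.card (T0 ⊓ centralizer ((P : Subgroup X) : Set X) : Subgroup X)) := by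
      have hdvd : Nat.card (T0 ⊓ centralizer ((P : Subgroup X) : Set X) : Subgroup X) ∣ 2 ^ 3 := by
        rw [← hT0c]
        exact Subgroup.card_dvd_of_le inf_le_left
      obtain ⟨i, -, hi⟩ := (Nat.dvd_prime_pow Nat.prime_two).mp hdvd
      have hi0 : i ≠ 0 := by
        rintro rfl
        rw [pow_zero] at hi
        exact hQne ((Subgroup.card_eq_one).mp hi)
      rw [hi]
      exact (Nat.even_pow.mpr ⟨even_two, hi0⟩)
    set Q : Subgroup X := T0 ⊓ centralizer ((P : Subgroup X) : Set X) with hQ
    have hodd := CentFix.odd_card_involutions (↥Q) hQeven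
    let J := {x : ↥Q // orderOf x = 2}
    let inst : MulAction T0 J :=
      { smul := fun t x => ⟨⟨t.1 * x.1.1 * t.1⁻¹,
            ⟨T0.mul_mem (T0.mul_mem t.2 x.1.2.1) (T0.inv_mem t.2),
              FixCount.conj_mem_centralizer (P : Subgroup X) t.1 x.1.1 (hT0le t.2) x.1.2.2⟩⟩, by
            have hx := x.2
            rw [orderOf_eq_prime_iff] at hx ⊢
            obtain ⟨hx2, hx1⟩ := hx
            have hx2' : (x.1.1 : X) ^ 2 = 1 := by
              have := congrArg Subtype.val hx2
              simpa using this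
            constructor
            · apply Subtype.ext
              show (t.1 * x.1.1 * t.1⁻¹) ^ 2 = 1
              rw [conj_pow, hx2']
              simp
            · intro h1
              apply hx1
              apply Subtype.ext
              have h2 : t.1 * x.1.1 * t.1⁻¹ = 1 := congrArg Subtype.val h1
              have h3 := congrArg (fun w => t.1⁻¹ * w * t.1) h2
              simpa [mul_assoc] using h3⟩
        one_smul := fun x => by
          apply Subtype.ext
          apply Subtype.ext
          show ((1 : T0) : X) * x.1.1 * ((1 : T0) : X)⁻¹ = x.1.1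
          simp
        mul_smul := fun a b x => by
          apply Subtype.ext
          apply Subtype.ext
          show ((a * b : T0) : X) * x.1.1 * ((a * b : T0) : X)⁻¹
            = a.1 * (b.1 * x.1.1 * b.1⁻¹) * a.1⁻¹
          simp [mul_assoc] }
    have hnd : ¬ 2 ∣ Nat.card J := by
      intro h2
      exact (Nat.not_even_iff_odd.mpr hodd) (even_iff_two_dvd.mpr h2)
    obtain ⟨z, hz⟩ := hT0p.nonempty_fixed_point_of_prime_not_dvd_card J hnd
    have hzT : (z.1.1 : X) ∈ T0 := z.1.2.1
    have hzC : (z.1.1 : X) ∈ centralizer ((P : Subgroup X) : Set X) := z.1.2.2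
    have hz2 : orderOf (z.1.1 : X) = 2 := by
      rw [Subgroup.orderOf_coe]
      exact z.2
    have hzfix : ∀ t ∈ T0, t * (z.1.1 : X) * t⁻¹ = z.1.1 := by
      intro t ht
      have := hz ⟨t, ht⟩
      exact congrArg (fun w : J => (w.1.1 : X)) this
    generalize (z.1.1 : X) = zz at hzT hzC hz2 hzfix
    -- zz is central in the normalizer
    have hPT : (P : Subgroup X) ⊔ T0 = normalizer ((P : Subgroup X) : Set X) := by
      apply Subgroup.eq_of_le_of_card_ge (sup_le le_normalizer hT0le)
      rw [hNc]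
      have d1 : 11 ∣ Nat.card ((P : Subgroup X) ⊔ T0 : Subgroup X) := by
        have := Subgroup.card_dvd_of_le (le_sup_left : (P : Subgroup X) ≤ (P : Subgroup X) ⊔ T0)
        rwa [hPc] at this
      have d2 : 8 ∣ Nat.card ((P : Subgroup X) ⊔ T0 : Subgroup X) := by
        have : (8 : ℕ) = 2 ^ 3 := by norm_num
        rw [this, ← hT0c]
        exact Subgroup.card_dvd_of_le le_sup_right
      have d3 : 88 ∣ Nat.card ((P : Subgroup X) ⊔ T0 : Subgroup X) :=
        (Nat.Coprime.mul_dvd_of_dvd_of_dvd (by norm_num : Nat.Coprime 11 8) d1 d2)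
      exact Nat.le_of_dvd Nat.card_pos d3
    have hzcent : ∀ g ∈ normalizer ((P : Subgroup X) : Set X), g * zz * g⁻¹ = zz := by
      intro g hg
      have hle : (P : Subgroup X) ⊔ T0 ≤ centralizer ({zz} : Set X) := by
        apply sup_le
        · intro x hx
          rw [mem_centralizer_iff]
          intro w hw
          rw [Set.mem_singleton_iff] at hw
          subst hw
          exact ((mem_centralizer_iff.mp hzC) x hx).symm
        · intro t ht
          rw [mem_centralizer_iff]
          intro w hw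
          rw [Set.mem_singleton_iff] at hw
          subst hw
          have := hzfix t ht
          have h2 := congrArg (fun u => u * t) this
          simpa [mul_assoc] using h2.symm
      rw [← hPT] at hg
      have h1 := (mem_centralizer_iff.mp (hle hg)) zz (Set.mem_singleton zz)
      rw [← h1]
      simp
    -- a Sylow 2-subgroup equal to T0
    obtain ⟨T, hT⟩ := hT0p.exists_le_sylow
    have hTc : Nat.card (T : Subgroup X) = 2 ^ 3 :=
      Sylow.card_sylow_subgroup (h.trans (by norm_num : (3960 : ℕ) = 2 ^ 3 * 495)) (by norm_num) T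
    have hTeq : T0 = (T : Subgroup X) := by
      apply Subgroup.eq_of_le_of_card_ge hT
      rw [hTc, hT0c]
    have hz1 : zz ≠ 1 := by
      rintro rfl
      rw [orderOf_one] at hz2
      omega
    -- fixed points of zz
    obtain ⟨k, hk1, hk2, hk3⟩ := CentFix.involution_fix_data hG P hPc zz hz2 hzC
    rw [hidx'] at hk2 hk3
    have hfz : Nat.card (fixedBy (X ⧸ normalizer ((P : Subgroup X) : Set X)) zz) = 1 := by omega
    have hzN : zz ∈ normalizer ((P : Subgroup X) : Set X) := hCle hzC
    have hiso : ∀ g : X, g * zz * g⁻¹ ∈ T → g * zz * g⁻¹ = zz := by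
      intro g hg
      have hgT0 : g * zz * g⁻¹ ∈ T0 := by rw [hTeq]; exact hg
      -- zz commutes with its conjugate
      have hcomm : zz * (g * zz * g⁻¹) = (g * zz * g⁻¹) * zz := by
        have := hzfix _ hgT0
        have h2 := congrArg (fun u => u * (g * zz * g⁻¹)) this
        simpa [mul_assoc] using h2.symm
      -- fixed points of the conjugate
      have hfz' : Nat.card (fixedBy (X ⧸ normalizer ((P : Subgroup X) : Set X)) (g * zz * g⁻¹))
          = 1 := by
        have := CentFix.card_fixedBy_conj (X := X ⧸ normalizer ((P : Subgroup X) : Set X)) g⁻¹ zz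
        rw [inv_inv] at this
        rw [this, hfz]
      have hsub' := (Nat.card_eq_one_iff_unique.mp hfz').1
      have hsub := (Nat.card_eq_one_iff_unique.mp hfz).1
      have m1 : ((g : X) : X ⧸ normalizer ((P : Subgroup X) : Set X))
          ∈ fixedBy (X ⧸ normalizer ((P : Subgroup X) : Set X)) (g * zz * g⁻¹) := by
        rw [mem_fixedBy, FixedPoints.coset_fixed_iff]
        have : g⁻¹ * (g * zz * g⁻¹) * g = zz := by group
        rw [this]
        exact hzN
      have m2 : zz • ((g : X) : X ⧸ normalizer ((P : Subgroup X) : Set X))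
          ∈ fixedBy (X ⧸ normalizer ((P : Subgroup X) : Set X)) (g * zz * g⁻¹) := by
        rw [mem_fixedBy, ← mul_smul, ← hcomm, mul_smul]
        rw [mem_fixedBy] at m1
        rw [m1]
      have e1 : zz • ((g : X) : X ⧸ normalizer ((P : Subgroup X) : Set X)) = (g : X) := by
        have := hsub'.elim ⟨_, m2⟩ ⟨_, m1⟩
        exact congrArg Subtype.val this
      have m3 : ((g : X) : X ⧸ normalizer ((P : Subgroup X) : Set X))
          ∈ fixedBy (X ⧸ normalizer ((P : Subgroup X) : Set X)) zz := e1
      have m4 : (((1 : X) : X) : X ⧸ normalizer ((P : Subgroup X) : Set X))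
          ∈ fixedBy (X ⧸ normalizer ((P : Subgroup X) : Set X)) zz := by
        rw [mem_fixedBy, FixedPoints.coset_fixed_iff]
        simpa using hzN
      have e2 : ((g : X) : X ⧸ normalizer ((P : Subgroup X) : Set X)) = ((1 : X) : X) := by
        have := hsub.elim ⟨_, m3⟩ ⟨_, m4⟩
        exact congrArg Subtype.val this
      have hgN : g ∈ normalizer ((P : Subgroup X) : Set X) := by
        have h5 := QuotientGroup.eq.mp e2
        simpa using (normalizer ((P : Subgroup X) : Set X)).inv_mem h5
      exact hzcent g hgN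
    obtain ⟨Nn, hNn, hNodd, hNc'⟩ := zstar T zz hz2 (by have := hzT; rw [hTeq] at this; exact this) hiso
    rcases hNn.eq_bot_or_eq_top with hb | ht
    · -- zz is central
      apply hG
      have hzc : zz ∈ Subgroup.center X := by
        rw [Subgroup.mem_center_iff]
        intro g
        have := hNc' g
        rw [hb, Subgroup.mem_bot] at this
        have h2 := congrArg (fun u => u * g * zz) this
        simpa [mul_assoc] using h2.symm
      have hcn : Subgroup.center X = ⊤ := by
        rcases (inferInstance : (Subgroup.center X).Normal).eq_bot_or_eq_top with hb' | ht'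
        · rw [hb', Subgroup.mem_bot] at hzc
          exact absurd hzc hz1
        · exact ht'
      rw [isMulCommutative_iff]
      intro a b
      have ha : a ∈ Subgroup.center X := by rw [hcn]; exact Subgroup.mem_top a
      exact ((Subgroup.mem_center_iff.mp ha) b).symm
    · rw [ht, Subgroup.card_top, h] at hNodd
      exact absurd hNodd (by decide)

/-- A normal subgroup of index two and of minimal order among the nontrivial proper normal
subgroups is simple, provided its order is not a square. -/
theorem simple_of_index_two_min (N : Subgroup G) [hNn : N.Normal] (hidx : N.index = 2)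
    (hmin : ∀ K : Subgroup G, K.Normal → K ≠ ⊥ → K ≠ ⊤ → Nat.card N ≤ Nat.card K)
    (hsq : ∀ m : ℕ, m * m ≠ Nat.card N) (hnt : 1 < Nat.card N) : IsSimpleGroup N := by
  have hNtop : N ≠ ⊤ := by
    rintro rfl
    rw [Subgroup.index_top] at hidx
    omega
  have hnt' : Nontrivial N := Finite.one_lt_card_iff_nontrivial.mp hnt
  refine ⟨fun H hH => ?_⟩
  by_contra hcon
  push Not at hcon
  obtain ⟨hHb, hHt⟩ := hcon
  obtain ⟨g, hg⟩ : ∃ g : G, g ∉ N := by
    by_contra hall
    push Not at hall
    exact hNtop (eq_top_iff.mpr fun x _ => hall x)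
  have hφ : ∀ h x : G, (MulAut.conj h).toMonoidHom x = h * x * h⁻¹ := fun h x => rfl
  have hMN : H.map N.subtype ≤ N := map_subtype_le H
  have hM2N : (H.map N.subtype).map (MulAut.conj g).toMonoidHom ≤ N := by
    rintro x ⟨m, hm, rfl⟩
    rw [hφ]
    exact hNn.conj_mem m (hMN hm) g
  have hMn : ∀ n ∈ N, ∀ x ∈ H.map N.subtype, n * x * n⁻¹ ∈ H.map N.subtype := by
    intro n hn x hx
    obtain ⟨y, hy, rfl⟩ := hx
    exact ⟨⟨n, hn⟩ * y * ⟨n, hn⟩⁻¹, hH.conj_mem y hy ⟨n, hn⟩, rfl⟩
  have hM2n : ∀ n ∈ N, ∀ x ∈ (H.map N.subtype).map (MulAut.conj g).toMonoidHom,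
      n * x * n⁻¹ ∈ (H.map N.subtype).map (MulAut.conj g).toMonoidHom := by
    intro n hn x hx
    obtain ⟨m, hm, rfl⟩ := hx
    have hn' : g⁻¹ * n * g⁻¹⁻¹ ∈ N := hNn.conj_mem n hn g⁻¹
    refine ⟨(g⁻¹ * n * g⁻¹⁻¹) * m * (g⁻¹ * n * g⁻¹⁻¹)⁻¹, hMn _ hn' m hm, ?_⟩
    rw [hφ, hφ]
    group
  have hgg : g * g ∈ N := (Subgroup.mul_mem_iff_of_index_two hidx).mpr Iff.rfl
  have hg1 : ∀ x ∈ H.map N.subtype,
      g * x * g⁻¹ ∈ (H.map N.subtype).map (MulAut.conj g).toMonoidHom := fun x hx => ⟨x, hx, rfl⟩
  have hg2 : ∀ x ∈ (H.map N.subtype).map (MulAut.conj g).toMonoidHom,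
      g * x * g⁻¹ ∈ H.map N.subtype := by
    rintro x ⟨m, hm, rfl⟩
    have h1 := hMn (g * g) hgg m hm
    have h2 : g * (MulAut.conj g).toMonoidHom m * g⁻¹ = g * g * m * (g * g)⁻¹ := by
      rw [hφ]
      group
    rw [h2]
    exact h1
  have hcase : ∀ h : G, h ∈ N ∨ ∃ n ∈ N, h = g * n := by
    intro h
    by_cases hh : h ∈ N
    · exact Or.inl hh
    · right
      refine ⟨g⁻¹ * h, ?_, by group⟩
      rw [Subgroup.mul_mem_iff_of_index_two hidx]
      constructor
      · intro h1
        exact absurd (N.inv_mem_iff.mp h1) hg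
      · intro h1
        exact absurd h1 hh
  have hconj : ∀ h : G,
      ((∀ x ∈ H.map N.subtype, h * x * h⁻¹ ∈ H.map N.subtype) ∧
        (∀ x ∈ (H.map N.subtype).map (MulAut.conj g).toMonoidHom,
          h * x * h⁻¹ ∈ (H.map N.subtype).map (MulAut.conj g).toMonoidHom)) ∨
      ((∀ x ∈ H.map N.subtype,
          h * x * h⁻¹ ∈ (H.map N.subtype).map (MulAut.conj g).toMonoidHom) ∧
        (∀ x ∈ (H.map N.subtype).map (MulAut.conj g).toMonoidHom,
          h * x * h⁻¹ ∈ H.map N.subtype)) := by
    intro h
    rcases hcase h with hh | ⟨n, hn, rfl⟩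
    · exact Or.inl ⟨hMn h hh, hM2n h hh⟩
    · right
      constructor
      · intro x hx
        have h1 := hg1 _ (hMn n hn x hx)
        have h2 : g * n * x * (g * n)⁻¹ = g * (n * x * n⁻¹) * g⁻¹ := by group
        rw [h2]
        exact h1
      · intro x hx
        have h1 := hg2 _ (hM2n n hn x hx)
        have h2 : g * n * x * (g * n)⁻¹ = g * (n * x * n⁻¹) * g⁻¹ := by group
        rw [h2]
        exact h1
  have hKn : (H.map N.subtype ⊓ (H.map N.subtype).map (MulAut.conj g).toMonoidHom).Normal := by
    constructor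
    intro x hx h
    rcases hconj h with ⟨h1, h2⟩ | ⟨h1, h2⟩
    · exact ⟨h1 x hx.1, h2 x hx.2⟩
    · exact ⟨h2 x hx.2, h1 x hx.1⟩
  have hLn : (H.map N.subtype ⊔ (H.map N.subtype).map (MulAut.conj g).toMonoidHom).Normal := by
    constructor
    intro x hx h
    have hmap : (H.map N.subtype ⊔ (H.map N.subtype).map (MulAut.conj g).toMonoidHom).map
        (MulAut.conj h).toMonoidHom
        ≤ H.map N.subtype ⊔ (H.map N.subtype).map (MulAut.conj g).toMonoidHom := by
      rw [Subgroup.map_sup]
      rcases hconj h with ⟨h1, h2⟩ | ⟨h1, h2⟩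
      · apply sup_le
        · rintro y ⟨m, hm, rfl⟩
          exact le_sup_left (a := H.map N.subtype) (h1 m hm)
        · rintro y ⟨m, hm, rfl⟩
          exact le_sup_right (a := H.map N.subtype) (h2 m hm)
      · apply sup_le
        · rintro y ⟨m, hm, rfl⟩
          exact le_sup_right (a := H.map N.subtype) (h1 m hm)
        · rintro y ⟨m, hm, rfl⟩
          exact le_sup_left (a := H.map N.subtype) (h2 m hm)
    exact hmap ⟨x, hx, rfl⟩
  have hMc : Nat.card (H.map N.subtype) = Nat.card H :=
    Subgroup.card_map_of_injective N.subtype_injective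
  have hM2c : Nat.card ((H.map N.subtype).map (MulAut.conj g).toMonoidHom)
      = Nat.card (H.map N.subtype) :=
    Subgroup.card_map_of_injective (MulAut.conj g).injective
  have hHlt : Nat.card H < Nat.card N := by
    apply lt_of_le_of_ne (Subgroup.card_le_card_group H)
    intro h
    exact hHt ((Subgroup.card_eq_iff_eq_top H).mp h)
  have hKbot : H.map N.subtype ⊓ (H.map N.subtype).map (MulAut.conj g).toMonoidHom = ⊥ := by
    by_contra hKb
    have hKt : H.map N.subtype ⊓ (H.map N.subtype).map (MulAut.conj g).toMonoidHom ≠ ⊤ := by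
      intro ht
      apply hNtop
      rw [eq_top_iff, ← ht]
      exact inf_le_left.trans hMN
    have h1 := hmin _ hKn hKb hKt
    have h2 : Nat.card (H.map N.subtype ⊓ (H.map N.subtype).map (MulAut.conj g).toMonoidHom
        : Subgroup G) ≤ Nat.card (H.map N.subtype) := Subgroup.card_le_of_le inf_le_left
    omega
  have hLN : H.map N.subtype ⊔ (H.map N.subtype).map (MulAut.conj g).toMonoidHom = N := by
    apply Subgroup.eq_of_le_of_card_ge (sup_le hMN hM2N)
    apply hmin _ hLn
    · intro hb
      apply hHb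
      have : H.map N.subtype = ⊥ := by
        rw [eq_bot_iff, ← hb]
        exact le_sup_left
      exact (Subgroup.map_eq_bot_iff_of_injective H N.subtype_injective).mp this
    · intro ht
      apply hNtop
      rw [eq_top_iff, ← ht]
      exact sup_le hMN hM2N
  -- counting inside N
  have hH2n : (((H.map N.subtype).map (MulAut.conj g).toMonoidHom).subgroupOf N).Normal := by
    constructor
    intro x hx n
    rw [Subgroup.mem_subgroupOf] at hx ⊢
    exact hM2n n.1 n.2 x.1 hx
  have hinf : H ⊓ ((H.map N.subtype).map (MulAut.conj g).toMonoidHom).subgroupOf N = ⊥ := by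
    rw [eq_bot_iff]
    intro x hx
    rw [Subgroup.mem_bot]
    have h1 : (x : G) ∈ H.map N.subtype ⊓ (H.map N.subtype).map (MulAut.conj g).toMonoidHom :=
      ⟨⟨x, hx.1, rfl⟩, Subgroup.mem_subgroupOf.mp hx.2⟩
    rw [hKbot, Subgroup.mem_bot] at h1
    exact Subtype.ext h1
  have hsup : H ⊔ ((H.map N.subtype).map (MulAut.conj g).toMonoidHom).subgroupOf N = ⊤ := by
    apply Subgroup.map_injective N.subtype_injective
    rw [Subgroup.map_sup, Subgroup.subgroupOf_map_subtype, inf_of_le_left hM2N, hLN,
      ← MonoidHom.range_eq_map, Subgroup.range_subtype]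
  have h1 : H.relIndex (H ⊔ ((H.map N.subtype).map (MulAut.conj g).toMonoidHom).subgroupOf N)
      = H.relIndex (((H.map N.subtype).map (MulAut.conj g).toMonoidHom).subgroupOf N) :=
    relIndex_sup_left _ _
  rw [hsup, relIndex_top_right, ← inf_relIndex_right, hinf, relIndex_bot_left] at h1
  have h2 : Nat.card (((H.map N.subtype).map (MulAut.conj g).toMonoidHom).subgroupOf N)
      = Nat.card ((H.map N.subtype).map (MulAut.conj g).toMonoidHom) :=
    Nat.card_congr (Subgroup.subgroupOfEquivOfLe hM2N).toEquiv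
  have h3 := H.card_mul_index
  rw [h1, h2, hM2c, hMc] at h3
  exact hsq _ h3

end Cfsg.Agent.Lib.Helper71.Graph7920
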