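import Mathlib
import Cfsg.Agent.Lib.Helper30.CTIStmt

/-!
# S4064, piece Z2: `H = N(M)` is transitive on the points other than `↑1`
-/

set_option autoImplicit false
set_option linter.style.haveILetI false

namespace Cfsg.Agent.Lib.Helper71.CTIZ2

open Cfsg Cfsg.Agent.Lib.Helper30.CTIStmt

universe u

theorem fix_one {G : Type u} [Group G] (H : Subgroup G) {d : G} (hd : d ∈ H) :
    d • ((1 : G) : G ⧸ H) = ((1 : G) : G ⧸ H) := by
  rw [MulAction.Quotient.smul_coe, smul_eq_mul, mul_one, QuotientGroup.eq, mul_one]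
  exact H.inv_mem hd

theorem fix_conj {G : Type u} [Group G] (H : Subgroup G) (u : G) {d : G}
    (hd : d ∈ H.map (MulAut.conj u).toMonoidHom) :
    d • ((u : G) : G ⧸ H) = ((u : G) : G ⧸ H) := by
  obtain ⟨h, hh, rfl⟩ := hd
  rw [MulAction.Quotient.smul_coe, smul_eq_mul, QuotientGroup.eq]
  have e : ((MulAut.conj u).toMonoidHom h * u)⁻¹ * u = h⁻¹ := by
    show (u * h * u⁻¹ * u)⁻¹ * u = h⁻¹
    group
  rw [e]
  exact H.inv_mem hh

theorem main : Cfsg.Agent.Lib.Helper30.CTIStmt.Z2.{u} := by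
  intro G _ _ M zd hZ3 x y hx hy
  classical
  have hMH : M ≤ NM M := Subgroup.le_normalizer
  obtain ⟨u, hu2, hux⟩ := zd.swap ((1 : G) : G ⧸ NM M) x (Ne.symm hx)
  obtain ⟨u', hu'2, hu'y⟩ := zd.swap ((1 : G) : G ⧸ NM M) y (Ne.symm hy)
  have hxu : x = ((u : G) : G ⧸ NM M) := by
    rw [← hux, MulAction.Quotient.smul_coe, smul_eq_mul, mul_one]
  have hyu : y = ((u' : G) : G ⧸ NM M) := by
    rw [← hu'y, MulAction.Quotient.smul_coe, smul_eq_mul, mul_one]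
  have huH : u ∉ NM M := by
    intro h
    apply hx
    rw [← hux]
    exact fix_one (NM M) h
  have hu'H : u' ∉ NM M := by
    intro h
    apply hy
    rw [← hu'y]
    exact fix_one (NM M) h
  -- a nonidentity element of `D_{u'}`
  have hcard : 2 ≤ Nat.card (DU (NM M) u') := by
    rw [zd.dcard u' hu'2 hu'H]
    exact zd.i2
  haveI : Nontrivial (DU (NM M) u') := (Finite.one_lt_card_iff_nontrivial).mp (by omega)
  obtain ⟨⟨d, hdD⟩, hd1⟩ := exists_ne (1 : DU (NM M) u')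
  have hd1' : d ≠ 1 := fun h => hd1 (Subtype.ext h)
  have hdH : d ∈ NM M := (inf_le_left : DU (NM M) u' ≤ NM M) hdD
  have hdc : d ∈ (NM M).map (MulAut.conj u').toMonoidHom :=
    (inf_le_right : DU (NM M) u' ≤ _) hdD
  obtain ⟨m₀, hm₀, d₀, hd₀D, hdm⟩ := zd.hmd u hu2 huH d hdH
  have hd₀H : d₀ ∈ NM M := (inf_le_left : DU (NM M) u ≤ NM M) hd₀D
  have hd₀c : d₀ ∈ (NM M).map (MulAut.conj u).toMonoidHom :=
    (inf_le_right : DU (NM M) u ≤ _) hd₀D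
  have hd₀1 : d₀ ≠ 1 := by
    intro h
    rw [h, mul_one] at hdm
    have h2 : d ∈ DU (NM M) u' ⊓ M := ⟨hdD, hdm ▸ hm₀⟩
    rw [zd.dM u' hu'2 hu'H] at h2
    exact hd1' (Subgroup.mem_bot.mp h2)
  -- the map `m ↦ m d₀ m⁻¹ d₀⁻¹` on `M`
  have hnorm : ∀ m ∈ M, d₀ * m * d₀⁻¹ ∈ M := fun m hm =>
    (Subgroup.mem_normalizer_iff.mp hd₀H m).mp hm
  have hφinj : Function.Injective (fun m : M =>
      (⟨(m : G) * (d₀ * (m : G)⁻¹ * d₀⁻¹), M.mul_mem m.2 (hnorm _ (M.inv_mem m.2))⟩ : M)) := by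
    intro m m' hmm
    have h1 : (m : G) * (d₀ * (m : G)⁻¹ * d₀⁻¹) = (m' : G) * (d₀ * (m' : G)⁻¹ * d₀⁻¹) :=
      congrArg Subtype.val hmm
    by_contra hne
    have hn1 : (m' : G)⁻¹ * (m : G) ≠ 1 := by
      intro h
      apply hne
      apply Subtype.ext
      exact (inv_mul_eq_one.mp h).symm
    have hnM : (m' : G)⁻¹ * (m : G) ∈ M := M.mul_mem (M.inv_mem m'.2) m.2
    have h2 : (m : G) * d₀ * (m : G)⁻¹ = (m' : G) * d₀ * (m' : G)⁻¹ := by
      have h3 := congrArg (· * d₀) h1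
      simpa [mul_assoc] using h3
    have hcomm : (m' : G)⁻¹ * (m : G) * d₀ = d₀ * ((m' : G)⁻¹ * (m : G)) := by
      calc (m' : G)⁻¹ * (m : G) * d₀
          = (m' : G)⁻¹ * ((m : G) * d₀ * (m : G)⁻¹) * (m : G) := by group
        _ = (m' : G)⁻¹ * ((m' : G) * d₀ * (m' : G)⁻¹) * (m : G) := by rw [h2]
        _ = d₀ * ((m' : G)⁻¹ * (m : G)) := by group
    have hd₀cent : d₀ ∈ Subgroup.centralizer ({(m' : G)⁻¹ * (m : G)} : Set G) := by
      rw [Subgroup.mem_centralizer_iff]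
      intro h hh
      rw [Set.mem_singleton_iff] at hh
      rw [hh]
      exact hcomm
    have hd₀M : d₀ ∈ M := zd.cc _ hnM hn1 hd₀cent
    have h4 : d₀ ∈ DU (NM M) u ⊓ M := ⟨hd₀D, hd₀M⟩
    rw [zd.dM u hu2 huH] at h4
    exact hd₀1 (Subgroup.mem_bot.mp h4)
  have hφsurj := Finite.injective_iff_surjective.mp hφinj
  obtain ⟨m, hm⟩ := hφsurj ⟨m₀, hm₀⟩
  have hm' : (m : G) * (d₀ * (m : G)⁻¹ * d₀⁻¹) = m₀ := congrArg Subtype.val hm
  have hd : d = (m : G) * d₀ * (m : G)⁻¹ := by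
    rw [hdm, ← hm']
    group
  refine ⟨(m : G), hMH m.2, ?_⟩
  rw [hxu, hyu]
  by_contra hne
  have hfix1 : d • ((1 : G) : G ⧸ NM M) = ((1 : G) : G ⧸ NM M) := fix_one (NM M) hdH
  have hfix2 : d • ((u' : G) : G ⧸ NM M) = ((u' : G) : G ⧸ NM M) := fix_conj (NM M) u' hdc
  have hfix3 : d • ((m : G) • ((u : G) : G ⧸ NM M)) = (m : G) • ((u : G) : G ⧸ NM M) := by
    rw [hd, mul_smul, mul_smul, inv_smul_smul, fix_conj (NM M) u hd₀c]
  have hab : ((1 : G) : G ⧸ NM M) ≠ ((u' : G) : G ⧸ NM M) := by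
    rw [← hyu]
    exact Ne.symm hy
  have hbc : ((u' : G) : G ⧸ NM M) ≠ (m : G) • ((u : G) : G ⧸ NM M) := fun h => hne h.symm
  have hac : ((1 : G) : G ⧸ NM M) ≠ (m : G) • ((u : G) : G ⧸ NM M) := by
    intro h
    apply hx
    rw [hxu]
    have h2 : (m : G)⁻¹ • ((1 : G) : G ⧸ NM M) = ((u : G) : G ⧸ NM M) := by
      rw [h, inv_smul_smul]
    rw [← h2]
    exact fix_one (NM M) ((NM M).inv_mem (hMH m.2))
  exact hd1' (hZ3 d _ _ _ hab hbc hac hfix1 hfix2 hfix3)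

end Cfsg.Agent.Lib.Helper71.CTIZ2
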