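import Mathlib
import Cfsg.Agent.Lib.Helper93.HPB1Stmt
import Cfsg.Agent.Lib.Helper43.TMTWOMINUSG

/-!
# S5974 / B1H, sub-piece `B1H-MM` (second seat)

Orthogonal sum of two nondegenerate even-dimensional subspaces, neither of plus type, is of plus
type: `Helper43.TMTWOMINUSG.two_minus_all` for the form restricted to `X = A ⊔ B`.
-/

set_option autoImplicit false

universe u

namespace Cfsg.Agent.Lib.Helper71.HPB1MM

open Cfsg.Agent.Lib.Helper93.HPB1Stmt
open Cfsg.Agent.Lib.Helper94.OPStmt (P NDegP)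
open Cfsg.Agent.Lib.Helper45.EPStmt (PlusP)
open Cfsg.Agent.Lib.Helper44.QSpace Cfsg.Agent.Lib.Helper44.NegPairs
open Module QuadraticMap

theorem main : MMH.{u} := by
  intro F _ _ d A B hA hB hAB hAev hBev hnA hnB
  classical
  have hinf : A ⊓ B = ⊥ := by
    rw [eq_bot_iff]
    rintro x ⟨hxA, hxB⟩
    rw [Submodule.mem_bot]
    by_contra hne
    obtain ⟨⟨y, hy, hy'⟩, -⟩ := hA x hxA hne
    exact hy' (hAB y hy x hxB)
  obtain ⟨X, hXdef⟩ : ∃ X : Submodule F (P d → F), X = A ⊔ B := ⟨_, rfl⟩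
  have hAX : A ≤ X := hXdef ▸ le_sup_left
  have hBX : B ≤ X := hXdef ▸ le_sup_right
  have hdimX : finrank F ↥X = finrank F ↥A + finrank F ↥B := by
    have h1 := Submodule.finrank_sup_add_finrank_inf_eq A B
    rw [hinf, finrank_bot, add_zero, ← hXdef] at h1
    exact h1
  obtain ⟨Q', hQ'⟩ : ∃ Q' : QuadraticForm F ↥X, Q' = res (plusQ d F) X := ⟨_, rfl⟩
  have hQ'x : ∀ x : ↥X, Q' x = Cfsg.quadFormPlus d F (x : P d → F) := fun x => by
    rw [hQ']
    rfl
  have hpol : ∀ x y : ↥X, polar Q' x y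
      = polar (Cfsg.quadFormPlus d F) (x : P d → F) (y : P d → F) := fun x y => by
    rw [hQ']
    rfl
  obtain ⟨A', hA'⟩ : ∃ A' : Submodule F ↥X, A' = A.comap X.subtype := ⟨_, rfl⟩
  obtain ⟨B', hB'⟩ : ∃ B' : Submodule F ↥X, B' = B.comap X.subtype := ⟨_, rfl⟩
  have hmemA : ∀ x : ↥X, x ∈ A' ↔ (x : P d → F) ∈ A := fun x => by
    rw [hA']
    rfl
  have hmemB : ∀ x : ↥X, x ∈ B' ↔ (x : P d → F) ∈ B := fun x => by
    rw [hB']
    rfl
  have hSepA : ∀ x : ↥A', (∀ y : ↥A', polar Q' (x : ↥X) (y : ↥X) = 0) → x = 0 := by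
    intro x hx
    by_contra hne
    have hne' : ((x : ↥X) : P d → F) ≠ 0 := fun h => hne (Subtype.ext (Subtype.ext h))
    obtain ⟨-, y, hy, hy'⟩ := hA _ ((hmemA x).1 x.2) hne'
    apply hy'
    have h1 := hx ⟨⟨y, hAX hy⟩, (hmemA _).2 hy⟩
    rw [hpol] at h1
    exact h1
  have hSepB : ∀ x : ↥B', (∀ y : ↥B', polar Q' (x : ↥X) (y : ↥X) = 0) → x = 0 := by
    intro x hx
    by_contra hne
    have hne' : ((x : ↥X) : P d → F) ≠ 0 := fun h => hne (Subtype.ext (Subtype.ext h))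
    obtain ⟨-, y, hy, hy'⟩ := hB _ ((hmemB x).1 x.2) hne'
    apply hy'
    have h1 := hx ⟨⟨y, hBX hy⟩, (hmemB _).2 hy⟩
    rw [hpol] at h1
    exact h1
  have hAB' : ∀ u ∈ A', ∀ v ∈ B', polar Q' u v = 0 := by
    intro u hu v hv
    rw [hpol]
    exact hAB _ ((hmemA u).1 hu) _ ((hmemB v).1 hv)
  have hinf' : A' ⊓ B' = ⊥ := by
    rw [eq_bot_iff]
    rintro x ⟨hxA, hxB⟩
    rw [Submodule.mem_bot]
    apply Subtype.ext
    have h1 : (x : P d → F) ∈ A ⊓ B := ⟨(hmemA x).1 hxA, (hmemB x).1 hxB⟩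
    rw [hinf, Submodule.mem_bot] at h1
    exact h1
  have hfA : finrank F ↥A' = finrank F ↥A := by
    rw [hA']
    exact LinearEquiv.finrank_eq (Submodule.comapSubtypeEquivOfLe hAX)
  have hfB : finrank F ↥B' = finrank F ↥B := by
    rw [hB']
    exact LinearEquiv.finrank_eq (Submodule.comapSubtypeEquivOfLe hBX)
  obtain ⟨e, he⟩ := hAev
  obtain ⟨f, hf⟩ := hBev
  have hAe : finrank F ↥A' = 2 * e := by omega
  have hBf : finrank F ↥B' = 2 * f := by omega
  have hmapfin : ∀ U : Submodule F ↥X, finrank F ↥(U.map X.subtype) = finrank F ↥U := fun U =>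
    (LinearEquiv.finrank_eq (Submodule.equivMapOfInjective X.subtype
      (Submodule.injective_subtype X) U)).symm
  have hmapts : ∀ U : Submodule F ↥X, (∀ u ∈ U, Q' u = 0) →
      ∀ w ∈ U.map X.subtype, Cfsg.quadFormPlus d F w = 0 := by
    intro U hU w hw
    obtain ⟨u, hu, rfl⟩ := Submodule.mem_map.1 hw
    have h1 := hU u hu
    rw [hQ'x] at h1
    exact h1
  rcases Cfsg.Agent.Lib.Helper43.TMTWOMINUSG.two_minus_all Q' A' B'
      (fun x hx => hSepA x (fun y => hx y)) (fun x hx => hSepB x (fun y => hx y))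
      hAB' hinf' e f hAe hBf with ⟨U, hU, hUts, hUd⟩ | ⟨U, hU, hUts, hUd⟩ | ⟨T, hTts, hTd⟩
  · exfalso
    apply hnA
    refine ⟨U.map X.subtype, ?_, hmapts U hUts, ?_⟩
    · rintro w hw
      obtain ⟨u, hu, rfl⟩ := Submodule.mem_map.1 hw
      exact (hmemA u).1 (hU hu)
    · show 2 * finrank F ↥(U.map X.subtype) = finrank F ↥A
      rw [hmapfin, hUd]
      omega
  · exfalso
    apply hnB
    refine ⟨U.map X.subtype, ?_, hmapts U hUts, ?_⟩
    · rintro w hw
      obtain ⟨u, hu, rfl⟩ := Submodule.mem_map.1 hw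
      exact (hmemB u).1 (hU hu)
    · show 2 * finrank F ↥(U.map X.subtype) = finrank F ↥B
      rw [hmapfin, hUd]
      omega
  · rw [← hXdef]
    refine ⟨T.map X.subtype, Submodule.map_subtype_le X T, hmapts T hTts, ?_⟩
    rw [hmapfin, hTd, hdimX]
    omega

end Cfsg.Agent.Lib.Helper71.HPB1MM
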