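import Mathlib
import Cfsg.Prelude.Def_Solvable
import Cfsg.Agent.Lib.Helper71.Frobenius

/-!
Finite groups in which the centralizer of every non-central element is a maximal subgroup.
Elementary structure theory (no character theory, no classification):

* `TC G` : every nonidentity element has a maximal centralizer (the trivial-centre case);
* commuting elements with different centralizers have the same prime order;
* a non-abelian centralizer has prime exponent; a normal centralizer is abelian;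
* all centralizers are abelian; one of them is normal;
* `isSolvable_of_hyp` : the general solvability theorem.
-/

set_option autoImplicit false

namespace Cfsg.Agent.Lib.Helper71.MaxCent

universe u

variable {G : Type u} [Group G]

/-- centralizer of an element -/
abbrev C (x : G) : Subgroup G := Subgroup.centralizer ({x} : Set G)

theorem mem_C {x g : G} : g ∈ C x ↔ g * x = x * g := by
  simp only [C, Subgroup.mem_centralizer_iff, Set.mem_singleton_iff, forall_eq]
  exact eq_comm

theorem self_mem_C (x : G) : x ∈ C x := mem_C.2 rfl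

theorem mem_C_comm {x g : G} : g ∈ C x ↔ x ∈ C g := by
  rw [mem_C, mem_C]; exact eq_comm

theorem C_le_C_pow (x : G) (k : ℕ) : C x ≤ C (x ^ k) := by
  intro g hg
  rw [mem_C] at hg ⊢
  exact (Commute.pow_right (show Commute g x from hg) k)

/-- every nonidentity element has a maximal centralizer -/
def TC (G : Type u) [Group G] : Prop := ∀ x : G, x ≠ 1 → IsCoatom (C x)

theorem C_eq_of_le (h : TC G) {x y : G} (hx : x ≠ 1) (hy : y ≠ 1) (hle : C x ≤ C y) : C x = C y :=
  (((h x hx).le_iff_eq (h y hy).1).1 hle).symm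

/-- Key lemma: commuting elements with different centralizers. -/
theorem pow_orderOf_eq_one_of_commute (h : TC G) {x y : G} (hx : x ≠ 1) (hy : y ≠ 1)
    (hc : x * y = y * x) (hne : C x ≠ C y) : y ^ orderOf x = 1 := by
  by_contra hyk
  have h1 : C y = C (y ^ orderOf x) := C_eq_of_le h hy hyk (C_le_C_pow y _)
  have hxy : (x * y) ^ orderOf x = y ^ orderOf x := by
    rw [(show Commute x y from hc).mul_pow, pow_orderOf_eq_one, one_mul]
  have hxy1 : x * y ≠ 1 := by
    intro h0; rw [h0, one_pow] at hxy; exact hyk hxy.symm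
  have h2 : C (x * y) = C y := by
    have h3 : C (x * y) ≤ C ((x * y) ^ orderOf x) := C_le_C_pow _ _
    rw [hxy, ← h1] at h3
    exact C_eq_of_le h hxy1 hy h3
  apply hne
  refine (C_eq_of_le h hy hx ?_).symm
  intro g hg
  have hg2 : g ∈ C (x * y) := h2 ▸ hg
  rw [mem_C] at hg hg2 ⊢
  have h4 : g * x * y = x * g * y := by
    calc g * x * y = g * (x * y) := by group
    _ = x * y * g := hg2
    _ = x * (y * g) := by group
    _ = x * (g * y) := by rw [hg]
    _ = x * g * y := by group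
  exact mul_right_cancel h4

theorem orderOf_eq_of_commute (h : TC G) {x y : G} (hx : x ≠ 1) (hy : y ≠ 1)
    (hc : x * y = y * x) (hne : C x ≠ C y) : orderOf x = orderOf y := by
  apply Nat.dvd_antisymm
  · exact orderOf_dvd_of_pow_eq_one (pow_orderOf_eq_one_of_commute h hy hx hc.symm (Ne.symm hne))
  · exact orderOf_dvd_of_pow_eq_one (pow_orderOf_eq_one_of_commute h hx hy hc hne)

theorem prime_orderOf_of_commute [Finite G] (h : TC G) {x y : G} (hx : x ≠ 1) (hy : y ≠ 1)
    (hc : x * y = y * x) (hne : C x ≠ C y) : (orderOf x).Prime := by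
  have hk0 : orderOf x ≠ 0 := (orderOf_pos x).ne'
  have hk1 : orderOf x ≠ 1 := fun h1 => hx (orderOf_eq_one_iff.1 h1)
  have hp : ((orderOf x).minFac).Prime := Nat.minFac_prime hk1
  obtain ⟨q, hq⟩ : ∃ q, q = (orderOf x).minFac := ⟨_, rfl⟩
  rw [← hq] at hp
  have hdvd : q ∣ orderOf x := hq ▸ Nat.minFac_dvd _
  obtain ⟨m, hm⟩ := hdvd
  have hm0 : m ≠ 0 := by
    rintro rfl; rw [mul_zero] at hm; exact hk0 hm
  have hord : orderOf (x ^ m) = q := by
    rw [orderOf_pow_of_dvd hm0 ⟨q, by rw [hm, mul_comm]⟩, hm]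
    exact Nat.mul_div_cancel _ (Nat.pos_of_ne_zero hm0)
  have hxm1 : x ^ m ≠ 1 := by
    intro h1
    rw [h1, orderOf_one] at hord
    exact hp.one_lt.ne' hord.symm
  have hC : C x = C (x ^ m) := C_eq_of_le h hx hxm1 (C_le_C_pow x m)
  have hc' : x ^ m * y = y * x ^ m := (Commute.pow_left (show Commute x y from hc) m)
  have hy1 : y ^ orderOf (x ^ m) = 1 :=
    pow_orderOf_eq_one_of_commute h hxm1 hy hc' (by rw [← hC]; exact hne)
  rw [hord] at hy1
  have hoy : orderOf y = q := by
    rcases (Nat.dvd_prime hp).1 (orderOf_dvd_of_pow_eq_one hy1) with h1 | h1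
    · exact absurd (orderOf_eq_one_iff.1 h1) hy
    · exact h1
  rw [orderOf_eq_of_commute h hx hy hc hne, hoy]; exact hp

/-- A nonabelian centralizer has prime exponent. -/
theorem exponent_of_nonabelian [Finite G] (h : TC G) {x u v : G} (hx : x ≠ 1)
    (hu : u ∈ C x) (hv : v ∈ C x) (huv : u * v ≠ v * u) :
    (orderOf x).Prime ∧ orderOf u = orderOf x ∧ ∀ w ∈ C x, w ^ orderOf x = 1 := by
  have hu1 : u ≠ 1 := by
    rintro rfl; exact huv (by rw [one_mul, mul_one])
  have hne : C x ≠ C u := by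
    intro he
    rw [he, mem_C] at hv
    exact huv hv.symm
  have hxu : x * u = u * x := (mem_C.1 hu).symm
  have hp := prime_orderOf_of_commute h hx hu1 hxu hne
  have hou := orderOf_eq_of_commute h hx hu1 hxu hne
  refine ⟨hp, hou.symm, ?_⟩
  intro w hw
  by_cases hw1 : w = 1
  · rw [hw1, one_pow]
  by_cases hCw : C w = C x
  · have hne' : C u ≠ C w := by rw [hCw]; exact Ne.symm hne
    have huw : u * w = w * u := by
      have : u ∈ C w := by rw [hCw]; exact hu
      exact mem_C.1 this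
    have := pow_orderOf_eq_one_of_commute h hu1 hw1 huw hne'
    rwa [← hou] at this
  · exact pow_orderOf_eq_one_of_commute h hx hw1 (mem_C.1 hw).symm (Ne.symm hCw)


theorem not_isPGroup [Finite G] (h : TC G) (hnt : Nontrivial G) (p : ℕ) (hp : p.Prime) :
    ¬ IsPGroup p G := by
  intro hG
  have : Fact p.Prime := ⟨hp⟩
  have hc := hG.center_nontrivial
  obtain ⟨z, hz⟩ := exists_ne (1 : Subgroup.center G)
  have hz1 : (z : G) ≠ 1 := fun h0 => hz (Subtype.ext h0)
  apply (h z hz1).1
  rw [eq_top_iff]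
  intro g _
  rw [mem_C]
  exact (Subgroup.mem_center_iff.1 z.2 g)

/-- A normal centralizer is abelian. -/
theorem abelian_of_normal [Finite G] (h : TC G) {x : G} (hx : x ≠ 1) (hn : (C x).Normal) :
    ∀ u ∈ C x, ∀ v ∈ C x, u * v = v * u := by
  intro u hu v hv
  by_contra huv
  obtain ⟨hp, hou, hexp⟩ := exponent_of_nonabelian h hx hu hv huv
  have hu1 : u ≠ 1 := by
    rintro rfl; exact huv (by rw [one_mul, mul_one])
  have hne : C u ≠ C x := by
    intro he
    rw [← he, mem_C] at hv
    exact huv hv.symm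
  have hnle : ¬ C u ≤ C x := fun hle => hne (C_eq_of_le h hu1 hx hle)
  obtain ⟨g, hgu, hgx⟩ := SetLike.not_le_iff_exists.1 hnle
  have hg1 : g ≠ 1 := fun h0 => hgx (h0 ▸ one_mem _)
  have hgu' : u * g = g * u := (mem_C.1 hgu).symm
  have hne2 : C u ≠ C g := by
    intro he
    have h1 : x ∈ C g := he ▸ (mem_C_comm.1 hu)
    exact hgx (mem_C_comm.1 h1)
  have hog : orderOf g = orderOf x := by
    rw [← orderOf_eq_of_commute h hu1 hg1 hgu' hne2, hou]
  have htop : C x ⊔ Subgroup.zpowers g = ⊤ := by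
    apply (h x hx).2
    refine lt_of_le_of_ne le_sup_left ?_
    intro he
    apply hgx
    rw [he]
    exact (le_sup_right : Subgroup.zpowers g ≤ C x ⊔ Subgroup.zpowers g) (Subgroup.mem_zpowers g)
  have hP1 : IsPGroup (orderOf x) (C x) := by
    intro w
    refine ⟨1, ?_⟩
    rw [pow_one]
    exact Subtype.ext (by simpa using hexp w w.2)
  have hP2 : IsPGroup (orderOf x) (Subgroup.zpowers g) := by
    apply IsPGroup.of_card (n := 1)
    rw [Nat.card_zpowers, hog, pow_one]
  have hP3 : IsPGroup (orderOf x) (C x ⊔ Subgroup.zpowers g : Subgroup G) :=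
    IsPGroup.to_sup_of_normal_left hP1 hP2
  have hPG : IsPGroup (orderOf x) G := by
    intro w
    obtain ⟨k, hk⟩ := hP3 ⟨w, htop ▸ Subgroup.mem_top w⟩
    exact ⟨k, by simpa using congrArg Subtype.val hk⟩
  exact not_isPGroup h ⟨⟨x, 1, hx⟩⟩ _ hp hPG

/-- normalizers grow in nilpotent subgroups -/
theorem exists_mem_normalizer_of_lt {D Q : Subgroup G} (hQ : Group.IsNilpotent Q) (hDQ : D < Q) :
    ∃ g ∈ Q, g ∉ D ∧ g ∈ Subgroup.normalizer (D : Set G) := by
  have hlt : D.subgroupOf Q < ⊤ :=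
    lt_top_iff_ne_top.2 (fun h => not_le_of_gt hDQ (Subgroup.subgroupOf_eq_top.1 h))
  have hN := Group.normalizerCondition_of_isNilpotent (G := Q) _ hlt
  obtain ⟨g, hgN, hgD⟩ := SetLike.exists_of_lt hN
  refine ⟨g, g.2, fun hg => hgD (Subgroup.mem_subgroupOf.2 hg), ?_⟩
  rw [Subgroup.mem_normalizer_iff] at hgN ⊢
  intro d
  constructor
  · intro hd
    have hdQ : d ∈ Q := hDQ.le hd
    have h1 := (hgN ⟨d, hdQ⟩).1 (Subgroup.mem_subgroupOf.2 hd)
    exact Subgroup.mem_subgroupOf.1 h1
  · intro hd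
    have hdQ : d ∈ Q := by
      have h1 : (g : G) * d * (g : G)⁻¹ ∈ Q := hDQ.le hd
      have h2 : d = (g : G)⁻¹ * ((g : G) * d * (g : G)⁻¹) * (g : G) := by group
      rw [h2]; exact Q.mul_mem (Q.mul_mem (Q.inv_mem g.2) h1) g.2
    exact Subgroup.mem_subgroupOf.1 ((hgN ⟨d, hdQ⟩).2 (Subgroup.mem_subgroupOf.2 hd))

/-- In a nonabelian finite `p`-group (given as a subgroup) there is a noncentral element whose
commutators with all elements are central. -/
theorem exists_second_center [Finite G] {P : Subgroup G} {p : ℕ} (hp : p.Prime) (hP : IsPGroup p P)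
    (hna : ∃ u ∈ P, ∃ v ∈ P, u * v ≠ v * u) :
    ∃ y ∈ P, (∃ v ∈ P, y * v ≠ v * y) ∧
      ∀ g ∈ P, ∀ w ∈ P, w * (y⁻¹ * g⁻¹ * y * g) = (y⁻¹ * g⁻¹ * y * g) * w := by
  have : Fact p.Prime := ⟨hp⟩
  have hnt : Nontrivial (P ⧸ Subgroup.center P) := by
    by_contra hsub
    rw [not_nontrivial_iff_subsingleton] at hsub
    obtain ⟨u, hu, v, hv, huv⟩ := hna
    have h1 : (QuotientGroup.mk (⟨u, hu⟩ : P) : P ⧸ Subgroup.center P) = 1 := Subsingleton.elim _ _
    rw [QuotientGroup.eq_one_iff, Subgroup.mem_center_iff] at h1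
    have h2 := h1 ⟨v, hv⟩
    exact huv (congrArg Subtype.val h2).symm
  have hPq : IsPGroup p (P ⧸ Subgroup.center P) := hP.to_quotient _
  have hc := hPq.center_nontrivial
  obtain ⟨z, hz⟩ := exists_ne (1 : Subgroup.center (P ⧸ Subgroup.center P))
  obtain ⟨y, hy⟩ := QuotientGroup.mk_surjective (z : P ⧸ Subgroup.center P)
  have hz1 : (z : P ⧸ Subgroup.center P) ≠ 1 := fun h0 => hz (Subtype.ext h0)
  refine ⟨y, y.2, ?_, ?_⟩
  · by_contra hcon
    apply hz1
    rw [← hy, QuotientGroup.eq_one_iff, Subgroup.mem_center_iff]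
    intro g
    by_contra hg
    exact hcon ⟨g, g.2, fun h0 => hg (Subtype.ext h0.symm)⟩
  · intro g hg w hw
    have hzc := Subgroup.mem_center_iff.1 z.2
    have h1 : (QuotientGroup.mk (y⁻¹ * (⟨g, hg⟩ : P)⁻¹ * y * ⟨g, hg⟩) : P ⧸ Subgroup.center P) = 1 := by
      rw [QuotientGroup.mk_mul, QuotientGroup.mk_mul, QuotientGroup.mk_mul, QuotientGroup.mk_inv,
        QuotientGroup.mk_inv, hy]
      have h2 := hzc (QuotientGroup.mk (⟨g, hg⟩ : P))
      rw [mul_assoc, mul_assoc, ← h2, inv_mul_cancel_left, inv_mul_cancel]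
    rw [QuotientGroup.eq_one_iff, Subgroup.mem_center_iff] at h1
    exact congrArg Subtype.val (h1 ⟨w, hw⟩)


/-- elements commuting with a nonidentity element of a nonabelian centralizer are `p`-elements -/
theorem pow_eq_one_of_commute_mem [Finite G] (h : TC G) {x u v : G} (hx : x ≠ 1)
    (hu : u ∈ C x) (hv : v ∈ C x) (huv : u * v ≠ v * u) {d w : G} (hd : d ∈ C x) (hd1 : d ≠ 1)
    (hdw : d * w = w * d) : w ^ orderOf x = 1 := by
  obtain ⟨hp, hou, hexp⟩ := exponent_of_nonabelian h hx hu hv huv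
  have hwd : w ∈ C d := mem_C.2 hdw.symm
  by_cases hCd : C d = C x
  · exact hexp w (hCd ▸ hwd)
  · have hxd : x ∈ C d := mem_C_comm.1 hd
    have hex : ∃ q ∈ C d, q * x ≠ x * q := by
      by_contra hcon
      apply hCd
      refine C_eq_of_le h hd1 hx (fun q hq => mem_C.2 ?_)
      by_contra hq2
      exact hcon ⟨q, hq, hq2⟩
    obtain ⟨q, hq, hqx⟩ := hex
    obtain ⟨hp', hou', hexp'⟩ := exponent_of_nonabelian h hd1 hq hxd hqx
    have hod : orderOf d = orderOf x := by
      rcases (Nat.dvd_prime hp).1 (orderOf_dvd_of_pow_eq_one (hexp d hd)) with h1 | h1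
      · exact absurd (orderOf_eq_one_iff.1 h1) hd1
      · exact h1
    rw [← hod]; exact hexp' w hwd

/-- Every centralizer of a nonidentity element is abelian. -/
theorem abelian_centralizer [Finite G] (h : TC G) {x : G} (hx : x ≠ 1) :
    ∀ u ∈ C x, ∀ v ∈ C x, u * v = v * u := by
  intro u hu v hv
  by_contra huv
  obtain ⟨hp, hou, hexp⟩ := exponent_of_nonabelian h hx hu hv huv
  have hnt : Nontrivial G := ⟨⟨x, 1, hx⟩⟩
  have hP : IsPGroup (orderOf x) (C x) := by
    intro w
    exact ⟨1, by rw [pow_one]; exact Subtype.ext (by simpa using hexp w w.2)⟩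
  obtain ⟨y, hyP, ⟨v', hv'P, hyv'⟩, hycent⟩ := exists_second_center hp hP ⟨u, hu, v, hv, huv⟩
  have hy1 : y ≠ 1 := by
    rintro rfl; exact hyv' (by rw [one_mul, mul_one])
  have hCne : C y ≠ C x := by
    intro he
    rw [← he, mem_C] at hv'P
    exact hyv' hv'P.symm
  have hxy : x ∈ C y := mem_C_comm.1 hyP
  have hQna : ∃ q ∈ C y, q * x ≠ x * q := by
    by_contra hcon
    apply hCne
    refine C_eq_of_le h hy1 hx (fun q hq => mem_C.2 ?_)
    by_contra hq2
    exact hcon ⟨q, hq, hq2⟩
  obtain ⟨q, hq, hqx⟩ := hQna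
  obtain ⟨hp', hou', hexp'⟩ := exponent_of_nonabelian h hy1 hq hxy hqx
  have hQ : IsPGroup (orderOf y) (C y) := by
    intro w
    exact ⟨1, by rw [pow_one]; exact Subtype.ext (by simpa using hexp' w w.2)⟩
  have hQnil : Group.IsNilpotent (C y) := by
    have : Fact (orderOf y).Prime := ⟨hp'⟩
    exact hQ.isNilpotent
  have hDQ : C x ⊓ C y < C y := by
    refine lt_of_le_of_ne inf_le_right ?_
    intro he
    have hle : C y ≤ C x := he ▸ inf_le_left
    exact hCne (C_eq_of_le h hy1 hx hle)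
  have hPD : C x ≤ Subgroup.normalizer ((C x ⊓ C y : Subgroup G) : Set G) := by
    rw [Subgroup.le_normalizer_iff]
    intro g hg d hd
    refine Subgroup.mem_inf.2 ⟨(C x).mul_mem ((C x).mul_mem hg hd.1) ((C x).inv_mem hg), ?_⟩
    rw [mem_C]
    have hdy : d * y = y * d := mem_C.1 hd.2
    have hda := hycent g hg d hd.1
    obtain ⟨a, haeq⟩ : ∃ a, a = y⁻¹ * g⁻¹ * y * g := ⟨_, rfl⟩
    rw [← haeq] at hda
    have e1 : g⁻¹ * y = y * a * g⁻¹ := by rw [haeq]; group
    have e2 : y * g = g * y * a := by rw [haeq]; group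
    calc g * d * g⁻¹ * y = g * d * (g⁻¹ * y) := by group
      _ = g * d * (y * a * g⁻¹) := by rw [e1]
      _ = g * (d * y) * a * g⁻¹ := by group
      _ = g * (y * d) * a * g⁻¹ := by rw [hdy]
      _ = g * y * (d * a) * g⁻¹ := by group
      _ = g * y * (a * d) * g⁻¹ := by rw [hda]
      _ = (g * y * a) * d * g⁻¹ := by group
      _ = y * g * d * g⁻¹ := by rw [← e2]
      _ = y * (g * d * g⁻¹) := by group
  rcases eq_or_ne (Subgroup.normalizer ((C x ⊓ C y : Subgroup G) : Set G)) ⊤ with hN | hN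
  · have hDn : (C x ⊓ C y).Normal := Subgroup.normalizer_eq_top_iff.1 hN
    have hnp := not_isPGroup h hnt _ hp
    have hexw : ∃ w : G, ∀ k : ℕ, w ^ (orderOf x) ^ k ≠ 1 := by
      by_contra hcon
      apply hnp
      intro w
      by_contra hw
      exact hcon ⟨w, fun k hk => hw ⟨k, hk⟩⟩
    obtain ⟨w, hw⟩ := hexw
    have hw1 : w ≠ 1 := fun h0 => hw 0 (by rw [h0, one_pow])
    have hdisj : ∀ d ∈ C x, d ∈ C w → d = 1 := by
      intro d hd hdw
      by_contra hd1
      have h1 := pow_eq_one_of_commute_mem h hx hu hv huv hd hd1 (mem_C.1 hdw)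
      exact hw 1 (by rwa [pow_one])
    have htop : (C x ⊓ C y) ⊔ C w = ⊤ := by
      apply (h w hw1).2
      refine lt_of_le_of_ne le_sup_right ?_
      intro he
      have hxw : x ∈ C w := by
        rw [he]
        exact (le_sup_left : C x ⊓ C y ≤ (C x ⊓ C y) ⊔ C w)
          (Subgroup.mem_inf.2 ⟨self_mem_C x, hxy⟩)
      exact hx (hdisj x (self_mem_C x) hxw)
    have hPle : C x ≤ C x ⊓ C y := by
      intro g hg
      have hgt : g ∈ (C x ⊓ C y) ⊔ C w := htop ▸ Subgroup.mem_top g
      obtain ⟨k, hk, m, hm, rfl⟩ := Subgroup.mem_sup_of_normal_left.1 hgt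
      have hmP : m ∈ C x := by
        have e : m = k⁻¹ * (k * m) := by group
        rw [e]; exact (C x).mul_mem ((C x).inv_mem hk.1) hg
      rw [hdisj m hmP hm, mul_one]; exact hk
    exact hCne (C_eq_of_le h hx hy1 (hPle.trans inf_le_right)).symm
  · have hNP : Subgroup.normalizer ((C x ⊓ C y : Subgroup G) : Set G) = C x :=
      ((h x hx).le_iff_eq hN).1 hPD
    obtain ⟨g, hgQ, hgD, hgN⟩ := exists_mem_normalizer_of_lt hQnil hDQ
    rw [hNP] at hgN
    exact hgD (Subgroup.mem_inf.2 ⟨hgN, hgQ⟩)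

open Cfsg.Agent.Lib.Helper71 in
/-- A non-normal centralizer is a Frobenius complement. -/
theorem isFrobeniusComplement_C [Finite G] (h : TC G) {x : G} (hx : x ≠ 1) (hn : ¬ (C x).Normal) :
    Cfsg.IsFrobeniusComplement (C x) := by
  refine ⟨?_, (h x hx).1, ?_⟩
  · intro hb
    have h1 := self_mem_C x
    rw [hb, Subgroup.mem_bot] at h1
    exact hx h1
  · intro g hg
    rw [eq_bot_iff]
    intro u hu
    rw [Subgroup.mem_inf, Frobenius.mem_conj_iff] at hu
    rw [Subgroup.mem_bot]
    by_contra hu1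
    have hab := abelian_centralizer h hx
    have h1 : C x = C u := C_eq_of_le h hx hu1 (fun m hm => mem_C.2 (hab m hm u hu.1))
    have hu1' : g⁻¹ * u * g ≠ 1 := by
      intro h0; apply hu1
      have e : u = g * (g⁻¹ * u * g) * g⁻¹ := by group
      rw [e, h0]; group
    have h2 : C x = C (g⁻¹ * u * g) :=
      C_eq_of_le h hx hu1' (fun m hm => mem_C.2 (hab m hm _ hu.2))
    apply hg
    have hnorm : Subgroup.normalizer ((C x : Subgroup G) : Set G) = C x := by
      have hle : C x ≤ Subgroup.normalizer ((C x : Subgroup G) : Set G) := Subgroup.le_normalizer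
      have hne : Subgroup.normalizer ((C x : Subgroup G) : Set G) ≠ ⊤ :=
        fun ht => hn (Subgroup.normalizer_eq_top_iff.1 ht)
      exact ((h x hx).le_iff_eq hne).1 hle
    rw [← hnorm, Subgroup.mem_normalizer_iff]
    intro m
    constructor
    · intro hm
      have hm' : m * (g⁻¹ * u * g) = g⁻¹ * u * g * m := mem_C.1 (h2 ▸ hm)
      have hgoal : g * m * g⁻¹ ∈ C u := by
        rw [mem_C]
        calc g * m * g⁻¹ * u = g * (m * (g⁻¹ * u * g)) * g⁻¹ := by group
          _ = g * (g⁻¹ * u * g * m) * g⁻¹ := by rw [hm']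
          _ = u * (g * m * g⁻¹) := by group
      rw [h1]; exact hgoal
    · intro hm
      have hm' : g * m * g⁻¹ * u = u * (g * m * g⁻¹) := mem_C.1 (h1 ▸ hm)
      have hgoal : m ∈ C (g⁻¹ * u * g) := by
        rw [mem_C]
        calc m * (g⁻¹ * u * g) = g⁻¹ * (g * m * g⁻¹ * u) * g := by group
          _ = g⁻¹ * (u * (g * m * g⁻¹)) * g := by rw [hm']
          _ = g⁻¹ * u * g * m := by group
      rw [h2]; exact hgoal

theorem two_mul_index_le [Finite G] {x : G} (hx : x ≠ 1) : 2 * (C x).index ≤ Nat.card G := by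
  have h1 := Subgroup.card_mul_index (C x)
  have h2 : 1 < Nat.card (C x) := by
    rw [Subgroup.one_lt_card_iff_ne_bot]
    intro hb
    have h3 := self_mem_C x
    rw [hb, Subgroup.mem_bot] at h3
    exact hx h3
  rw [← h1]
  exact Nat.mul_le_mul_right _ h2

open Cfsg.Agent.Lib.Helper71 in
/-- Some centralizer is normal. -/
theorem exists_normal_centralizer [Finite G] (h : TC G) (hnt : Nontrivial G) :
    ∃ x : G, x ≠ 1 ∧ (C x).Normal := by
  by_contra hcon
  have hall : ∀ x : G, x ≠ 1 → ¬ (C x).Normal := fun x hx hn => hcon ⟨x, hx, hn⟩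
  obtain ⟨x, hx⟩ := exists_ne (1 : G)
  have hF := isFrobeniusComplement_C h hx (hall x hx)
  have hcard := Frobenius.card_kernel (C x) hF
  have hidx : 2 ≤ (C x).index := by
    have h1 : (C x).index ≠ 1 := fun h1 => (h x hx).1 (Subgroup.index_eq_one.1 h1)
    have h0 : (C x).index ≠ 0 := Subgroup.index_ne_zero_of_finite
    omega
  have hexw : ∃ w ∈ Cfsg.frobeniusKernel (C x), w ≠ 1 := by
    by_contra hc
    have hsub : Cfsg.frobeniusKernel (C x) ⊆ {1} := by
      intro w hw
      by_contra hw1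
      exact hc ⟨w, hw, hw1⟩
    have h1 : (Cfsg.frobeniusKernel (C x)).ncard ≤ ({1} : Set G).ncard := Set.ncard_le_ncard hsub
    rw [Set.ncard_singleton, ← Nat.card_coe_set_eq, hcard] at h1
    omega
  obtain ⟨w, hwK, hw1⟩ := hexw
  have hF' := isFrobeniusComplement_C h hw1 (hall w hw1)
  have hcard' := Frobenius.card_kernel (C w) hF'
  have hcover : ∀ u : G, u ∈ Cfsg.frobeniusKernel (C x) ∨ u ∈ Cfsg.frobeniusKernel (C w) := by
    intro u
    by_contra hu
    rw [not_or, Frobenius.mem_kernel_iff, Frobenius.mem_kernel_iff, not_or, not_or] at hu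
    obtain ⟨⟨hune, hex1⟩, ⟨_, hex2⟩⟩ := hu
    obtain ⟨g1, hg1⟩ := not_forall.1 hex1
    rw [not_not] at hg1
    obtain ⟨g2, hg2⟩ := not_forall.1 hex2
    rw [not_not] at hg2
    have hab := abelian_centralizer h hx
    have hab' := abelian_centralizer h hw1
    have hne1 : g1⁻¹ * u * g1 ≠ 1 := by
      intro h0; apply hune
      have e : u = g1 * (g1⁻¹ * u * g1) * g1⁻¹ := by group
      rw [e, h0]; group
    have hne2 : g2⁻¹ * u * g2 ≠ 1 := by
      intro h0; apply hune
      have e : u = g2 * (g2⁻¹ * u * g2) * g2⁻¹ := by group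
      rw [e, h0]; group
    have e1 : C x = C (g1⁻¹ * u * g1) :=
      C_eq_of_le h hx hne1 (fun m hm => mem_C.2 (hab m hm _ hg1))
    have e2 : C w = C (g2⁻¹ * u * g2) :=
      C_eq_of_le h hw1 hne2 (fun m hm => mem_C.2 (hab' m hm _ hg2))
    have hw2 : w * (g2⁻¹ * u * g2) = g2⁻¹ * u * g2 * w := mem_C.1 (e2 ▸ self_mem_C w)
    have hc : (g2⁻¹ * g1)⁻¹ * w * (g2⁻¹ * g1) ∈ C x := by
      rw [e1, mem_C]
      calc (g2⁻¹ * g1)⁻¹ * w * (g2⁻¹ * g1) * (g1⁻¹ * u * g1)
          = g1⁻¹ * g2 * (w * (g2⁻¹ * u * g2)) * g2⁻¹ * g1 := by group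
        _ = g1⁻¹ * g2 * (g2⁻¹ * u * g2 * w) * g2⁻¹ * g1 := by rw [hw2]
        _ = g1⁻¹ * u * g1 * ((g2⁻¹ * g1)⁻¹ * w * (g2⁻¹ * g1)) := by group
    rcases (Frobenius.mem_kernel_iff (C x) w).1 hwK with h0 | h0
    · exact hw1 h0
    · exact h0 _ hc
  have huniv : Cfsg.frobeniusKernel (C x) ∪ Cfsg.frobeniusKernel (C w) = Set.univ := by
    ext u
    simp only [Set.mem_union, Set.mem_univ, iff_true]
    exact hcover u
  have hU := Set.ncard_union_add_ncard_inter (Cfsg.frobeniusKernel (C x))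
    (Cfsg.frobeniusKernel (C w))
  rw [huniv, Set.ncard_univ, ← Nat.card_coe_set_eq (Cfsg.frobeniusKernel (C x)),
    ← Nat.card_coe_set_eq (Cfsg.frobeniusKernel (C w)), hcard, hcard'] at hU
  have hpos : 0 < (Cfsg.frobeniusKernel (C x) ∩ Cfsg.frobeniusKernel (C w)).ncard := by
    rw [Set.ncard_pos]
    exact ⟨1, Frobenius.one_mem_kernel _, Frobenius.one_mem_kernel _⟩
  have hA := two_mul_index_le hx
  have hB := two_mul_index_le hw1
  omega

/-- Solvability in the trivial-centre case. -/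
theorem isSolvable_of_TC [Finite G] (h : TC G) : Group.IsSolvable G := by
  rcases subsingleton_or_nontrivial G with hs | hnt
  · infer_instance
  obtain ⟨x, hx, hn⟩ := exists_normal_centralizer h hnt
  have hab := abelian_centralizer h hx
  rw [Group.isSolvable_iff_subgroup_quotient (C x)]
  refine ⟨Group.isSolvable_of_comm (fun a b => Subtype.ext (hab a a.2 b b.2)), ?_⟩
  obtain ⟨g, hg⟩ : ∃ g, g ∉ C x := by
    by_contra hc
    apply (h x hx).1
    rw [eq_top_iff]
    intro g _
    by_contra hg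
    exact hc ⟨g, hg⟩
  have htop : C x ⊔ Subgroup.zpowers g = ⊤ := by
    apply (h x hx).2
    refine lt_of_le_of_ne le_sup_left ?_
    intro he
    apply hg
    rw [he]
    exact (le_sup_right : Subgroup.zpowers g ≤ C x ⊔ Subgroup.zpowers g) (Subgroup.mem_zpowers g)
  apply Group.isSolvable_of_comm
  intro a b
  obtain ⟨a', rfl⟩ := QuotientGroup.mk_surjective a
  obtain ⟨b', rfl⟩ := QuotientGroup.mk_surjective b
  obtain ⟨m1, hm1, z1, hz1, rfl⟩ := Subgroup.mem_sup_of_normal_left.1
    (show a' ∈ C x ⊔ Subgroup.zpowers g from htop ▸ Subgroup.mem_top a')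
  obtain ⟨m2, hm2, z2, hz2, rfl⟩ := Subgroup.mem_sup_of_normal_left.1
    (show b' ∈ C x ⊔ Subgroup.zpowers g from htop ▸ Subgroup.mem_top b')
  obtain ⟨i, rfl⟩ := Subgroup.mem_zpowers_iff.1 hz1
  obtain ⟨j, rfl⟩ := Subgroup.mem_zpowers_iff.1 hz2
  have e1 : (QuotientGroup.mk (m1 * g ^ i) : G ⧸ C x) = QuotientGroup.mk (g ^ i) := by
    rw [QuotientGroup.mk_mul, (QuotientGroup.eq_one_iff m1).2 hm1, one_mul]
  have e2 : (QuotientGroup.mk (m2 * g ^ j) : G ⧸ C x) = QuotientGroup.mk (g ^ j) := by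
    rw [QuotientGroup.mk_mul, (QuotientGroup.eq_one_iff m2).2 hm2, one_mul]
  rw [e1, e2, ← QuotientGroup.mk_mul, ← QuotientGroup.mk_mul, ← zpow_add, ← zpow_add, add_comm]

/-- The hypothesis: centralizers of noncentral elements are maximal subgroups. -/
def Hyp (G : Type u) [Group G] : Prop :=
  ∀ g : G, g ∉ Subgroup.center G → IsCoatom (C g)

theorem TC_of_hyp (h : Hyp G) (hZ : Subgroup.center G = ⊥) : TC G := by
  intro x hx
  apply h
  rw [hZ, Subgroup.mem_bot]; exact hx

/-- The hypothesis passes to the central quotient. -/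
theorem hyp_quotient (h : Hyp G) : Hyp (G ⧸ Subgroup.center G) := by
  intro a ha
  obtain ⟨g, rfl⟩ := QuotientGroup.mk_surjective a
  have hg : g ∉ Subgroup.center G := by
    intro hgc
    apply ha
    rw [(QuotientGroup.eq_one_iff g).2 hgc]; exact one_mem _
  have hM := h g hg
  have hKtop : C (QuotientGroup.mk g : G ⧸ Subgroup.center G) ≠ ⊤ := by
    intro ht
    apply ha
    rw [Subgroup.mem_center_iff]
    intro b
    have hb : b ∈ C (QuotientGroup.mk g : G ⧸ Subgroup.center G) := ht ▸ Subgroup.mem_top b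
    exact mem_C.1 hb
  have hcomap : (C (QuotientGroup.mk g : G ⧸ Subgroup.center G)).comap
      (QuotientGroup.mk' (Subgroup.center G)) = C g := by
    refine (hM.le_iff_eq ?_).1 ?_
    · intro ht
      apply hKtop
      rw [eq_top_iff]
      intro b _
      obtain ⟨b', rfl⟩ := QuotientGroup.mk_surjective b
      have hb : b' ∈ (C (QuotientGroup.mk g : G ⧸ Subgroup.center G)).comap
          (QuotientGroup.mk' (Subgroup.center G)) := ht ▸ Subgroup.mem_top b'
      exact hb
    · intro m hm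
      rw [Subgroup.mem_comap, mem_C]
      rw [mem_C] at hm
      show (QuotientGroup.mk m : G ⧸ Subgroup.center G) * QuotientGroup.mk g
        = QuotientGroup.mk g * QuotientGroup.mk m
      rw [← QuotientGroup.mk_mul, ← QuotientGroup.mk_mul, hm]
  refine ⟨hKtop, ?_⟩
  intro L hL
  have hinj := Subgroup.comap_injective (QuotientGroup.mk'_surjective (Subgroup.center G))
  have h1 : C g < L.comap (QuotientGroup.mk' (Subgroup.center G)) := by
    rw [← hcomap]
    refine lt_of_le_of_ne (Subgroup.comap_mono hL.le) ?_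
    intro he
    exact hL.ne (hinj he)
  have h2 := hM.2 _ h1
  apply hinj
  rw [h2, Subgroup.comap_top]

theorem isSolvable_of_hyp_aux : ∀ (n : ℕ) (G : Type u) [Group G] [Finite G],
    Nat.card G = n → Hyp G → Group.IsSolvable G := by
  intro n
  induction n using Nat.strong_induction_on with
  | _ n ih =>
    intro G _ _ hn h
    by_cases hZ : Subgroup.center G = ⊥
    · exact isSolvable_of_TC (TC_of_hyp h hZ)
    · have hlt : Nat.card (G ⧸ Subgroup.center G) < n := by
        rw [← hn, ← Subgroup.index_eq_card]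
        have h1 := Subgroup.card_mul_index (Subgroup.center G)
        have h2 : 1 < Nat.card (Subgroup.center G) := (Subgroup.one_lt_card_iff_ne_bot _).2 hZ
        have h3 : 0 < (Subgroup.center G).index := Nat.pos_of_ne_zero Subgroup.index_ne_zero_of_finite
        nlinarith
      have hq := ih _ hlt (G ⧸ Subgroup.center G) rfl (hyp_quotient h)
      rw [Group.isSolvable_iff_subgroup_quotient (Subgroup.center G)]
      exact ⟨Group.isSolvable_of_comm
        (fun a b => Subtype.ext (Subgroup.mem_center_iff.1 b.2 a)), hq⟩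

/-- A finite group in which the centralizer of every noncentral element is maximal is solvable. -/
theorem isSolvable_of_hyp [Finite G] (h : Hyp G) : Group.IsSolvable G :=
  isSolvable_of_hyp_aux _ G rfl h

end Cfsg.Agent.Lib.Helper71.MaxCent
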