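import Mathlib
import Cfsg.Agent.Lib.Helper75.NDStmt
import Cfsg.Agent.Lib.Helper16.MaxPair
import Cfsg.Agent.Lib.Helper71.NdNILB
import Cfsg.Agent.Lib.Helper71.NdCP

/-!
# S4890 piece STL (helper71): inside `Ct D`, the stabilizer of the block of a maximal pair
`(D, e)` is `D C_G(D)`.
-/

set_option autoImplicit false

namespace Cfsg.Agent.Lib.Helper71.NdSTL

open Cfsg Cfsg.Agent.Lib.Helper75.NDStmt

universe u

/-- [STL] from [CP] -/
theorem main (hCP : CP.{u}) : STL.{u} := by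
  intro G _ _ p _ M hM B D _ e hmax g hgCt hgstab
  classical
  letI : Fintype G := Fintype.ofFinite G
  have hp : p.Prime := Fact.out
  have hD : IsPGroup p D := hmax.1.1.1
  have hn0 : orderOf g ≠ 0 := (orderOf_pos g).ne'
  obtain ⟨a, r, hr, hgr⟩ := Nat.exists_eq_pow_mul_and_not_dvd hn0 p hp.ne_one
  have hcop : Nat.Coprime (p ^ a) r :=
    Nat.Coprime.pow_left a ((Nat.Prime.coprime_iff_not_dvd hp).mpr hr)
  have hbez := Nat.gcd_eq_gcd_ab (p ^ a) r
  rw [hcop.gcd_eq_one] at hbez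
  set A := Nat.gcdA (p ^ a) r
  set Bz := Nat.gcdB (p ^ a) r
  -- the two parts of `g`
  have hdec : g = (g ^ p ^ a) ^ A * (g ^ r) ^ Bz := by
    rw [← zpow_natCast g (p ^ a), ← zpow_natCast g r, ← zpow_mul, ← zpow_mul, ← zpow_add]
    have : ((p ^ a : ℕ) : ℤ) * A + (r : ℤ) * Bz = 1 := by
      rw [← hbez]; norm_num
    rw [this, zpow_one]
  -- the `p`-regular part
  have h1mem : (g ^ p ^ a) ^ A ∈ Subgroup.zpowers g :=
    Subgroup.zpow_mem _ (Subgroup.pow_mem _ (Subgroup.mem_zpowers g) _) _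
  have h1Ct : (g ^ p ^ a) ^ A ∈ Ct D :=
    Subgroup.zpow_mem _ (Subgroup.pow_mem _ hgCt _) _
  have h1reg : IsPRegular p ((g ^ p ^ a) ^ A) := by
    intro hdvd
    apply hr
    have h1 : ((g ^ p ^ a) ^ A) ^ r = 1 := by
      rw [← zpow_natCast, ← zpow_mul, mul_comm, zpow_mul, zpow_natCast, ← pow_mul, ← hgr,
        pow_orderOf_eq_one, one_zpow]
    exact hdvd.trans (orderOf_dvd_of_pow_eq_one h1)
  have h1C : (g ^ p ^ a) ^ A ∈ Subgroup.centralizer (D : Set G) :=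
    hCP G p D hD _ h1Ct h1reg
  -- the `p`-part
  have h2mem : (g ^ r) ^ Bz ∈ Subgroup.zpowers g :=
    Subgroup.zpow_mem _ (Subgroup.pow_mem _ (Subgroup.mem_zpowers g) _) _
  obtain ⟨n₂, hn₂⟩ := (mem_powers_iff_mem_zpowers.mpr h2mem)
  have hn₂' : g ^ n₂ = (g ^ r) ^ Bz := hn₂
  have h2stab : StabilizesBlock (Subgroup.centralizer (D : Set G)) e ((g ^ r) ^ Bz) := by
    rw [← hn₂']
    exact Cfsg.Agent.Lib.Helper71.NdNILB.stab_pow _ e hgstab n₂
  have h2ord : ∃ k : ℕ, orderOf ((g ^ r) ^ Bz) = p ^ k := by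
    have h1 : ((g ^ r) ^ Bz) ^ p ^ a = 1 := by
      rw [← zpow_natCast, ← zpow_mul, mul_comm, zpow_mul, zpow_natCast, ← pow_mul, mul_comm,
        ← hgr, pow_orderOf_eq_one, one_zpow]
    obtain ⟨k, -, hk⟩ := (Nat.dvd_prime_pow hp).mp (orderOf_dvd_of_pow_eq_one h1)
    exact ⟨k, hk⟩
  have h2norm : (g ^ r) ^ Bz ∈ Subgroup.normalizer (D : Set G) := by
    rw [Subgroup.normalizer_eq_top]; exact Subgroup.mem_top _
  have h2L : (g ^ r) ^ Bz ∈ D ⊔ Subgroup.centralizer (D : Set G) :=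
    Cfsg.Agent.Lib.Helper16.MaxPair.pElement_mem_of_maximal p hM B D e hmax _ h2norm h2stab h2ord
  rw [hdec]
  exact Subgroup.mul_mem _ ((le_sup_right : Subgroup.centralizer (D : Set G) ≤ D ⊔ _) h1C) h2L

/-- [STL], unconditional -/
theorem main' : STL.{u} := main Cfsg.Agent.Lib.Helper71.NdCP.main.{u}

end Cfsg.Agent.Lib.Helper71.NdSTL
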