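import Mathlib
import Cfsg.Agent.Lib.Helper71.Sieve496
import Cfsg.Agent.Lib.Helper17.FixCount
import Cfsg.Agent.S1001
import Cfsg.Agent.S0992
import Cfsg.Agent.S0202
import Cfsg.Agent.S0203
import Cfsg.Agent.S3278

set_option autoImplicit false

namespace Cfsg.Agent.Lib.Helper71.Ord756

open Subgroup MulAction
open Cfsg.Agent.Lib.Helper17.Sylow Cfsg.Agent.Lib.Helper17.Sylow2
open Cfsg.Agent.Lib.Helper17.CentFix Cfsg.Agent.Lib.Helper17.Commuting
open Cfsg.Agent.Lib.Helper17.Parity Cfsg.Agent.Lib.Helper17.FixedPoints
open Cfsg.Agent.Lib.Helper17.SylowSub Cfsg.Agent.Lib.Helper17.Embed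
open Cfsg.Agent.Lib.Helper17.Classes
open Cfsg.Agent.Lib.Helper71.Sieve496

section General

variable {G : Type*} [Group G] [Finite G]

/-- If elements of order `q` are self-centralizing, then `q` does not divide the order of a
subgroup all of whose elements commute with a fixed element of order different from `1`, `q`. -/
theorem not_dvd_card_of_self {q : ℕ} [Fact q.Prime]
    (hself : ∀ c : G, orderOf c = q → centralizer ({c} : Set G) = zpowers c)
    (x : G) (hx1 : x ≠ 1) (hxq : orderOf x ≠ q) (K : Subgroup G)
    (hK : ∀ c ∈ K, c * x = x * c) : ¬ q ∣ Nat.card K := by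
  intro hdvd
  obtain ⟨c, hcK, hc⟩ := exists_mem_orderOf_eq_prime K q hdvd
  have hxc : x ∈ centralizer ({c} : Set G) := by
    rw [mem_centralizer_iff]
    intro y hy
    rw [Set.mem_singleton_iff] at hy
    subst hy
    exact hK y hcK
  rw [hself c hc] at hxc
  have h1 : orderOf x ∣ q := by
    have := orderOf_dvd_card_of_mem hxc
    rwa [Nat.card_zpowers, hc] at this
  rcases (Nat.dvd_prime Fact.out).mp h1 with h | h
  · exact hx1 (orderOf_eq_one_iff.mp h)
  · exact hxq h

theorem card_A5 : Nat.card (alternatingGroup (Fin 5)) = 60 := by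
  rw [nat_card_alternatingGroup]
  simp [Nat.factorial]

end General

variable {G : Type*} [Group G] [Finite G] [IsSimpleGroup G]

set_option maxRecDepth 4000 in
/-- No simple group of order 756. -/
theorem no_756 (hG : ¬ IsMulCommutative G) (h : Nat.card G = 756) : False := by
  have : Fact (Nat.Prime 2) := ⟨by norm_num⟩
  have : Fact (Nat.Prime 3) := ⟨by norm_num⟩
  have : Fact (Nat.Prime 7) := ⟨by norm_num⟩
  have h7self : ∀ c : G, orderOf c = 7 → centralizer ({c} : Set G) = zpowers c :=
    fun c hc => Cfsg.Agent.S1001.result 7 3 2 (by norm_num) (h.trans (by norm_num)) c hc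
  have hN2 : Nat.card G = 2 ^ 2 * 189 := h.trans (by norm_num)
  have h2 : 2 ∣ Nat.card G := by rw [h]; norm_num
  have hN3 : Nat.card G = 3 ^ 3 * 28 := h.trans (by norm_num)
  have h3 : 3 ∣ Nat.card G := by rw [h]; norm_num
  have hn3 : Nat.card (Sylow 3 G) = 28 := by
    have hd3 := card_sylow_dvd hN3 (by norm_num)
    have hm3 := card_sylow_mod (G := G) 3
    have hne3 := card_sylow_ne_one hG h3
    have hf3 := two_mul_card_dvd_factorial_card_sylow hG h3
    rw [h] at hf3
    have key3 : ∀ n ∈ Nat.divisors 28, n % 3 = 1 → n ≠ 1 → 2 * 756 ∣ n.factorial → n = 28 := by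
      decide +kernel
    exact key3 _ (Nat.mem_divisors.mpr ⟨hd3, by norm_num⟩) hm3 hne3 hf3
  have hNP3 : ∀ Q : Sylow 3 G, Nat.card (normalizer ((Q : Subgroup G) : Set G)) = 27 := by
    intro Q
    have := card_normalizer_mul_card_sylow Q
    rw [hn3, h] at this
    omega
  have hS2 : ∀ T : Sylow 2 G, Nat.card (T : Subgroup G) = 4 := fun T => by
    simpa using card_sylow_subgroup hN2 (by norm_num) T
  have hrelT : ∀ T : Sylow 2 G, Nat.card (centralizer ((T : Subgroup G) : Set G)) * 3 =
      Nat.card (normalizer ((T : Subgroup G) : Set G)) := by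
    intro T
    have hrel := (Cfsg.Agent.S0992.result hG (by rw [h]; decide) (by rw [h]; decide) T).2
    have := card_mul_relIndex (Subgroup.centralizer_le_normalizer ((T : Subgroup G) : Set G))
    rw [hrel] at this
    exact this
  obtain ⟨T⟩ : Nonempty (Sylow 2 G) := inferInstance
  have hT := hS2 T
  have hKl := (Cfsg.Agent.S0992.result hG (by rw [h]; decide) (by rw [h]; decide) T).1
  have hTcomm : ∀ a ∈ (T : Subgroup G), ∀ b ∈ (T : Subgroup G), a * b = b * a := by
    intro a ha b hb
    exact congrArg Subtype.val ((IsPGroup.isMulCommutative_of_card_eq_prime_sq (p := 2)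
      (G := (T : Subgroup G)) (by rw [hT]; norm_num)).is_comm.comm ⟨a, ha⟩ ⟨b, hb⟩)
  have hTC : (T : Subgroup G) ≤ centralizer ((T : Subgroup G) : Set G) := by
    intro a ha
    rw [mem_centralizer_iff]
    intro b hb
    exact hTcomm b hb a ha
  obtain ⟨x, hxT, hx⟩ := exists_mem_orderOf_eq_prime (T : Subgroup G) 2 (by rw [hT]; norm_num)
  have hx1 : x ≠ 1 := by
    rintro rfl
    rw [orderOf_one] at hx
    omega
  have hx2 : x ^ 2 = 1 := by rw [← hx]; exact pow_orderOf_eq_one x
  have hCT7 : ¬ 7 ∣ Nat.card (centralizer ((T : Subgroup G) : Set G)) :=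
    not_dvd_card_of_self h7self x hx1 (by rw [hx]; decide) _
      (fun c hc => (mem_centralizer_iff.mp hc x hxT).symm)
  have hCT4 : 4 ∣ Nat.card (centralizer ((T : Subgroup G) : Set G)) := by
    have := Subgroup.card_dvd_of_le hTC
    rwa [hT] at this
  have hCN := hrelT T
  have hNn := card_normalizer_mul_card_sylow T
  rw [h] at hNn
  have hNtop := normalizer_sylow_ne_top hG h2 T
  have hfN := two_mul_card_dvd_factorial hG _ hNtop
  rw [h] at hfN
  have hidxN : (normalizer ((T : Subgroup G) : Set G)).index = Nat.card (Sylow 2 G) :=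
    (T.card_eq_index_normalizer).symm
  have h252 : Nat.card (centralizer ((T : Subgroup G) : Set G)) * Nat.card (Sylow 2 G) = 252 := by
    rw [← hCN] at hNn
    nlinarith
  have hCcases : Nat.card (centralizer ((T : Subgroup G) : Set G)) = 4 ∨
      Nat.card (centralizer ((T : Subgroup G) : Set G)) = 12 := by
    have key : ∀ c ∈ Nat.divisors 252, 4 ∣ c → ¬ 7 ∣ c → c = 4 ∨ c = 12 ∨ c = 36 := by decide
    rcases key _ (Nat.mem_divisors.mpr ⟨⟨_, h252.symm⟩, by norm_num⟩) hCT4 hCT7 with hc | hc | hc
    · exact Or.inl hc
    · exact Or.inr hc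
    · exfalso
      rw [hc] at h252
      have hn2 : Nat.card (Sylow 2 G) = 7 := by omega
      rw [hidxN, hn2] at hfN
      revert hfN
      decide
  -- all involutions are conjugate
  have hconjall : ∀ s t : G, orderOf s = 2 → orderOf t = 2 → IsConj s t := by
    have hcl := Cfsg.Agent.S0202.result T hKl
    have h203 := Cfsg.Agent.S0203.result T hKl
    have hne3 : Nat.card {C : ConjClasses G // ∃ t : G, orderOf t = 2 ∧ ConjClasses.mk t = C} ≠ 3 := by
      intro h3'
      obtain ⟨N, hNn', hcomp⟩ := h203.mp h3'
      have hcm := hcomp.card_mul_card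
      rw [hT, h] at hcm
      rcases hNn'.eq_bot_or_eq_top with e | e
      · rw [e, Subgroup.card_bot] at hcm; omega
      · rw [e, Subgroup.card_top, h] at hcm; omega
    have h1 : Nat.card {C : ConjClasses G // ∃ t : G, orderOf t = 2 ∧ ConjClasses.mk t = C} = 1 := by
      rcases hcl with h1 | h1
      · exact h1
      · exact absurd h1 hne3
    intro s t hs ht
    have hsub := (Nat.card_eq_one_iff_unique.mp h1).1
    have := hsub.elim ⟨ConjClasses.mk s, s, hs, rfl⟩ ⟨ConjClasses.mk t, t, ht, rfl⟩
    exact ConjClasses.mk_eq_mk_iff_isConj.mp (congrArg Subtype.val this)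
  -- the conjugates of x in N(T)
  have hset : {s : G | s ∈ normalizer ((T : Subgroup G) : Set G) ∧ ∃ g : G, g * x * g⁻¹ = s} =
      ((T : Subgroup G) : Set G) \ {1} := by
    ext s
    constructor
    · rintro ⟨hsN, g, rfl⟩
      have hso : orderOf (g * x * g⁻¹) = 2 := by rw [orderOf_conj_eq, hx]
      refine ⟨mem_sylow_of_mem_normalizer T _ hsN ?_, ?_⟩
      · exact IsPGroup.of_card (n := 1) (by rw [Nat.card_zpowers, hso]; norm_num)
      · intro h1
        rw [Set.mem_singleton_iff] at h1
        rw [h1, orderOf_one] at hso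
        omega
    · rintro ⟨hsT, hs1⟩
      have hs1' : s ≠ 1 := fun e => hs1 (by rw [e]; rfl)
      have hso : orderOf s = 2 := by
        have hs2 : s ^ 2 = 1 := by
          have := Monoid.pow_exponent_eq_one (⟨s, hsT⟩ : (T : Subgroup G))
          rw [hKl.exponent_two] at this
          exact congrArg Subtype.val this
        exact orderOf_eq_prime hs2 hs1'
      refine ⟨le_normalizer hsT, ?_⟩
      obtain ⟨g, hg⟩ := isConj_iff.mp (hconjall x s hx hso)
      exact ⟨g, hg⟩
  have hncard : {s : G | s ∈ normalizer ((T : Subgroup G) : Set G) ∧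
      ∃ g : G, g * x * g⁻¹ = s}.ncard = 3 := by
    rw [hset, Set.ncard_sdiff_singleton_of_mem (one_mem _), ← Nat.card_coe_set_eq]
    change Nat.card (T : Subgroup G) - 1 = 3
    rw [hT]
  have hfixeq := Cfsg.Agent.Lib.Helper17.FixCount.card_mul_card_fixedBy
    (normalizer ((T : Subgroup G) : Set G)) x
  rw [hncard] at hfixeq
  obtain ⟨k, hk⟩ := involution_moved hG (X := G ⧸ normalizer ((T : Subgroup G) : Set G)) x hx2
  have hX : Nat.card (G ⧸ normalizer ((T : Subgroup G) : Set G)) = Nat.card (Sylow 2 G) := hidxN
  rw [hX] at hk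
  have hCx7 : ¬ 7 ∣ Nat.card (centralizer ({x} : Set G)) :=
    not_dvd_card_of_self h7self x hx1 (by rw [hx]; decide) _
      (fun c hc => (mem_centralizer_iff.mp hc x rfl).symm)
  have hCxdvd : Nat.card (centralizer ({x} : Set G)) ∣ 756 :=
    h ▸ Subgroup.card_subgroup_dvd_card _
  have hCTx : centralizer ((T : Subgroup G) : Set G) ≤ centralizer ({x} : Set G) :=
    Subgroup.centralizer_le (Set.singleton_subset_iff.mpr hxT)
  have hCxtop : centralizer ({x} : Set G) ≠ ⊤ := by
    intro htop
    apply hCx7
    rw [htop, Subgroup.card_top, h]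
    norm_num
  have hfCx := two_mul_card_dvd_factorial hG _ hCxtop
  rw [h] at hfCx
  have hciCx := (centralizer ({x} : Set G)).card_mul_index
  rw [h] at hciCx
  have hCx12 : Nat.card (centralizer ({x} : Set G)) = 12 := by
    have key : ∀ cx ∈ Nat.divisors 756, ¬ 7 ∣ cx → ∀ f ≤ 63,
        (36 * f = cx * 3 ∧ 21 % 4 = f % 4) ∨ (12 * f = cx * 3 ∧ 63 % 4 = f % 4) →
        cx = 12 ∨ cx = 108 := by decide
    have hfle : Nat.card (fixedBy (G ⧸ normalizer ((T : Subgroup G) : Set G)) x) ≤ 63 := by
      rcases hCcases with hc | hc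
      · rw [hc] at h252; omega
      · rw [hc] at h252; omega
    have hdisj : (36 * Nat.card (fixedBy (G ⧸ normalizer ((T : Subgroup G) : Set G)) x) =
          Nat.card (centralizer ({x} : Set G)) * 3 ∧
          21 % 4 = Nat.card (fixedBy (G ⧸ normalizer ((T : Subgroup G) : Set G)) x) % 4) ∨
        (12 * Nat.card (fixedBy (G ⧸ normalizer ((T : Subgroup G) : Set G)) x) =
          Nat.card (centralizer ({x} : Set G)) * 3 ∧
          63 % 4 = Nat.card (fixedBy (G ⧸ normalizer ((T : Subgroup G) : Set G)) x) % 4) := by
      rcases hCcases with hc | hc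
      · right
        rw [hc] at h252 hCN
        rw [← hCN] at hfixeq
        constructor
        · exact hfixeq
        · omega
      · left
        rw [hc] at h252 hCN
        rw [← hCN] at hfixeq
        constructor
        · exact hfixeq
        · omega
    rcases key _ (Nat.mem_divisors.mpr ⟨hCxdvd, by norm_num⟩) hCx7 _ hfle hdisj with hc | hc
    · exact hc
    · exfalso
      rw [hc] at hciCx
      have hi7 : (centralizer ({x} : Set G)).index = 7 := by omega
      rw [hi7] at hfCx
      revert hfCx
      decide
  rcases hCcases with hc4 | hc12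
  · -- C(T) = T for every Sylow 2-subgroup
    have hCT4all : ∀ T' : Sylow 2 G, Nat.card (centralizer ((T' : Subgroup G) : Set G)) = 4 := by
      intro T'
      have h1 := hrelT T'
      have h2' := card_normalizer_mul_card_sylow T'
      rw [h] at h2'
      have hpos : 0 < Nat.card (Sylow 2 G) := Nat.card_pos
      have : Nat.card (normalizer ((T' : Subgroup G) : Set G)) =
          Nat.card (normalizer ((T : Subgroup G) : Set G)) :=
        Nat.eq_of_mul_eq_mul_right hpos (h2'.trans hNn.symm)
      omega
    obtain ⟨d, hdC, hd⟩ := exists_mem_orderOf_eq_prime (centralizer ({x} : Set G)) 3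
      (by rw [hCx12]; norm_num)
    have hd1 : d ≠ 1 := by
      rintro rfl
      rw [orderOf_one] at hd
      omega
    have hxd : x * d = d * x := mem_centralizer_iff.mp hdC x rfl
    have hCd7 : ¬ 7 ∣ Nat.card (centralizer ({d} : Set G)) :=
      not_dvd_card_of_self h7self d hd1 (by rw [hd]; decide) _
        (fun c hc => (mem_centralizer_iff.mp hc d rfl).symm)
    have hCd2 : 2 ∣ Nat.card (centralizer ({d} : Set G)) := by
      have hxCd : x ∈ centralizer ({d} : Set G) := by
        rw [mem_centralizer_iff]
        intro y hy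
        rw [Set.mem_singleton_iff] at hy
        subst hy
        exact hxd.symm
      have := orderOf_dvd_card_of_mem hxCd
      rwa [hx] at this
    have hCd4 : ¬ 4 ∣ Nat.card (centralizer ({d} : Set G)) := by
      intro h4
      obtain ⟨T', hT'le, hT'c⟩ := exists_subgroup_le_card_pow_prime (centralizer ({d} : Set G)) 2 2
        (by simpa using h4)
      obtain ⟨T'', hT''⟩ := (IsPGroup.of_card (n := 2) hT'c).exists_le_sylow
      have hTeq : T' = (T'' : Subgroup G) :=
        Subgroup.eq_of_le_of_card_ge hT'' (by rw [hT'c, hS2 T'']; norm_num)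
      have hdT : d ∈ centralizer ((T'' : Subgroup G) : Set G) := by
        rw [mem_centralizer_iff]
        intro y hy
        have hy' : y ∈ centralizer ({d} : Set G) := hT'le (hTeq ▸ hy)
        exact (mem_centralizer_iff.mp hy' d rfl).symm
      have := orderOf_dvd_card_of_mem hdT
      rw [hd, hCT4all T''] at this
      omega
    have hCd9 : 9 ∣ Nat.card (centralizer ({d} : Set G)) := by
      obtain ⟨K, hKc, hKle⟩ := Sylow.exists_subgroup_card_pow_succ (p := 3) (n := 1) (G := G)
        (by rw [h]; norm_num) (H := zpowers d) (by rw [Nat.card_zpowers, hd]; norm_num)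
      have hKab := (IsPGroup.isMulCommutative_of_card_eq_prime_sq (p := 3) (G := K)
        (by rw [hKc])).is_comm.comm
      have hKCd : K ≤ centralizer ({d} : Set G) := by
        intro y hy
        rw [mem_centralizer_iff]
        intro z hz
        rw [Set.mem_singleton_iff] at hz
        subst hz
        have hdK : z ∈ K := hKle (mem_zpowers z)
        exact congrArg Subtype.val (hKab ⟨z, hdK⟩ ⟨y, hy⟩)
      have := Subgroup.card_dvd_of_le hKCd
      rwa [hKc] at this
    have hCddvd : Nat.card (centralizer ({d} : Set G)) ∣ 756 :=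
      h ▸ Subgroup.card_subgroup_dvd_card _
    have hCdcases : Nat.card (centralizer ({d} : Set G)) = 18 ∨
        Nat.card (centralizer ({d} : Set G)) = 54 := by
      have key : ∀ c ∈ Nat.divisors 756, 9 ∣ c → 2 ∣ c → ¬ 4 ∣ c → ¬ 7 ∣ c → c = 18 ∨ c = 54 := by
        decide
      exact key _ (Nat.mem_divisors.mpr ⟨hCddvd, by norm_num⟩) hCd9 hCd2 hCd4 hCd7
    rcases hCdcases with hc18 | hc54
    · obtain ⟨K, hKle, hKc⟩ := exists_subgroup_le_card_pow_prime (centralizer ({d} : Set G)) 3 2
        (by rw [hc18]; norm_num)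
      have hCdN : centralizer ({d} : Set G) ≤ normalizer (K : Set G) := by
        rw [← Subgroup.normal_subgroupOf_iff_le_normalizer hKle]
        apply Subgroup.normal_of_index_eq_two
        have := card_mul_relIndex hKle
        rw [hKc, hc18] at this
        change K.relIndex _ = 2
        omega
      obtain ⟨Q, hKQ⟩ := (IsPGroup.of_card (n := 2) hKc).exists_le_sylow
      have hQc : Nat.card (Q : Subgroup G) = 27 := by
        simpa using card_sylow_subgroup hN3 (by norm_num) Q
      have hQN : (Q : Subgroup G) ≤ normalizer (K : Set G) := by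
        apply le_normalizer_of_relIndex_prime Q.isPGroup' hKQ
        have := card_mul_relIndex hKQ
        rw [hKc, hQc] at this
        omega
      have h18 : 18 ∣ Nat.card (normalizer (K : Set G)) := by
        have := Subgroup.card_dvd_of_le hCdN
        rwa [hc18] at this
      have h27 : 27 ∣ Nat.card (normalizer (K : Set G)) := by
        have := Subgroup.card_dvd_of_le hQN
        rwa [hQc] at this
      have hMdvd : Nat.card (normalizer (K : Set G)) ∣ 756 :=
        h ▸ Subgroup.card_subgroup_dvd_card _
      have hMtop : normalizer (K : Set G) ≠ ⊤ := by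
        intro htop
        have hnorm : K.Normal := Subgroup.normalizer_eq_top_iff.mp htop
        rcases hnorm.eq_bot_or_eq_top with e | e
        · rw [e, Subgroup.card_bot] at hKc; omega
        · rw [e, Subgroup.card_top, h] at hKc; omega
      have hfM := two_mul_card_dvd_factorial hG _ hMtop
      rw [h] at hfM
      have hciM := (normalizer (K : Set G)).card_mul_index
      rw [h] at hciM
      have keyM : ∀ m ∈ Nat.divisors 756, 18 ∣ m → 27 ∣ m →
          m = 54 ∨ m = 108 ∨ m = 378 ∨ m = 756 := by decide
      rcases keyM _ (Nat.mem_divisors.mpr ⟨hMdvd, by norm_num⟩) h18 h27 with hm | hm | hm | hm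
      · have hMQ : normalizer (K : Set G) ≤ normalizer ((Q : Subgroup G) : Set G) := by
          rw [← Subgroup.normal_subgroupOf_iff_le_normalizer hQN]
          apply Subgroup.normal_of_index_eq_two
          have := card_mul_relIndex hQN
          rw [hQc, hm] at this
          change (Q : Subgroup G).relIndex _ = 2
          omega
        have := Subgroup.card_dvd_of_le hMQ
        rw [hm, hNP3 Q] at this
        omega
      · rw [hm] at hciM
        have hi : (normalizer (K : Set G)).index = 7 := by omega
        rw [hi] at hfM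
        revert hfM
        decide
      · rw [hm] at hciM
        have hi : (normalizer (K : Set G)).index = 2 := by omega
        rw [hi] at hfM
        revert hfM
        decide
      · exact hMtop ((Subgroup.card_eq_iff_eq_top _).mp (hm.trans h.symm))
    · obtain ⟨K, hKle, hKc⟩ := exists_subgroup_le_card_pow_prime (centralizer ({d} : Set G)) 3 3
        (by rw [hc54]; norm_num)
      obtain ⟨Q, hKQ⟩ := (IsPGroup.of_card (n := 3) hKc).exists_le_sylow
      have hQc : Nat.card (Q : Subgroup G) = 27 := by
        simpa using card_sylow_subgroup hN3 (by norm_num) Q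
      have hKeq : K = (Q : Subgroup G) :=
        Subgroup.eq_of_le_of_card_ge hKQ (by rw [hKc, hQc]; norm_num)
      have hQle : (Q : Subgroup G) ≤ centralizer ({d} : Set G) := hKeq ▸ hKle
      have hCdN : centralizer ({d} : Set G) ≤ normalizer ((Q : Subgroup G) : Set G) := by
        rw [← Subgroup.normal_subgroupOf_iff_le_normalizer hQle]
        apply Subgroup.normal_of_index_eq_two
        have := card_mul_relIndex hQle
        rw [hQc, hc54] at this
        change (Q : Subgroup G).relIndex _ = 2
        omega
      have := Subgroup.card_dvd_of_le hCdN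
      rw [hc54, hNP3 Q] at this
      omega
  · -- C(x) = C(T): apply S3278
    have hCeq : centralizer ((T : Subgroup G) : Set G) = centralizer ({x} : Set G) :=
      Subgroup.eq_of_le_of_card_ge hCTx (by rw [hc12, hCx12])
    have hTle : (T : Subgroup G) ≤ centralizer ({x} : Set G) := hTC.trans hCTx
    have hrel3 : (T : Subgroup G).relIndex (centralizer ({x} : Set G)) = 3 := by
      have := card_mul_relIndex hTle
      rw [hT, hCx12] at this
      omega
    have hnorm : ((T : Subgroup G).subgroupOf (centralizer ({x} : Set G))).Normal := by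
      rw [Subgroup.normal_subgroupOf_iff_le_normalizer hTle, ← hCeq]
      exact Subgroup.centralizer_le_normalizer _
    obtain ⟨e⟩ := Cfsg.Agent.S3278.result x hx (T : Subgroup G) hTle hKl
      (by rw [hrel3]; decide) hnorm
    have hcard := Nat.card_congr e.toEquiv
    rw [h, card_A5] at hcard
    omega

end Cfsg.Agent.Lib.Helper71.Ord756
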