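import Mathlib
import Cfsg.Agent.Lib.Helper44.PGStmt
import Cfsg.Agent.Lib.Helper40.SSConj

/-! S2474 piece FO1 (helper71): if all eigenvalues of `Z` have order exactly `K`, the root of an
irreducible factor of the characteristic polynomial has order `K` in `AdjoinRoot f`. -/

set_option autoImplicit false

namespace Cfsg.Agent.Lib.Helper71.PGFO1

open Matrix Polynomial
open Cfsg.Agent.Lib.Helper44.PGStmt

universe u

theorem toLin_pow {F : Type*} [Field F] {κ : Type*} [Fintype κ] [DecidableEq κ]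
    (Z : Matrix κ κ F) (i : ℕ) (v : κ → F) : ((Matrix.toLin' Z) ^ i) v = (Z ^ i) *ᵥ v := by
  induction i generalizing v with
  | zero => simp
  | succ i ih =>
    rw [pow_succ, Module.End.mul_apply, ih, Matrix.toLin'_apply, Matrix.mulVec_mulVec, ← pow_succ]

theorem main : RootOrd.{u} := by
  intro F _ _ κ _ _ Z K hK hZK hreg f hf hdvd j
  haveI : Fact (Irreducible f) := ⟨hf⟩
  obtain ⟨v, hv, hfv⟩ := Cfsg.Agent.Lib.Helper40.SSConj.exists_ker_of_dvd_charpoly
    (Matrix.toLin' Z) f hf (by rw [Matrix.charpoly_toLin']; exact hdvd)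
  have key : ∀ i : ℕ, (AdjoinRoot.root f) ^ i = 1 ↔ (Z ^ i) *ᵥ v = v := by
    intro i
    have h1 : (AdjoinRoot.root f) ^ i = 1 ↔ f ∣ X ^ i - 1 := by
      rw [← AdjoinRoot.mk_eq_zero, map_sub, map_pow, AdjoinRoot.mk_X, map_one, sub_eq_zero]
    rw [h1]
    have hev : aeval (Matrix.toLin' Z) (X ^ i - 1 : F[X]) v = (Z ^ i) *ᵥ v - v := by
      rw [map_sub, map_pow, aeval_X, map_one, LinearMap.sub_apply, toLin_pow, Module.End.one_apply]
    constructor
    · rintro ⟨e, he⟩
      have h2 : aeval (Matrix.toLin' Z) (X ^ i - 1 : F[X]) v = 0 := by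
        rw [he, mul_comm, map_mul, Module.End.mul_apply, hfv, map_zero]
      rw [hev, sub_eq_zero] at h2
      exact h2
    · intro hfix
      by_contra hnd
      obtain ⟨a, b, hab⟩ := (Irreducible.coprime_iff_not_dvd hf).mpr hnd
      apply hv
      have h2 : aeval (Matrix.toLin' Z) (a * f + b * (X ^ i - 1)) v = v := by
        rw [hab]
        simp
      rw [map_add, map_mul, map_mul, LinearMap.add_apply, Module.End.mul_apply,
        Module.End.mul_apply, hfv, map_zero, hev, hfix, sub_self, map_zero, add_zero] at h2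
      exact h2.symm
  have hK1 : (AdjoinRoot.root f) ^ K = 1 := (key K).mpr (by rw [hZK, Matrix.one_mulVec])
  have ho : orderOf (AdjoinRoot.root f) ∣ K := orderOf_dvd_of_pow_eq_one hK1
  have hoK : orderOf (AdjoinRoot.root f) = K := by
    by_contra hne
    obtain ⟨m, hm⟩ := ho
    have hm1 : m ≠ 1 := by
      rintro rfl
      exact hne (by rw [hm, mul_one])
    obtain ⟨ℓ, hℓ, hℓm⟩ := Nat.exists_prime_and_dvd hm1
    have hℓK : ℓ ∣ K := by
      rw [hm]
      exact dvd_mul_of_dvd_right hℓm _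
    have hdiv : orderOf (AdjoinRoot.root f) ∣ K / ℓ := by
      obtain ⟨t, rfl⟩ := hℓm
      have : K / ℓ = orderOf (AdjoinRoot.root f) * t := by
        rw [hm, mul_comm ℓ t, ← mul_assoc, Nat.mul_div_cancel _ hℓ.pos]
      rw [this]
      exact dvd_mul_right _ _
    have h3 := (key (K / ℓ)).mp (orderOf_dvd_iff_pow_eq_one.mp hdiv)
    exact hv (hreg ℓ hℓ hℓK v h3)
  rw [← hoK]
  exact orderOf_dvd_iff_pow_eq_one.symm

end Cfsg.Agent.Lib.Helper71.PGFO1
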