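import Mathlib
import Cfsg.Agent.Lib.Helper44.PGStmt

/-! S2474 piece FO3 (helper71): a non-self-reciprocal irreducible factor of a self-reciprocal
polynomial comes with its reciprocal. -/

set_option autoImplicit false

namespace Cfsg.Agent.Lib.Helper71.PGFO3

open Matrix Polynomial
open Cfsg.Agent.Lib.Helper44.PGStmt Cfsg.Agent.Lib.Helper40.RecipPoly

universe u

theorem main : PairDvd.{u} := by
  intro F _ c f hc hc0 hrc hf hfc hnd
  have hf0 : f.coeff 0 ≠ 0 := coeff0_of_dvd hfc hc0
  refine ⟨?_, rstar_natDegree (RingHom.id F) f hf0⟩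
  have hrf : rstar (RingHom.id F) f ∣ c := by
    obtain ⟨e, he⟩ := hfc
    have h1 : rstar (RingHom.id F) c = rstar (RingHom.id F) f * rstar (RingHom.id F) e := by
      rw [he, rstar_mul]
    rw [hrc] at h1
    exact ⟨_, h1⟩
  have hcop : IsCoprime f (rstar (RingHom.id F) f) := (Irreducible.coprime_iff_not_dvd hf).mpr hnd
  exact hcop.mul_dvd hfc hrf

end Cfsg.Agent.Lib.Helper71.PGFO3
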