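import Mathlib
import Cfsg.Agent.Lib.Helper18.R59Stmt

/-!
# S2359 piece ABS (helper71, second seat): the fusion argument.
-/

set_option autoImplicit false

namespace Cfsg.Agent.Lib.Helper71.R59ABS

open Cfsg.Agent.Lib.Helper18.R59Stmt

universe u

variable {G : Type u} [Group G]

/-- Conjugation relation as a semiconjugacy. -/
theorem semiconj_of_conj {x t s : G} (h : x * t * x⁻¹ = s) : SemiconjBy x t s := by
  show x * t = s * x
  rw [← h]
  simp [mul_assoc]

theorem conj_of_commute {x t : G} (h : Commute x t) : x * t * x⁻¹ = t := by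
  rw [h.eq, mul_assoc, mul_inv_cancel, mul_one]

theorem commute_of_conj {x t : G} (h : x * t * x⁻¹ = t) : Commute x t :=
  semiconj_of_conj h

/-- An element whose cube commutes with `t`, in a centraliser without 3-elements. -/
theorem commute_of_cube [Finite G] (a t x : G) (hxa : Commute x a)
    (h3 : ∀ y : G, y * a = a * y → (∃ k : ℕ, y ^ 3 ^ k = 1) → y = 1)
    (hc : Commute (x ^ 3) t) : Commute x t := by
  have hn0 : orderOf x ≠ 0 := (orderOf_pos x).ne'
  have hnd : ¬ 3 ∣ orderOf x := by
    intro hd
    have ho := orderOf_pow_orderOf_div hn0 hd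
    have h1 : x ^ (orderOf x / 3) = 1 := by
      apply h3 _ (hxa.pow_left _).eq
      refine ⟨1, ?_⟩
      have hpo := pow_orderOf_eq_one (x ^ (orderOf x / 3))
      rw [ho] at hpo
      rw [pow_one]
      exact hpo
    rw [h1, orderOf_one] at ho
    omega
  have hcop : Nat.Coprime 3 (orderOf x) := (Nat.Prime.coprime_iff_not_dvd Nat.prime_three).mpr hnd
  obtain ⟨m, hm⟩ := exists_pow_eq_self_of_coprime hcop
  rw [← hm]
  exact hc.pow_left m

/-- The key non-fusion step. -/
theorem key [Finite G] (a t : G) (htt : t * t = 1) (ht1 : t ≠ 1) (hta : Commute t a)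
    (h1 : ∀ v : G, v * v = 1 → v ≠ 1 → Commute v a → Commute t v →
      ∀ x : G, Commute x a → Commute x v → Commute x t)
    (h3 : ∀ y : G, y * a = a * y → (∃ k : ℕ, y ^ 3 ^ k = 1) → y = 1)
    (x s : G) (hxa : Commute x a) (hs : x * t * x⁻¹ = s) (hss : s * s = 1) (hs1 : s ≠ 1)
    (hst : s ≠ t) (hsa : Commute s a) (hsct : Commute s t)
    (hV : ∀ v : G, v * v = 1 → Commute v a → Commute v t → v = 1 ∨ v = t ∨ v = s ∨ v = s * t) :
    False := by
  have htinv : t⁻¹ = t := inv_eq_of_mul_eq_one_right htt
  -- the third involution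
  have hs's' : (s * t) * (s * t) = 1 := by
    rw [hsct.symm.mul_mul_mul_comm, hss, htt, one_mul]
  have hs'1 : s * t ≠ 1 := by
    intro h
    apply hst
    have := eq_inv_of_mul_eq_one_left h
    rw [this, htinv]
  have hs'a : Commute (s * t) a := hsa.mul_left hta
  have hts' : Commute t (s * t) := (hsct.symm).mul_right (Commute.refl t)
  -- the conjugate of s
  set y := x * s * x⁻¹ with hy
  have hyy : y * y = 1 := by
    rw [hy]
    have : x * s * x⁻¹ * (x * s * x⁻¹) = x * (s * s) * x⁻¹ := by simp [mul_assoc]
    rw [this, hss, mul_one, mul_inv_cancel]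
  have hya : Commute y a := (hxa.mul_left hsa).mul_left hxa.inv_left
  have hys : Commute y s := by
    show y * s = s * y
    rw [hy, ← hs]
    have e1 : x * (x * t * x⁻¹) * x⁻¹ * (x * t * x⁻¹) = x * ((x * t * x⁻¹) * t) * x⁻¹ := by
      simp [mul_assoc]
    have e2 : x * t * x⁻¹ * (x * (x * t * x⁻¹) * x⁻¹) = x * (t * (x * t * x⁻¹)) * x⁻¹ := by
      simp [mul_assoc]
    rw [e1, e2, hs, hsct.eq]
  have hyt : Commute y t := h1 s hss hs1 hsa hsct.symm y hya hys
  have hxs : SemiconjBy x t s := semiconj_of_conj hs
  have hxy : SemiconjBy x s y := semiconj_of_conj hy.symm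
  rcases hV y hyy hya hyt with h | h | h | h
  · -- y = 1
    apply hs1
    have : x * s = x := by
      have := hxy.eq
      rw [h, one_mul] at this
      exact this
    exact mul_eq_left.mp this
  · -- y = t : x commutes with s * t
    have hx' : SemiconjBy x (s * t) (s * t) := by
      have := hxy.mul_right hxs
      rw [h, hsct.symm.eq] at this
      exact this
    have hxt : Commute x t := h1 (s * t) hs's' hs'1 hs'a hts' x hxa hx'
    apply hst
    rw [← hs, conj_of_commute hxt]
  · -- y = s
    apply hst
    have e : x * s = x * t := by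
      rw [hxy.eq, hxs.eq, h]
    exact mul_left_cancel e
  · -- y = s * t
    have hx' : SemiconjBy x (s * t) t := by
      have := hxy.mul_right hxs
      rw [h] at this
      have e : s * t * s = t := by
        rw [hsct.eq, mul_assoc, hss, mul_one]
      rw [e] at this
      exact this
    have hxy' : SemiconjBy x s (s * t) := by rw [← h]; exact hxy
    have h3' : SemiconjBy (x * (x * x)) t t := hx'.mul_left (hxy'.mul_left hxs)
    have hc : Commute (x ^ 3) t := by
      have e : x ^ 3 = x * (x * x) := by
        rw [pow_succ, pow_two, mul_assoc]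
      rw [e]
      exact h3'
    have hxt : Commute x t := commute_of_cube a t x hxa h3 hc
    apply hst
    rw [← hs, conj_of_commute hxt]

/-- [ABS] -/
theorem main : ABS.{u} := by
  intro G _ _ a t t' htt ht1 hta ht't' ht'1 ht'ne ht'a ht't hV hinv h3
  have cta : Commute t a := hta
  have ct'a : Commute t' a := ht'a
  have ct't : Commute t' t := ht't
  have htinv : t⁻¹ = t := inv_eq_of_mul_eq_one_right htt
  have ht'inv : t'⁻¹ = t' := inv_eq_of_mul_eq_one_right ht't'
  -- (1)
  have h1 : ∀ v : G, v * v = 1 → v ≠ 1 → Commute v a → Commute t v →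
      ∀ x : G, Commute x a → Commute x v → Commute x t := by
    intro v hv hv1 hva htv x hxa hxv
    exact hinv v hv hv1 hva.eq x t hxa.eq hxv.eq hta htv.eq
  -- (2)
  have h2 : ∀ x s : G, Commute x a → x * t * x⁻¹ = s →
      (s = 1 ∨ s = t ∨ s = t' ∨ s = t * t') → s = t := by
    intro x s hxa hs hcase
    rcases hcase with h | h | h | h
    · exfalso
      apply ht1
      have hx := (semiconj_of_conj hs).eq
      rw [h, one_mul] at hx
      exact mul_eq_left.mp hx
    · exact h
    · exfalso
      rw [h] at hs
      refine key a t htt ht1 cta h1 h3 x t' hxa hs ht't' ht'1 ht'ne ct'a ct't ?_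
      intro v hv hva hvt
      rcases hV v hv hva.eq hvt.eq with h | h | h | h
      · exact Or.inl h
      · exact Or.inr (Or.inl h)
      · exact Or.inr (Or.inr (Or.inl h))
      · exact Or.inr (Or.inr (Or.inr (by rw [h, ct't.eq])))
    · exfalso
      rw [h] at hs
      have hss : (t * t') * (t * t') = 1 := by
        rw [ct't.mul_mul_mul_comm, htt, ht't', one_mul]
      have hs1 : t * t' ≠ 1 := by
        intro h
        apply ht'ne
        have := eq_inv_of_mul_eq_one_right h
        rw [this, htinv]
      have hsne : t * t' ≠ t := by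
        intro h
        exact ht'1 (mul_eq_left.mp h)
      refine key a t htt ht1 cta h1 h3 x (t * t') hxa hs hss hs1 hsne (cta.mul_left ct'a)
        ((Commute.refl t).mul_left ct't) ?_
      intro v hv hva hvt
      have e : t * t' * t = t' := by
        rw [ct't.symm.eq, mul_assoc, htt, mul_one]
      rcases hV v hv hva.eq hvt.eq with h | h | h | h
      · exact Or.inl h
      · exact Or.inr (Or.inl h)
      · exact Or.inr (Or.inr (Or.inr (by rw [h, e])))
      · exact Or.inr (Or.inr (Or.inl h))
  -- (3)
  intro x hxa'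
  have hxa : Commute x a := hxa'
  set u := x * t * x⁻¹ with hu
  have huu : u * u = 1 := by
    rw [hu]
    have : x * t * x⁻¹ * (x * t * x⁻¹) = x * (t * t) * x⁻¹ := by simp [mul_assoc]
    rw [this, htt, mul_one, mul_inv_cancel]
  have huinv : u⁻¹ = u := inv_eq_of_mul_eq_one_right huu
  have hua : Commute u a := (hxa.mul_left cta).mul_left hxa.inv_left
  set w := u * t' with hw
  have hwa : Commute w a := hua.mul_left ct'a
  have hwinv : w⁻¹ = t' * u := by
    rw [hw, mul_inv_rev, huinv, ht'inv]
  -- dihedral relations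
  have hsu : SemiconjBy u w w⁻¹ := by
    show u * w = w⁻¹ * u
    rw [hwinv, hw, ← mul_assoc, huu, one_mul, mul_assoc, huu, mul_one]
  have hst' : SemiconjBy t' w w⁻¹ := by
    show t' * w = w⁻¹ * t'
    rw [hwinv]
    show t' * (u * t') = t' * u * t'
    exact (mul_assoc t' u t').symm
  have hn0 : orderOf w ≠ 0 := (orderOf_pos w).ne'
  suffices hut : u = t by
    exact (commute_of_conj (hu.symm.trans hut)).eq
  rcases Nat.even_or_odd' (orderOf w) with ⟨k, hk | hk⟩
  · -- even order
    have hk0 : k ≠ 0 := by
      rintro rfl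
      exact hn0 (by simpa using hk)
    set z := w ^ k with hz
    have hzz : z * z = 1 := by
      rw [hz, ← pow_add, ← two_mul, ← hk, pow_orderOf_eq_one]
    have hz1 : z ≠ 1 := pow_ne_one_of_lt_orderOf hk0 (by omega)
    have hza : Commute z a := hwa.pow_left k
    have hwk : (w⁻¹) ^ k = w ^ k := by
      rw [inv_pow]
      exact inv_eq_of_mul_eq_one_right hzz
    have hzu : Commute u z := by
      have := hsu.pow_right k
      rw [hwk] at this
      exact this
    have hzt' : Commute t' z := by
      have := hst'.pow_right k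
      rw [hwk] at this
      exact this
    have hut' : u * t' = t' * u :=
      hinv z hzz hz1 hza.eq u t' hua.eq hzu.eq ct'a.eq hzt'.eq
    have hut : Commute u t := h1 t' ht't' ht'1 ct'a ct't.symm u hua hut'
    exact h2 x u hxa hu.symm (hV u huu hua.eq hut.eq)
  · -- odd order
    exfalso
    apply ht'ne
    have hw2k : w ^ (2 * k) = w⁻¹ := by
      have : w ^ (2 * k) * w = 1 := by
        rw [← pow_succ, ← hk, pow_orderOf_eq_one]
      exact eq_inv_of_mul_eq_one_left this
    -- (w^k x) t (w^k x)⁻¹ = t'
    have hconj : (w ^ k * x) * t * (w ^ k * x)⁻¹ = t' := by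
      have e1 : (w ^ k * x) * t * (w ^ k * x)⁻¹ = w ^ k * u * (w ^ k)⁻¹ := by
        rw [hu]
        simp [mul_assoc]
      have e2 : u * (w ^ k)⁻¹ = w ^ k * u := by
        have := (hsu.pow_right k).inv_right
        rw [inv_pow, inv_inv] at this
        exact this.eq
      rw [e1, mul_assoc, e2, ← mul_assoc, ← pow_add, ← two_mul, hw2k, hwinv, mul_assoc, huu,
        mul_one]
    have := h2 (w ^ k * x) t' ((hwa.pow_left k).mul_left hxa) hconj (Or.inr (Or.inr (Or.inl rfl)))
    exact this

end Cfsg.Agent.Lib.Helper71.R59ABS
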