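import Mathlib
import Cfsg.Agent.Lib.Helper39.TLStmt

/-!
# S4404, piece `PW7` (third seat): `p = 7`, `#Y ≤ 7 * #(Y ∩ C(W))`.
-/

set_option autoImplicit false

namespace Cfsg.Agent.Lib.Helper71.TLPW7

open Cfsg Cfsg.Agent.Lib.Helper39.TLStmt

universe u

section

variable {S : Type u} [Group S]

theorem mcomm {M : Subgroup S} (hM : IsElementaryAbelian 2 M) {a b : S} (ha : a ∈ M)
    (hb : b ∈ M) : a * b = b * a :=
  congrArg Subtype.val (hM.1.is_comm.comm ⟨a, ha⟩ ⟨b, hb⟩)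

/-- a reflection maps every subgroup between `V` and `M` into itself -/
theorem refl_conj_mem {M : Subgroup S} {z : S} {V : Subgroup S} (hr : IsRefl M z V)
    {X : Subgroup S} (hVX : V ≤ X) (hXM : X ≤ M) {v : S} (hv : v ∈ X) : z * v * z⁻¹ ∈ X := by
  have h1 : z * v * z⁻¹ = (z * v * z⁻¹ * v⁻¹) * v := by group
  rw [h1]
  exact X.mul_mem (hVX (hr.comm v (hXM hv))) hv

/-- the cube trick -/
theorem inv_conj_eq {M : Subgroup S} {z : S} (hcube : z ^ 3 ∈ Subgroup.centralizer (M : Set S))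
    {v : S} (hv : v ∈ M) : z⁻¹ * v * z = z * (z * v * z⁻¹) * z⁻¹ := by
  have h1 : v * z ^ 3 = z ^ 3 * v := (Subgroup.mem_centralizer_iff.1 hcube) v hv
  have e3 : z ^ 3 = z * z * z := by rw [pow_succ, pow_succ, pow_one]
  rw [e3] at h1
  have h2 : z * z * z * v * (z * z * z)⁻¹ = v := by
    rw [← h1]
    group
  calc z⁻¹ * v * z = z⁻¹ * (z * z * z * v * (z * z * z)⁻¹) * z := by rw [h2]
    _ = z * (z * v * z⁻¹) * z⁻¹ := by group

/-- converse invariance -/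
theorem conj_mem_rev {M : Subgroup S} {z : S} (hcube : z ^ 3 ∈ Subgroup.centralizer (M : Set S))
    {X : Subgroup S} (hXM : X ≤ M) (hX : ∀ v ∈ X, z * v * z⁻¹ ∈ X) {v : S}
    (hv : z * v * z⁻¹ ∈ X) : v ∈ X := by
  have h1 : v = z⁻¹ * (z * v * z⁻¹) * z := by group
  rw [h1, inv_conj_eq hcube (hXM hv)]
  exact hX _ (hX _ hv)

theorem refl_mem_normalizer {M : Subgroup S} {z : S} {V : Subgroup S} (hr : IsRefl M z V)
    {X : Subgroup S} (hVX : V ≤ X) (hXM : X ≤ M) : z ∈ Subgroup.normalizer (X : Set S) := by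
  rw [Subgroup.mem_normalizer_iff]
  intro h
  exact ⟨fun hh => refl_conj_mem hr hVX hXM hh,
    fun hh => conj_mem_rev hr.cube hXM (fun v hv => refl_conj_mem hr hVX hXM hv) hh⟩

/-- every element of `V` is a commutator with the reflection -/
theorem refl_surj [Finite S] {M : Subgroup S} {z : S}
    {V : Subgroup S} (hr : IsRefl M z V) {w : S} (hw : w ∈ V) :
    ∃ w' ∈ V, w = z * w' * z⁻¹ * w'⁻¹ := by
  let φ : ↥V → ↥V := fun a => ⟨z * a * z⁻¹ * (a : S)⁻¹, hr.comm a (hr.le a.2)⟩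
  have hinj : Function.Injective φ := by
    intro a b hab
    have h1 : z * a * z⁻¹ * (a : S)⁻¹ = z * b * z⁻¹ * (b : S)⁻¹ := congrArg Subtype.val hab
    have haM : (a : S) ∈ M := hr.le a.2
    have hbM : (b : S) ∈ M := hr.le b.2
    have hzaM : z * a * z⁻¹ ∈ M := refl_conj_mem hr le_rfl hr.le a.2 |> hr.le
    have hzbM : z * b * z⁻¹ ∈ M := refl_conj_mem hr le_rfl hr.le b.2 |> hr.le
    have h2 : z * ((b : S)⁻¹ * a) * z⁻¹ = (b : S)⁻¹ * a := by
      have e1 : z * ((b : S)⁻¹ * a) * z⁻¹ = (z * b * z⁻¹)⁻¹ * (z * a * z⁻¹) := by group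
      have e2 : z * a * z⁻¹ = z * b * z⁻¹ * (b : S)⁻¹ * a := by
        rw [← h1]
        group
      rw [e1, e2]
      have e3 : (z * b * z⁻¹)⁻¹ * (z * b * z⁻¹ * (b : S)⁻¹ * a) = (b : S)⁻¹ * a := by group
      exact e3
    have h3 := hr.fix _ (V.mul_mem (V.inv_mem b.2) a.2) h2
    apply Subtype.ext
    have h4 : (a : S) = b * ((b : S)⁻¹ * a) := by group
    rw [h4, h3, mul_one]
  obtain ⟨a, ha⟩ := (Finite.injective_iff_surjective.1 hinj) ⟨w, hw⟩
  exact ⟨a, a.2, (congrArg Subtype.val ha).symm⟩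

theorem card_sup_le [Finite S] (A C : Subgroup S) (hcomm : ∀ a ∈ A, ∀ c ∈ C, a * c = c * a) :
    Nat.card ↥(A ⊔ C) ≤ Nat.card ↥A * Nat.card ↥C := by
  have hr := MonoidHom.noncommCoprod_range A.subtype C.subtype (fun a c => hcomm a a.2 c c.2)
  rw [Subgroup.range_subtype, Subgroup.range_subtype] at hr
  rw [← hr, ← Nat.card_prod]
  exact Nat.card_le_card_of_surjective _ (MonoidHom.rangeRestrict_surjective _)

theorem odd_card_of_le [Finite S] {Y : Subgroup S} (hY : IsPGroup 7 ↥Y) {L : Subgroup S}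
    (hL : L ≤ Y) : Odd (Nat.card ↥L) := by
  haveI : Fact (Nat.Prime 7) := ⟨by norm_num⟩
  obtain ⟨n, hn⟩ := IsPGroup.iff_card.1 (hY.to_le hL)
  rw [hn]
  exact Odd.pow (by decide)

theorem eight_le_card [Finite S] {W X : Subgroup S} (hWX : W ≤ X) (hW : Nat.card ↥W = 4)
    {v : S} (hvX : v ∈ X) (hvW : v ∉ W) : 8 ≤ Nat.card ↥X := by
  obtain ⟨k, hk⟩ := Subgroup.card_dvd_of_le hWX
  rw [hW] at hk
  by_contra hlt
  have h4 : Nat.card ↥X ≤ Nat.card ↥W := by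
    rw [hW]
    have : 0 < Nat.card ↥X := Nat.card_pos
    omega
  have := Subgroup.eq_of_le_of_card_ge hWX h4
  exact hvW (this ▸ hvX)

end

/-- the pair / triple lemma -/
theorem ml (hCop : Cop.{u}) (hE : ReflEq.{u}) {S : Type u} [Group S] [Finite S]
    (M : Subgroup S) [hMn : M.Normal] (hM : IsElementaryAbelian 2 M) (Y : Subgroup S)
    (hY : IsPGroup 7 ↥Y) (z₀ z₁ z₂ : S) (V₀ V₁ V₂ : Subgroup S) (h₀ : IsRefl M z₀ V₀)
    (h₁ : IsRefl M z₁ V₁) (h₂ : IsRefl M z₂ V₂) (n₀ : ∀ g ∈ Y, z₀ * g * z₀⁻¹ ∈ Y)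
    (n₁ : ∀ g ∈ Y, z₁ * g * z₁⁻¹ ∈ Y) (n₂ : ∀ g ∈ Y, z₂ * g * z₂⁻¹ ∈ Y)
    (hc : z₁ * z₀⁻¹ ∈ Y) (hne : V₁ ≠ V₀) (hU16 : Nat.card ↥(V₀ ⊔ V₁ ⊔ V₂) ≤ 16) :
    Nat.card ↥(V₀ ⊔ V₁ ⊔ V₂) ≤ 8 := by
  haveI : Fact (Nat.Prime 7) := ⟨by norm_num⟩
  haveI : Fact (Nat.Prime 2) := ⟨Nat.prime_two⟩
  set U := V₀ ⊔ V₁ ⊔ V₂ with hUdef
  have hV₀U : V₀ ≤ U := le_sup_of_le_left le_sup_left
  have hV₁U : V₁ ≤ U := le_sup_of_le_left le_sup_right
  have hV₂U : V₂ ≤ U := le_sup_right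
  have hUM : U ≤ M := sup_le (sup_le h₀.le h₁.le) h₂.le
  have hz₀ := refl_mem_normalizer h₀ hV₀U hUM
  have hz₁ := refl_mem_normalizer h₁ hV₁U hUM
  have hz₂ := refl_mem_normalizer h₂ hV₂U hUM
  set YL : Subgroup S := Y ⊓ Subgroup.normalizer (U : Set S) with hYL
  have hYLY : YL ≤ Y := inf_le_left
  have hYLodd : Odd (Nat.card ↥YL) := odd_card_of_le hY hYLY
  have hYLU : ∀ g ∈ YL, ∀ m ∈ U, g * m * g⁻¹ ∈ U := fun g hg m hm =>
    (Subgroup.mem_normalizer_iff.1 hg.2 m).1 hm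
  set D : Subgroup S :=
    Subgroup.closure {w : S | ∃ g ∈ YL, ∃ m ∈ U, w = g * m * g⁻¹ * m⁻¹} with hD
  have hDU : D ≤ U := by
    refine (Subgroup.closure_le _).2 ?_
    rintro w ⟨g, hg, m, hm, rfl⟩
    exact U.mul_mem (hYLU g hg m hm) (U.inv_mem hm)
  have hDinv : ∀ t : S, (∀ g ∈ YL, t * g * t⁻¹ ∈ YL) → (∀ m ∈ U, t * m * t⁻¹ ∈ U) →
      ∀ d ∈ D, t * d * t⁻¹ ∈ D := by
    intro t ht1 ht2
    have hle : D ≤ D.comap (MulAut.conj t).toMonoidHom := by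
      refine (Subgroup.closure_le _).2 ?_
      rintro w ⟨g, hg, m, hm, rfl⟩
      show t * (g * m * g⁻¹ * m⁻¹) * t⁻¹ ∈ D
      have e : t * (g * m * g⁻¹ * m⁻¹) * t⁻¹
          = (t * g * t⁻¹) * (t * m * t⁻¹) * (t * g * t⁻¹)⁻¹ * (t * m * t⁻¹)⁻¹ := by group
      rw [e]
      exact Subgroup.subset_closure ⟨_, ht1 g hg, _, ht2 m hm, rfl⟩
    exact fun d hd => hle hd
  have hDM : D ≤ M := hDU.trans hUM
  have hfix : ∀ d ∈ D, (∀ g ∈ YL, g * d * g⁻¹ = d) → d = 1 := by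
    intro d hd hfixd
    refine hCop S M hM YL hYLodd d (hDM hd) hfixd ?_
    refine (Subgroup.closure_mono ?_) hd
    rintro w ⟨g, hg, m, hm, rfl⟩
    exact ⟨g, hg, m, hUM hm, rfl⟩
  have hcardD : Nat.card ↥D ≡ 1 [MOD 7] := by
    letI act : MulAction ↥YL ↥D :=
      { smul := fun g d => ⟨(g : S) * d * (g : S)⁻¹,
          hDinv g (fun g' hg' => YL.mul_mem (YL.mul_mem g.2 hg') (YL.inv_mem g.2))
            (fun m hm => hYLU g g.2 m hm) d d.2⟩
        one_smul := fun d => Subtype.ext (by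
          show (1 : S) * d * (1 : S)⁻¹ = d
          group)
        mul_smul := fun g h d => Subtype.ext (by
          show ((g : S) * h) * d * ((g : S) * h)⁻¹ = g * (h * d * (h : S)⁻¹) * (g : S)⁻¹
          group) }
    have h1 := (hY.to_le hYLY).card_modEq_card_fixedPoints ↥D
    have h2 : Nat.card ↥(MulAction.fixedPoints ↥YL ↥D) = 1 := by
      rw [Nat.card_eq_one_iff_unique]
      constructor
      · constructor
        rintro ⟨a, ha⟩ ⟨b, hb⟩
        have ha1 : (a : S) = 1 :=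
          hfix a a.2 (fun g hg => congrArg Subtype.val (ha ⟨g, hg⟩))
        have hb1 : (b : S) = 1 :=
          hfix b b.2 (fun g hg => congrArg Subtype.val (hb ⟨g, hg⟩))
        apply Subtype.ext
        apply Subtype.ext
        rw [ha1, hb1]
      · exact ⟨⟨1, fun g => Subtype.ext (by
          show (g : S) * 1 * (g : S)⁻¹ = 1
          group)⟩⟩
    rw [h2] at h1
    exact h1
  have hU2 : IsPGroup 2 ↥U := by
    intro g
    refine ⟨1, Subtype.ext ?_⟩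
    show (g : S) ^ (2 ^ 1) = 1
    rw [pow_one]
    exact hM.2 g (hUM g.2)
  obtain ⟨k, hk⟩ := IsPGroup.iff_card.1 hU2
  obtain ⟨j, hjk, hj⟩ := (Nat.dvd_prime_pow Nat.prime_two).1 (hk ▸ Subgroup.card_dvd_of_le hDU)
  have hk4 : k ≤ 4 := by
    by_contra h
    have h' : 5 ≤ k := by omega
    have h5 : 2 ^ 5 ≤ 2 ^ k := Nat.pow_le_pow_right (by norm_num) h'
    rw [hk] at hU16
    omega
  have hj03 : j = 0 ∨ j = 3 := by
    rw [hj] at hcardD
    have hj4 : j ≤ 4 := hjk.trans hk4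
    interval_cases j <;> simp [Nat.ModEq] at hcardD ⊢
  rcases hj03 with rfl | rfl
  · exfalso
    have hD1 : ∀ d ∈ D, d = 1 := by
      intro d hd
      have h1 : Nat.card ↥D = 1 := by
        rw [hj]
        rfl
      rw [Subgroup.card_eq_one] at h1
      rw [h1] at hd
      exact Subgroup.mem_bot.1 hd
    have hcYL : z₁ * z₀⁻¹ ∈ YL :=
      ⟨hc, (Subgroup.normalizer (U : Set S)).mul_mem hz₁
        ((Subgroup.normalizer (U : Set S)).inv_mem hz₀)⟩
    have hcU : ∀ m ∈ U, (z₁ * z₀⁻¹) * m * (z₁ * z₀⁻¹)⁻¹ = m := by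
      intro m hm
      have h1 := hD1 _ (Subgroup.subset_closure ⟨z₁ * z₀⁻¹, hcYL, m, hm, rfl⟩)
      calc (z₁ * z₀⁻¹) * m * (z₁ * z₀⁻¹)⁻¹
          = ((z₁ * z₀⁻¹) * m * (z₁ * z₀⁻¹)⁻¹ * m⁻¹) * m := by group
        _ = m := by rw [h1, one_mul]
    have hcM : ∀ m ∈ M, (z₁ * z₀⁻¹) * m * (z₁ * z₀⁻¹)⁻¹ = m := by
      intro m hm
      have hu : (z₁ * z₀⁻¹) * m * (z₁ * z₀⁻¹)⁻¹ * m⁻¹ ∈ U := by
        have hm' : z₀⁻¹ * m * z₀ ∈ M := by
          have h := hMn.conj_mem m hm z₀⁻¹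
          simpa using h
        have h0 : (z₀⁻¹ * m * z₀) * m⁻¹ ∈ V₀ := by
          have h := h₀.comm _ hm'
          have e : z₀ * (z₀⁻¹ * m * z₀) * z₀⁻¹ * (z₀⁻¹ * m * z₀)⁻¹
              = ((z₀⁻¹ * m * z₀) * m⁻¹)⁻¹ := by group
          rw [e] at h
          exact (V₀.inv_mem_iff).1 h
        have h1 := h₁.comm m hm
        have e : (z₁ * z₀⁻¹) * m * (z₁ * z₀⁻¹)⁻¹ * m⁻¹
            = (z₁ * ((z₀⁻¹ * m * z₀) * m⁻¹) * z₁⁻¹) * (z₁ * m * z₁⁻¹ * m⁻¹) := by group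
        rw [e]
        exact U.mul_mem ((Subgroup.mem_normalizer_iff.1 hz₁ _).1 (hV₀U h0)) (hV₁U h1)
      have hcent : Subgroup.zpowers (z₁ * z₀⁻¹) ≤
          Subgroup.centralizer ({(z₁ * z₀⁻¹) * m * (z₁ * z₀⁻¹)⁻¹ * m⁻¹} : Set S) := by
        rw [Subgroup.zpowers_le, Subgroup.mem_centralizer_iff]
        intro h hh
        rw [Set.mem_singleton_iff] at hh
        subst hh
        have h3 := hcU _ hu
        calc ((z₁ * z₀⁻¹) * m * (z₁ * z₀⁻¹)⁻¹ * m⁻¹) * (z₁ * z₀⁻¹)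
            = ((z₁ * z₀⁻¹) * ((z₁ * z₀⁻¹) * m * (z₁ * z₀⁻¹)⁻¹ * m⁻¹) * (z₁ * z₀⁻¹)⁻¹)
                * (z₁ * z₀⁻¹) := by rw [h3]
          _ = (z₁ * z₀⁻¹) * ((z₁ * z₀⁻¹) * m * (z₁ * z₀⁻¹)⁻¹ * m⁻¹) := by group
      have hu1 : (z₁ * z₀⁻¹) * m * (z₁ * z₀⁻¹)⁻¹ * m⁻¹ = 1 := by
        refine hCop S M hM (Subgroup.zpowers (z₁ * z₀⁻¹))
          (odd_card_of_le hY (Subgroup.zpowers_le.2 hc)) _ (hUM hu) ?_
          (Subgroup.subset_closure ⟨z₁ * z₀⁻¹, Subgroup.mem_zpowers _, m, hm, rfl⟩)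
        intro g hg
        have h4 := (Subgroup.mem_centralizer_iff.1 (hcent hg)) _ rfl
        calc g * ((z₁ * z₀⁻¹) * m * (z₁ * z₀⁻¹)⁻¹ * m⁻¹) * g⁻¹
            = (((z₁ * z₀⁻¹) * m * (z₁ * z₀⁻¹)⁻¹ * m⁻¹) * g) * g⁻¹ := by rw [h4]
          _ = (z₁ * z₀⁻¹) * m * (z₁ * z₀⁻¹)⁻¹ * m⁻¹ := by group
      calc (z₁ * z₀⁻¹) * m * (z₁ * z₀⁻¹)⁻¹
          = ((z₁ * z₀⁻¹) * m * (z₁ * z₀⁻¹)⁻¹ * m⁻¹) * m := by group
        _ = m := by rw [hu1, one_mul]
    have hsame : ∀ m ∈ M, z₀ * m * z₀⁻¹ = z₁ * m * z₁⁻¹ := by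
      intro m hm
      have hm' : z₀ * m * z₀⁻¹ ∈ M := hMn.conj_mem m hm z₀
      have h5 := hcM _ hm'
      have e : (z₁ * z₀⁻¹) * (z₀ * m * z₀⁻¹) * (z₁ * z₀⁻¹)⁻¹ = z₁ * m * z₁⁻¹ := by group
      rw [← e, h5]
    exact hne (hE S M hM z₀ z₁ V₀ V₁ h₀ h₁ hsame).symm
  · by_contra hgt
    have hgt' : 8 < 2 ^ k := by
      rw [← hk]
      exact not_le.1 hgt
    have hk' : k = 4 := by
      by_contra hk3
      have hk3' : k ≤ 3 := by omega
      have h7 : 2 ^ k ≤ 2 ^ 3 := Nat.pow_le_pow_right (by norm_num) hk3'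
      omega
    subst hk'
    have hidx : (D.subgroupOf U).index = 2 := by
      have h1 := Subgroup.card_mul_index (D.subgroupOf U)
      have h2 : Nat.card ↥(D.subgroupOf U) = Nat.card ↥D :=
        Nat.card_congr (Subgroup.subgroupOfEquivOfLe hDU).toEquiv
      rw [h2, hj, hk] at h1
      norm_num at h1
      omega
    have hVD : ∀ (z : S) (V : Subgroup S), IsRefl M z V → V ≤ U →
        z ∈ Subgroup.normalizer (U : Set S) → (∀ g ∈ Y, z * g * z⁻¹ ∈ Y) → V ≤ D := by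
      intro z V hr hVU hzN hzY w hw
      obtain ⟨w', hw', rfl⟩ := refl_surj hr hw
      have hzD : ∀ d ∈ D, z * d * z⁻¹ ∈ D :=
        hDinv z (fun g hg => ⟨hzY g hg.1,
          (Subgroup.normalizer (U : Set S)).mul_mem
            ((Subgroup.normalizer (U : Set S)).mul_mem hzN hg.2)
            ((Subgroup.normalizer (U : Set S)).inv_mem hzN)⟩)
          (fun m hm => (Subgroup.mem_normalizer_iff.1 hzN m).1 hm)
      have hw'U : w' ∈ U := hVU hw'
      have hzw'U : z * w' * z⁻¹ ∈ U := (Subgroup.mem_normalizer_iff.1 hzN w').1 hw'U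
      have key := Subgroup.mul_mem_iff_of_index_two hidx (a := ⟨z * w' * z⁻¹, hzw'U⟩)
        (b := ⟨w'⁻¹, U.inv_mem hw'U⟩)
      rw [Subgroup.mem_subgroupOf, Subgroup.mem_subgroupOf, Subgroup.mem_subgroupOf] at key
      refine key.2 ⟨?_, ?_⟩
      · intro h
        exact D.inv_mem (conj_mem_rev hr.cube hDM hzD h)
      · intro h
        exact hzD _ ((D.inv_mem_iff).1 h)
    have hUD : U ≤ D := sup_le (sup_le (hVD z₀ V₀ h₀ hV₀U hz₀ n₀) (hVD z₁ V₁ h₁ hV₁U hz₁ n₁))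
      (hVD z₂ V₂ h₂ hV₂U hz₂ n₂)
    have h6 := Subgroup.card_le_of_le hUD
    rw [hj, hk] at h6
    norm_num at h6

theorem main (hCop : Cop.{u}) (hC : Conj.{u}) (hE : ReflEq.{u}) : PW7.{u} := by
  intro S _ _ M hMn hM Y Q hY hQ x W hxQ hr hxY
  haveI : Fact (Nat.Prime 7) := ⟨by norm_num⟩
  have hrc : ∀ y : S, IsRefl M (y * x * y⁻¹) (W.map (MulAut.conj y).toMonoidHom) :=
    fun y => hC S M x W y hr
  have hcardc : ∀ y : S, Nat.card ↥(W.map (MulAut.conj y).toMonoidHom) = 4 :=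
    fun y => (hrc y).card
  have hnc : ∀ y ∈ Y, ∀ g ∈ Y, (y * x * y⁻¹) * g * (y * x * y⁻¹)⁻¹ ∈ Y := by
    intro y hy g hg
    have e : (y * x * y⁻¹) * g * (y * x * y⁻¹)⁻¹ = y * (x * (y⁻¹ * g * y) * x⁻¹) * y⁻¹ := by
      group
    rw [e]
    exact Y.mul_mem (Y.mul_mem hy (hxY _ (Y.mul_mem (Y.mul_mem (Y.inv_mem hy) hg) hy)))
      (Y.inv_mem hy)
  have hcc : ∀ y ∈ Y, (y * x * y⁻¹) * x⁻¹ ∈ Y := by
    intro y hy
    have e : (y * x * y⁻¹) * x⁻¹ = y * (x * y⁻¹ * x⁻¹) := by group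
    rw [e]
    exact Y.mul_mem hy (hxY _ (Y.inv_mem hy))
  have hWcomm : ∀ (A C : Subgroup S), A ≤ M → C ≤ M → ∀ a ∈ A, ∀ c ∈ C, a * c = c * a :=
    fun A C hA hC' a ha c hc => mcomm hM (hA ha) (hC' hc)
  have hpair : ∀ y ∈ Y, W.map (MulAut.conj y).toMonoidHom ≠ W →
      Nat.card ↥(W ⊔ W.map (MulAut.conj y).toMonoidHom) ≤ 8 := by
    intro y hy hne
    have h16 : Nat.card ↥(W ⊔ W.map (MulAut.conj y).toMonoidHom
        ⊔ W.map (MulAut.conj y).toMonoidHom) ≤ 16 := by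
      rw [sup_assoc, sup_idem]
      calc Nat.card ↥(W ⊔ W.map (MulAut.conj y).toMonoidHom)
          ≤ Nat.card ↥W * Nat.card ↥(W.map (MulAut.conj y).toMonoidHom) :=
            card_sup_le _ _ (hWcomm _ _ hr.le (hrc y).le)
        _ = 16 := by rw [hr.card, hcardc y]
    have h8 := ml hCop hE M hM Y hY x (y * x * y⁻¹) (y * x * y⁻¹) W _ _ hr (hrc y) (hrc y)
      hxY (hnc y hy) (hnc y hy) (hcc y hy) hne h16
    rwa [sup_assoc, sup_idem] at h8
  obtain ⟨B, hB8, hBinv⟩ : ∃ B : Subgroup S, Nat.card ↥B ≤ 8 ∧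
      ∀ y ∈ Y, W.map (MulAut.conj y).toMonoidHom ≤ B := by
    by_cases hall : ∀ y ∈ Y, W.map (MulAut.conj y).toMonoidHom = W
    · exact ⟨W, by rw [hr.card]; norm_num, fun y hy => (hall y hy).le⟩
    · obtain ⟨y₀, hy0⟩ := not_forall.1 hall
      obtain ⟨hy₀, hne₀⟩ := Classical.not_imp.1 hy0
      refine ⟨W ⊔ W.map (MulAut.conj y₀).toMonoidHom, hpair y₀ hy₀ hne₀, ?_⟩
      intro y hy
      by_cases hyW : W.map (MulAut.conj y).toMonoidHom = W
      · rw [hyW]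
        exact le_sup_left
      · have hex : ∃ v ∈ W.map (MulAut.conj y).toMonoidHom, v ∉ W := by
          by_contra hcon
          have hle : W.map (MulAut.conj y).toMonoidHom ≤ W := by
            intro v hv
            by_contra h
            exact hcon ⟨v, hv, h⟩
          exact hyW (Subgroup.eq_of_le_of_card_ge hle (by rw [hr.card, hcardc y]))
        obtain ⟨v, hvV, hvW⟩ := hex
        have hex₁ : ∃ v ∈ W.map (MulAut.conj y₀).toMonoidHom, v ∉ W := by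
          by_contra hcon
          have hle : W.map (MulAut.conj y₀).toMonoidHom ≤ W := by
            intro v hv
            by_contra h
            exact hcon ⟨v, hv, h⟩
          exact hne₀ (Subgroup.eq_of_le_of_card_ge hle (by rw [hr.card, hcardc y₀]))
        obtain ⟨v₁, hv₁V, hv₁W⟩ := hex₁
        have hV₂le : W.map (MulAut.conj y).toMonoidHom ≤ W ⊔ Subgroup.zpowers v := by
          have hle : W ⊔ Subgroup.zpowers v ≤ W ⊔ W.map (MulAut.conj y).toMonoidHom :=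
            sup_le_sup_left (Subgroup.zpowers_le.2 hvV) W
          have h8 : 8 ≤ Nat.card ↥(W ⊔ Subgroup.zpowers v) :=
            eight_le_card le_sup_left hr.card
              ((le_sup_right : Subgroup.zpowers v ≤ W ⊔ Subgroup.zpowers v)
                (Subgroup.mem_zpowers v)) hvW
          have heq := Subgroup.eq_of_le_of_card_ge hle ((hpair y hy hyW).trans h8)
          rw [heq]
          exact le_sup_right
        have hv2 : v ^ 2 = 1 := hM.2 v ((hrc y).le hvV)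
        have hcz : Nat.card ↥(Subgroup.zpowers v) ≤ 2 := by
          rw [Nat.card_zpowers]
          exact Nat.le_of_dvd (by norm_num) (orderOf_dvd_of_pow_eq_one hv2)
        have h16 : Nat.card ↥(W ⊔ W.map (MulAut.conj y₀).toMonoidHom
            ⊔ W.map (MulAut.conj y).toMonoidHom) ≤ 16 := by
          have hle : W ⊔ W.map (MulAut.conj y₀).toMonoidHom ⊔ W.map (MulAut.conj y).toMonoidHom
              ≤ (W ⊔ W.map (MulAut.conj y₀).toMonoidHom) ⊔ Subgroup.zpowers v :=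
            sup_le le_sup_left (hV₂le.trans (sup_le_sup_right le_sup_left _))
          calc Nat.card ↥(W ⊔ W.map (MulAut.conj y₀).toMonoidHom
                ⊔ W.map (MulAut.conj y).toMonoidHom)
              ≤ Nat.card ↥((W ⊔ W.map (MulAut.conj y₀).toMonoidHom) ⊔ Subgroup.zpowers v) :=
                Subgroup.card_le_of_le hle
            _ ≤ Nat.card ↥(W ⊔ W.map (MulAut.conj y₀).toMonoidHom)
                  * Nat.card ↥(Subgroup.zpowers v) :=
                card_sup_le _ _ (hWcomm _ _ (sup_le hr.le (hrc y₀).le)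
                  (Subgroup.zpowers_le.2 ((hrc y).le hvV)))
            _ ≤ 8 * 2 := Nat.mul_le_mul (hpair y₀ hy₀ hne₀) hcz
        have h8 := ml hCop hE M hM Y hY x (y₀ * x * y₀⁻¹) (y * x * y⁻¹) W _ _ hr (hrc y₀)
          (hrc y) hxY (hnc y₀ hy₀) (hnc y hy) (hcc y₀ hy₀) hne₀ h16
        have hB8' : 8 ≤ Nat.card ↥(W ⊔ W.map (MulAut.conj y₀).toMonoidHom) :=
          eight_le_card le_sup_left hr.card
            ((le_sup_right : W.map (MulAut.conj y₀).toMonoidHom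
              ≤ W ⊔ W.map (MulAut.conj y₀).toMonoidHom) hv₁V) hv₁W
        have heq := Subgroup.eq_of_le_of_card_ge
          (le_sup_left : W ⊔ W.map (MulAut.conj y₀).toMonoidHom
            ≤ W ⊔ W.map (MulAut.conj y₀).toMonoidHom ⊔ W.map (MulAut.conj y).toMonoidHom)
          (h8.trans hB8')
        rw [heq]
        exact le_sup_right
  -- the join of all conjugates: invariant, of order at most 8
  set B' : Subgroup S := ⨆ y : ↥Y, W.map (MulAut.conj (y : S)).toMonoidHom with hB'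
  have hB'B : B' ≤ B := iSup_le (fun y => hBinv y y.2)
  have hB'8 : Nat.card ↥B' ≤ 8 := (Subgroup.card_le_of_le hB'B).trans hB8
  have hWB' : W ≤ B' := by
    refine le_trans ?_
      (le_iSup (fun y : ↥Y => W.map (MulAut.conj (y : S)).toMonoidHom) ⟨1, Y.one_mem⟩)
    intro w hw
    refine Subgroup.mem_map.2 ⟨w, hw, ?_⟩
    show (1 : S) * w * (1 : S)⁻¹ = w
    group
  have hB'inv : ∀ y ∈ Y, ∀ b ∈ B', y * b * y⁻¹ ∈ B' := by
    intro y hy
    have hle : B' ≤ B'.comap (MulAut.conj y).toMonoidHom := by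
      refine iSup_le (fun y' => ?_)
      intro b hb
      obtain ⟨w, hw, rfl⟩ := Subgroup.mem_map.1 hb
      show y * ((y' : S) * w * (y' : S)⁻¹) * y⁻¹ ∈ B'
      have hmem : y * ((y' : S) * w * (y' : S)⁻¹) * y⁻¹
          ∈ W.map (MulAut.conj (y * (y' : S))).toMonoidHom := by
        refine Subgroup.mem_map.2 ⟨w, hw, ?_⟩
        show (y * y') * w * (y * (y' : S))⁻¹ = y * ((y' : S) * w * (y' : S)⁻¹) * y⁻¹
        group
      exact (le_iSup (fun y : ↥Y => W.map (MulAut.conj (y : S)).toMonoidHom)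
        ⟨y * y', Y.mul_mem hy y'.2⟩) hmem
    exact fun b hb => hle hb
  obtain ⟨w₀, hw₀W, hw₀1⟩ : ∃ w₀ ∈ W, w₀ ≠ 1 := by
    by_contra hcon
    have hbot : W = ⊥ := by
      rw [eq_bot_iff]
      intro w hw
      by_contra h
      exact hcon ⟨w, hw, h⟩
    have h4 := hr.card
    rw [hbot] at h4
    simp at h4
  letI act : MulAction ↥Y ↥B' :=
    { smul := fun g b => ⟨(g : S) * b * (g : S)⁻¹, hB'inv g g.2 b b.2⟩
      one_smul := fun d => Subtype.ext (by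
        show (1 : S) * d * (1 : S)⁻¹ = d
        group)
      mul_smul := fun g h d => Subtype.ext (by
        show ((g : S) * h) * d * ((g : S) * h)⁻¹ = g * (h * d * (h : S)⁻¹) * (g : S)⁻¹
        group) }
  let b₀ : ↥B' := ⟨w₀, hWB' hw₀W⟩
  have hos : Nat.card ↥(MulAction.orbit ↥Y b₀) * Nat.card ↥(MulAction.stabilizer ↥Y b₀)
      = Nat.card ↥Y := by
    rw [← Nat.card_prod]
    exact Nat.card_congr (MulAction.orbitProdStabilizerEquivGroup ↥Y b₀)
  have horb : Nat.card ↥(MulAction.orbit ↥Y b₀) ≤ 7 := by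
    have h1 : (1 : ↥B') ∉ MulAction.orbit ↥Y b₀ := by
      rintro ⟨g, hg⟩
      have h2 : (g : S) * w₀ * (g : S)⁻¹ = 1 := congrArg Subtype.val hg
      apply hw₀1
      calc w₀ = (g : S)⁻¹ * ((g : S) * w₀ * (g : S)⁻¹) * g := by group
        _ = 1 := by
          rw [h2]
          group
    have h2 : Nat.card ↥(MulAction.orbit ↥Y b₀) < Nat.card ↥B' :=
      Finite.card_subtype_lt (p := fun b => b ∈ MulAction.orbit ↥Y b₀) h1
    omega
  have hStfix : ∀ g ∈ MulAction.stabilizer ↥Y b₀, ∀ b : ↥B', g • b = b := by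
    have hStp : IsPGroup 7 ↥(MulAction.stabilizer ↥Y b₀) := hY.to_subgroup _
    have h1 := hStp.card_modEq_card_fixedPoints ↥B'
    have hf1 : (1 : ↥B') ∈ MulAction.fixedPoints ↥(MulAction.stabilizer ↥Y b₀) ↥B' :=
      fun g => Subtype.ext (by
        show ((g : ↥Y) : S) * 1 * ((g : ↥Y) : S)⁻¹ = 1
        group)
    have hf2 : b₀ ∈ MulAction.fixedPoints ↥(MulAction.stabilizer ↥Y b₀) ↥B' :=
      fun g => MulAction.mem_stabilizer_iff.1 g.2
    have hcard2 : 2 ≤ Nat.card ↥(MulAction.fixedPoints ↥(MulAction.stabilizer ↥Y b₀) ↥B') := by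
      haveI : Nontrivial ↥(MulAction.fixedPoints ↥(MulAction.stabilizer ↥Y b₀) ↥B') :=
        ⟨⟨⟨1, hf1⟩, ⟨b₀, hf2⟩, by
          intro h
          have h3 : (1 : S) = w₀ := congrArg (fun t => ((t : ↥B') : S)) (congrArg Subtype.val h)
          exact hw₀1 h3.symm⟩⟩
      exact Finite.one_lt_card
    have hle : Nat.card ↥(MulAction.fixedPoints ↥(MulAction.stabilizer ↥Y b₀) ↥B')
        ≤ Nat.card ↥B' := Finite.card_subtype_le _
    have heq : Nat.card ↥B'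
        = Nat.card ↥(MulAction.fixedPoints ↥(MulAction.stabilizer ↥Y b₀) ↥B') := by
      unfold Nat.ModEq at h1
      omega
    have hbij := Function.Injective.bijective_of_nat_card_le
      (f := (Subtype.val : ↥(MulAction.fixedPoints ↥(MulAction.stabilizer ↥Y b₀) ↥B') → ↥B'))
      Subtype.val_injective (le_of_eq heq)
    intro g hg b
    obtain ⟨⟨b', hb'⟩, rfl⟩ := hbij.2 b
    exact hb' ⟨g, hg⟩
  have hinj : Nat.card ↥(MulAction.stabilizer ↥Y b₀)
      ≤ Nat.card ↥(Y ⊓ Subgroup.centralizer (W : Set S)) := by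
    let f : ↥(MulAction.stabilizer ↥Y b₀) → ↥(Y ⊓ Subgroup.centralizer (W : Set S)) :=
      fun g => ⟨((g : ↥Y) : S), Subgroup.mem_inf.2 ⟨(g : ↥Y).2, by
        show ((g : ↥Y) : S) ∈ Subgroup.centralizer (W : Set S)
        rw [Subgroup.mem_centralizer_iff]
        intro h hh
        have h2 := hStfix g.1 g.2 ⟨h, hWB' hh⟩
        have h3 : ((g : ↥Y) : S) * h * ((g : ↥Y) : S)⁻¹ = h := congrArg Subtype.val h2
        calc h * ((g : ↥Y) : S)
            = (((g : ↥Y) : S) * h * ((g : ↥Y) : S)⁻¹) * ((g : ↥Y) : S) := by rw [h3]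
          _ = ((g : ↥Y) : S) * h := by group⟩⟩
    refine Nat.card_le_card_of_injective f ?_
    intro a b hab
    have h2 : ((a : ↥Y) : S) = ((b : ↥Y) : S) :=
      congrArg (fun t : ↥(Y ⊓ Subgroup.centralizer (W : Set S)) => (t : S)) hab
    exact Subtype.ext (Subtype.ext h2)
  calc Nat.card ↥Y = Nat.card ↥(MulAction.orbit ↥Y b₀)
        * Nat.card ↥(MulAction.stabilizer ↥Y b₀) := hos.symm
    _ ≤ 7 * Nat.card ↥(Y ⊓ Subgroup.centralizer (W : Set S)) := Nat.mul_le_mul horb hinj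

end Cfsg.Agent.Lib.Helper71.TLPW7
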